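import Mathlib

/-!
# Subfields of a finite field
-/

set_option autoImplicit false

namespace CfsgLib.Aschbacher

variable {F : Type*} [Field F] [Fintype F]

/-- The members of a subfield are the fixed points of the power map by its cardinality. -/
theorem mem_subfield_iff_pow (K : Subfield F) (x : F) : x ∈ K ↔ x ^ Nat.card K = x := by
  classical
  haveI : Fintype K := Fintype.ofFinite K
  constructor
  · intro hx
    have h := congrArg Subtype.val (FiniteField.pow_card (⟨x, hx⟩ : K))
    rw [Nat.card_eq_fintype_card]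
    simpa using h
  · intro hx
    by_contra hxK
    have hq : 1 < Nat.card K := Finite.one_lt_card
    let p : Polynomial F := Polynomial.X ^ Nat.card K - Polynomial.X
    have hp : p ≠ 0 := FiniteField.X_pow_card_sub_X_ne_zero F hq
    have hdeg : p.natDegree = Nat.card K := FiniteField.X_pow_card_sub_X_natDegree_eq F hq
    let S : Finset F := insert x (Finset.univ.image (Subtype.val : K → F))
    have hS : S ⊆ p.roots.toFinset := by
      intro y hy
      rw [Multiset.mem_toFinset, Polynomial.mem_roots hp, Polynomial.IsRoot.def]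
      rcases Finset.mem_insert.1 hy with rfl | hy
      · simp only [p, Polynomial.eval_sub, Polynomial.eval_pow, Polynomial.eval_X, hx, sub_self]
      · obtain ⟨z, -, rfl⟩ := Finset.mem_image.1 hy
        have h := congrArg Subtype.val (FiniteField.pow_card z)
        rw [← Nat.card_eq_fintype_card] at h
        simp only [p, Polynomial.eval_sub, Polynomial.eval_pow, Polynomial.eval_X]
        exact sub_eq_zero.2 (by simpa using h)
    have h1 := Finset.card_le_card hS
    have hnot : x ∉ Finset.univ.image (Subtype.val : K → F) := by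
      rintro h
      obtain ⟨z, -, rfl⟩ := Finset.mem_image.1 h
      exact hxK z.2
    rw [Finset.card_insert_of_notMem hnot, Finset.card_image_of_injective _ Subtype.val_injective,
      Finset.card_univ, ← Nat.card_eq_fintype_card] at h1
    have h2 := p.roots.toFinset_card_le
    have h3 := Polynomial.card_roots' p
    omega

/-- The Frobenius automorphism attached to a subfield. -/
theorem exists_frob (K : Subfield F) :
    ∃ τ : F ≃+* F, (∀ x, τ x = x ^ Nat.card K) ∧ ∀ x, τ x = x ↔ x ∈ K := by
  classical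
  haveI : Fintype K := Fintype.ofFinite K
  let τ := (FiniteField.frobeniusAlgEquivOfAlgebraic K F).toRingEquiv
  have hτ : ∀ x, τ x = x ^ Nat.card K := fun x => by
    rw [Nat.card_eq_fintype_card]
    exact congrFun (FiniteField.coe_frobeniusAlgEquivOfAlgebraic K F) x
  exact ⟨τ, hτ, fun x => by rw [hτ, mem_subfield_iff_pow]⟩

/-- A subfield of every cardinality `p ^ d` with `d` dividing the degree. -/
theorem exists_subfield_pow {p e d : ℕ} [hp : Fact p.Prime] [CharP F p] (hF : Fintype.card F = p ^ e) (hd : d ∣ e)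
    (hd0 : 0 < d) : ∃ K : Subfield F, Nat.card K = p ^ d := by
  classical
  haveI : ExpChar F p := ExpChar.prime hp.out
  let K : Subfield F := (iterateFrobenius F p d).eqLocusField (RingHom.id F)
  have hK : ∀ x, x ∈ K ↔ x ^ p ^ d = x := fun x => Iff.rfl
  refine ⟨K, ?_⟩
  have hQ : 1 < p ^ d := Nat.one_lt_pow hd0.ne' hp.out.one_lt
  have hU : Nat.card Fˣ = p ^ e - 1 := by rw [Nat.card_eq_fintype_card, Fintype.card_units, hF]
  have hdvd : p ^ d - 1 ∣ p ^ e - 1 := by
    obtain ⟨k, rfl⟩ := hd
    rw [pow_mul]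
    simpa using Nat.sub_dvd_pow_sub_pow (p ^ d) 1 k
  have hker : Nat.card (powMonoidHom (p ^ d - 1) : Fˣ →* Fˣ).ker = p ^ d - 1 := by
    rw [IsCyclic.card_powMonoidHom_ker, hU, Nat.gcd_eq_right hdvd]
  let g : Option (powMonoidHom (p ^ d - 1) : Fˣ →* Fˣ).ker → K := fun o => o.elim 0 fun u =>
    ⟨((u : Fˣ) : F), (hK _).2 (by
      have h1 : ((u : Fˣ) : F) ^ (p ^ d - 1) = 1 := by
        have := congrArg Units.val (u.2 : (u : Fˣ) ^ (p ^ d - 1) = 1)
        simpa using this
      have h3 : ((u : Fˣ) : F) ^ (p ^ d - 1 + 1) = ((u : Fˣ) : F) := by rw [pow_succ, h1, one_mul]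
      rwa [Nat.sub_add_cancel hQ.le] at h3)⟩
  have hg : Function.Bijective g := by
    constructor
    · intro a b h
      have h' := congrArg Subtype.val h
      rcases a with _ | a <;> rcases b with _ | b
      · rfl
      · exact absurd h'.symm (Units.ne_zero _)
      · exact absurd h' (Units.ne_zero _)
      · exact congrArg some (Subtype.ext (Units.ext h'))
    · rintro ⟨x, hx⟩
      by_cases hx0 : x = 0
      · exact ⟨none, Subtype.ext hx0.symm⟩
      · refine ⟨some ⟨Units.mk0 x hx0, ?_⟩, Subtype.ext rfl⟩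
        refine Units.ext (mul_left_cancel₀ hx0 ?_)
        rw [powMonoidHom_apply, Units.val_pow_eq_pow_val, Units.val_mk0, ← pow_succ', Nat.sub_add_cancel hQ.le,
          Units.val_one, mul_one]
        exact (hK x).1 hx
  rw [← Nat.card_eq_of_bijective g hg, Finite.card_option, hker]
  omega

/-- A proper subfield lies in one of prime index. -/
theorem exists_prime_index {K : Subfield F} (hK : K ≠ ⊤) :
    ∃ (L : Subfield F) (r : ℕ), r.Prime ∧ Fintype.card F = Nat.card L ^ r ∧ K ≤ L ∧ L ≠ ⊤ := by
  classical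
  haveI : Fintype K := Fintype.ofFinite K
  obtain ⟨p, hp⟩ := CharP.exists F
  haveI : Fact p.Prime := ⟨CharP.char_is_prime F p⟩
  haveI : CharP K p := (RingHom.charP_iff_charP K.subtype p).2 hp
  obtain ⟨d, -, hd⟩ := FiniteField.card K p
  obtain ⟨k, hk⟩ : ∃ k, Fintype.card F = Nat.card K ^ k := ⟨Module.finrank K F, by
    rw [← Nat.card_eq_fintype_card]; exact Module.natCard_eq_pow_finrank⟩
  rw [Nat.card_eq_fintype_card, hd] at hk
  have hk1 : k ≠ 1 := by
    rintro rfl
    rw [pow_one] at hk
    refine hK (SetLike.coe_injective (Set.eq_of_subset_of_ncard_le (Set.subset_univ _) ?_))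
    rw [Subfield.coe_top, Set.ncard_univ, Nat.card_eq_fintype_card, hk, ← hd, ← Nat.card_eq_fintype_card]
    exact le_rfl
  have hk0 : k ≠ 0 := by
    rintro rfl
    rw [pow_zero] at hk
    exact absurd hk Fintype.one_lt_card.ne'
  obtain ⟨r, hr, u, rfl⟩ := Nat.exists_prime_and_dvd hk1
  have hu0 : u ≠ 0 := fun h => hk0 (by rw [h, mul_zero])
  obtain ⟨L, hL⟩ := exists_subfield_pow (p := p) (e := (d : ℕ) * (r * u)) (d := (d : ℕ) * u)
    (by rw [hk, ← pow_mul]) ⟨r, by ring⟩ (Nat.mul_pos d.pos (Nat.pos_of_ne_zero hu0))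
  refine ⟨L, r, hr, ?_, fun x hx => ?_, fun h => ?_⟩
  · rw [hL, hk, ← pow_mul, ← pow_mul]; ring_nf
  · rw [mem_subfield_iff_pow, hL, pow_mul, ← hd]
    exact FiniteField.pow_card_pow u (⟨x, hx⟩ : K) |> congrArg Subtype.val
  · have h1 : Nat.card L = Fintype.card F := by
      rw [h, ← Nat.card_eq_fintype_card]
      exact Nat.card_congr (Equiv.Set.univ F)
    rw [hL, hk, ← pow_mul] at h1
    have h2 := Nat.pow_right_injective (Fact.out : p.Prime).two_le h1
    have h3 : r = 1 := by
      have hpos : 0 < (d : ℕ) * u := Nat.mul_pos d.pos (Nat.pos_of_ne_zero hu0)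
      have h4 : (d : ℕ) * u * r = (d : ℕ) * u * 1 := by rw [mul_one]; linarith
      exact Nat.eq_of_mul_eq_mul_left hpos h4
    exact hr.ne_one h3

end CfsgLib.Aschbacher
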