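import Cfsg.Agent.Lib.Aschbacher.Simple
import Cfsg.Agent.Lib.Aschbacher.Subfield

/-!
# Subfield structures
-/

set_option autoImplicit false

namespace CfsgLib.Aschbacher

open Matrix Module Cfsg
open scoped MatrixGroups

variable {ι : Type} [Fintype ι] [DecidableEq ι] {F : Type*} [Field F] [Fintype F]

omit [Fintype F] in
theorem mem_subfieldSubgroup {K : Subfield F} {P g : GL ι F} {c : F} (hc : c ≠ 0)
    (h : ∀ i j, c * ((P⁻¹ * g * P : GL ι F) : Matrix ι ι F) i j ∈ K) : g ∈ Geo.subfieldSubgroup K P := by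
  classical
  set g' : GL ι F := P⁻¹ * g * P
  let k : Matrix ι ι K := Matrix.of fun i j => ⟨c * (g' : Matrix ι ι F) i j, h i j⟩
  have hk : k.map K.subtype = c • (g' : Matrix ι ι F) := Matrix.ext fun i j => rfl
  have hdet : k.det ≠ 0 := by
    intro h0
    have h1 : (K.subtype) k.det = 0 := by rw [h0, map_zero]
    rw [RingHom.map_det, RingHom.mapMatrix_apply, hk, Matrix.det_smul, mul_eq_zero] at h1
    rcases h1 with h1 | h1
    · exact hc (eq_zero_of_pow_eq_zero h1)
    · exact (g'.isUnit.map (Matrix.detMonoidHom (n := ι) (R := F))).ne_zero h1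
  let kg : GL ι K := GeneralLinearGroup.mkOfDetNeZero k hdet
  have hs : (Units.map (Matrix.scalar ι : F →+* Matrix ι ι F).toMonoidHom (Units.mk0 c hc))⁻¹ ∈ Geo.scalars ι F :=
    inv_mem ⟨_, rfl⟩
  refine ⟨GeneralLinearGroup.map (K.subtype : K →+* F) kg *
    (Units.map (Matrix.scalar ι : F →+* Matrix ι ι F).toMonoidHom (Units.mk0 c hc))⁻¹,
    Subgroup.mul_mem_sup ⟨kg, rfl⟩ hs, ?_⟩
  have hg' : GeneralLinearGroup.map (K.subtype : K →+* F) kg *
      (Units.map (Matrix.scalar ι : F →+* Matrix ι ι F).toMonoidHom (Units.mk0 c hc))⁻¹ = g' := by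
    rw [mul_inv_eq_iff_eq_mul]
    refine Units.ext ?_
    show k.map K.subtype = (g' : Matrix ι ι F) * Matrix.scalar ι c
    rw [hk, Matrix.scalar_apply, ← Matrix.smul_one_eq_diagonal, Matrix.mul_smul, mul_one]
  rw [hg']
  simp [g', mul_assoc]

/-- The normaliser of an absolutely irreducible group over a subfield lies in a subfield group. -/
theorem subfield_of_realisable [Nonempty ι] {H N : Subgroup (GL ι F)} (hN : ∀ h ∈ H, ∀ x ∈ N, h * x * h⁻¹ ∈ N)
    (hfull : Full N) {K : Subfield F} (hK : K ≠ ⊤) (hR : Geo.RealisableOver K (Geo.matrixSet N)) :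
    ∃ (L : Subfield F) (r : ℕ) (P : GL ι F), r.Prime ∧ Fintype.card F = Nat.card L ^ r ∧ L ≠ ⊤ ∧
      H ≤ Geo.subfieldSubgroup L P ∧ ∀ x ∈ N, ∀ i j, ((P⁻¹ * x * P : GL ι F) : Matrix ι ι F) i j ∈ L := by
  classical
  obtain ⟨B, hB⟩ := hR
  obtain ⟨L, r, hr, hcard, hKL, hL⟩ := exists_prime_index hK
  obtain ⟨τ, -, hτ⟩ := exists_frob L
  have hmem : ∀ x ∈ N, ∀ i j, ((B⁻¹⁻¹ * x * B⁻¹ : GL ι F) : Matrix ι ι F) i j ∈ L := fun x hx i j => by
    simpa using hKL (hB _ ⟨x, hx, rfl⟩ i j)
  refine ⟨L, r, B⁻¹, hr, hcard, hL, fun h hh => ?_, hmem⟩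
  let T : GL ι F →* GL ι F := GeneralLinearGroup.map τ.toRingHom
  have hfix : ∀ x ∈ N, T (B * x * B⁻¹) = B * x * B⁻¹ := fun x hx =>
    Units.ext (Matrix.ext fun i j => (hτ _).2 (by simpa using hmem x hx i j))
  set g : GL ι F := B * h * B⁻¹ with hg
  have hcomm : ∀ x ∈ N, B⁻¹ * (g⁻¹ * T g) * B * x = x * (B⁻¹ * (g⁻¹ * T g) * B) := by
    intro x hx
    have h1 := hfix _ (hN h hh x hx)
    have e1 : B * (h * x * h⁻¹) * B⁻¹ = g * (B * x * B⁻¹) * g⁻¹ := by simp [hg, mul_assoc]
    rw [e1, map_mul, map_mul, hfix x hx, map_inv] at h1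
    have h3 : g⁻¹ * T g * (B * x * B⁻¹) = B * x * B⁻¹ * (g⁻¹ * T g) := by
      have h2 := congrArg (fun y => g⁻¹ * y * T g) h1
      simpa [mul_assoc] using h2
    calc B⁻¹ * (g⁻¹ * T g) * B * x = B⁻¹ * (g⁻¹ * T g * (B * x * B⁻¹)) * B := by simp [mul_assoc]
      _ = x * (B⁻¹ * (g⁻¹ * T g) * B) := by rw [h3]; simp [mul_assoc]
  have hsc : g⁻¹ * T g ∈ Geo.scalars ι F := by
    have := Subgroup.Normal.conj_mem inferInstance _ (mem_scalars_of_commute hfull hcomm) B
    simpa [mul_assoc] using this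
  obtain ⟨c, hc⟩ := (Geo.mem_scalars_iff _).1 hsc
  have hTg : ∀ i j, τ ((g : Matrix ι ι F) i j) = (c : F) * (g : Matrix ι ι F) i j := by
    intro i j
    have h1 : ((T g : GL ι F) : Matrix ι ι F) = (c : F) • (g : Matrix ι ι F) := by
      rw [show T g = g * (g⁻¹ * T g) by simp [mul_assoc], Units.val_mul, hc, Matrix.mul_smul, mul_one]
    exact congrFun (congrFun h1 i) j
  obtain ⟨i0, j0, h0⟩ : ∃ i j, (g : Matrix ι ι F) i j ≠ 0 := by
    by_contra! hcon
    exact g.ne_zero (Matrix.ext hcon)
  refine mem_subfieldSubgroup (inv_ne_zero h0) fun i j => (hτ _).1 ?_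
  rw [show (B⁻¹⁻¹ * h * B⁻¹ : GL ι F) = g by simp [hg], map_mul, map_inv₀, hTg, hTg, mul_inv]
  field_simp [c.ne_zero]

/-- A spanning family of matrices closed under products over a subfield is a conjugate of the matrices over it. -/
theorem exists_conj_of_basis [Nonempty ι] {κ : Type*} [Fintype κ] (K : Subfield F) (s : Basis κ F (Matrix ι ι F))
    (h1 : ∀ u, s.repr 1 u ∈ K) (hmul : ∀ u v w, s.repr (s u * s v) w ∈ K) :
    ∃ P : GL ι F, ∀ X, (∀ u, s.repr X u ∈ K) → ∀ i j, (cj P X) i j ∈ K := by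
  classical
  let A0 : Subalgebra K (Matrix ι ι F) :=
    { carrier := {X | ∀ u, s.repr X u ∈ K}
      add_mem' := fun {X Y} hX hY u => by rw [map_add, Finsupp.add_apply]; exact K.add_mem (hX u) (hY u)
      mul_mem' := fun {X Y} hX hY w => by
        rw [← s.sum_repr X, ← s.sum_repr Y, Finset.sum_mul_sum, map_sum, Finsupp.finsetSum_apply]
        refine K.sum_mem fun u _ => ?_
        rw [map_sum, Finsupp.finsetSum_apply]
        refine K.sum_mem fun v _ => ?_
        rw [smul_mul_assoc, mul_smul_comm, map_smul, map_smul, Finsupp.smul_apply, Finsupp.smul_apply, smul_eq_mul,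
          smul_eq_mul]
        exact K.mul_mem (hX u) (K.mul_mem (hY v) (hmul u v w))
      algebraMap_mem' := fun c u => by
        rw [Algebra.algebraMap_eq_smul_one, ← algebraMap_smul F c (1 : Matrix ι ι F), map_smul, Finsupp.smul_apply,
          smul_eq_mul]
        exact K.mul_mem c.2 (h1 u) }
  have hmemA : ∀ X, X ∈ A0 ↔ ∀ u, s.repr X u ∈ K := fun X => Iff.rfl
  have hs : ∀ u, s u ∈ A0 := fun u => (hmemA _).2 fun v => by
    rw [Basis.repr_self, Finsupp.single_apply]
    split
    exacts [K.one_mem, K.zero_mem]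
  haveI : Nontrivial A0 := ⟨0, 1, fun h => zero_ne_one (congrArg Subtype.val h)⟩
  obtain ⟨u0, hu0⟩ : ∃ u, s.repr (1 : Matrix ι ι F) u ≠ 0 := by
    by_contra! hcon
    exact one_ne_zero ((map_eq_zero_iff _ s.repr.injective).1 (Finsupp.ext fun u => by simpa using hcon u))
  haveI : IsSimpleRing A0 := by
    refine IsSimpleRing.of_eq_bot_or_eq_top fun I => ?_
    by_cases hI : I = ⊥
    · exact Or.inl hI
    refine Or.inr ((TwoSidedIdeal.one_mem_iff I).1 ?_)
    obtain ⟨x, hx, hx0⟩ : ∃ x, x ∈ I ∧ x ≠ 0 := by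
      by_contra! hcon
      exact hI (le_bot_iff.1 fun x hx => (TwoSidedIdeal.mem_bot A0).2 (hcon x hx))
    let J : Submodule F (Matrix ι ι F) := Submodule.span F ((fun y : A0 => (y : Matrix ι ι F)) '' {y | y ∈ I})
    have hJ : ∀ X Y, X ∈ J → Y * X ∈ J ∧ X * Y ∈ J := by
      intro X Y hX
      rw [← s.sum_repr Y, Finset.sum_mul, Finset.mul_sum]
      refine ⟨J.sum_mem fun u _ => ?_, J.sum_mem fun u _ => ?_⟩
      · rw [smul_mul_assoc]
        refine J.smul_mem _ ?_
        induction hX using Submodule.span_induction with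
        | mem X hX => obtain ⟨y, hy, rfl⟩ := hX; exact Submodule.subset_span ⟨⟨s u, hs u⟩ * y, I.mul_mem_left _ _ hy, rfl⟩
        | zero => rw [mul_zero]; exact J.zero_mem
        | add A B _ _ hA hB => rw [mul_add]; exact J.add_mem hA hB
        | smul c A _ hA => rw [mul_smul_comm]; exact J.smul_mem c hA
      · rw [mul_smul_comm]
        refine J.smul_mem _ ?_
        induction hX using Submodule.span_induction with
        | mem X hX => obtain ⟨y, hy, rfl⟩ := hX; exact Submodule.subset_span ⟨y * ⟨s u, hs u⟩, I.mul_mem_right _ _ hy, rfl⟩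
        | zero => rw [zero_mul]; exact J.zero_mem
        | add A B _ _ hA hB => rw [add_mul]; exact J.add_mem hA hB
        | smul c A _ hA => rw [smul_mul_assoc]; exact J.smul_mem c hA
    have h1J : (1 : Matrix ι ι F) ∈ J := by
      have hxJ : (x : Matrix ι ι F) ∈ J := Submodule.subset_span ⟨x, hx, rfl⟩
      obtain ⟨i, j, hij⟩ : ∃ i j, (x : Matrix ι ι F) i j ≠ 0 := by
        by_contra! hcon
        exact hx0 (Subtype.ext (Matrix.ext hcon))
      rw [← Matrix.diagonal_one, ← Matrix.sum_single_eq_diagonal (fun _ => (1 : F))]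
      refine J.sum_mem fun k _ => ?_
      have := (hJ _ (Matrix.single j k ((x : Matrix ι ι F) i j)⁻¹) ((hJ _ (Matrix.single k i 1) hxJ).1)).2
      simpa [Matrix.single_mul_mul_single, hij] using this
    obtain ⟨π, hπ⟩ : ∃ π : F →ₗ[K] K, π 1 = 1 := by
      obtain ⟨π, hπ⟩ := (LinearMap.toSpanSingleton K F 1).exists_leftInverse_of_injective
        (LinearMap.ker_eq_bot.2 fun a b hab => by simpa using hab)
      exact ⟨π, by simpa using LinearMap.congr_fun hπ 1⟩
    -- project the coefficients to `K`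
    let proj : Matrix ι ι F → Matrix ι ι F := fun X => ∑ u, (π (s.repr X u) : F) • s u
    have hπK : ∀ (a k : F) (hk : k ∈ K), π (a * k) = π a * ⟨k, hk⟩ := fun a k hk => by
      rw [mul_comm a k, show k * a = (⟨k, hk⟩ : K) • a from rfl, map_smul, smul_eq_mul, mul_comm]
    have hproj : ∀ X ∈ J, ∃ y ∈ I, (y : Matrix ι ι F) = proj X := by
      have key : ∀ X ∈ J, ∀ c : F, ∃ y ∈ I, (y : Matrix ι ι F) = proj (c • X) := by
        intro X hX
        induction hX using Submodule.span_induction with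
        | mem X hX =>
          obtain ⟨y, hy, rfl⟩ := hX
          intro c
          refine ⟨algebraMap K A0 (π c) * y, I.mul_mem_left _ _ hy, ?_⟩
          simp only [proj, map_smul, Finsupp.smul_apply, smul_eq_mul]
          conv_lhs => rw [Subalgebra.coe_mul, ← s.sum_repr (y : Matrix ι ι F), Finset.mul_sum]
          refine Finset.sum_congr rfl fun u _ => ?_
          rw [hπK _ _ ((hmemA _).1 y.2 u), Subalgebra.coe_algebraMap, Algebra.algebraMap_eq_smul_one,
            ← algebraMap_smul F (π c), smul_mul_assoc, one_mul, smul_smul]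
          rfl
        | zero => exact fun c => ⟨0, I.zero_mem, by simp [proj]⟩
        | add A B _ _ hA hB =>
          intro c
          obtain ⟨a, ha, ha'⟩ := hA c
          obtain ⟨b, hb, hb'⟩ := hB c
          refine ⟨a + b, I.add_mem ha hb, ?_⟩
          simp [proj, smul_add, ha', hb', add_smul, Finset.sum_add_distrib]
        | smul d A _ hA =>
          intro c
          rw [smul_smul]
          exact hA (c * d)
      intro X hX
      simpa using key X hX 1
    obtain ⟨y, hy, hy'⟩ := hproj 1 h1J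
    convert hy
    refine Subtype.ext ?_
    rw [hy', OneMemClass.coe_one]
    conv_lhs => rw [← s.sum_repr (1 : Matrix ι ι F)]
    refine Finset.sum_congr rfl fun u _ => congrArg (· • s u) ?_
    have := hπK 1 _ (h1 u)
    rw [one_mul, hπ, one_mul] at this
    rw [this]
  haveI : Finite A0 := inferInstance
  haveI : IsArtinianRing A0 := isArtinian_of_finite
  obtain ⟨a, ha, D, iD, iA, iF, ⟨e⟩⟩ := IsSimpleRing.exists_algEquiv_matrix_divisionRing_finite K A0
  haveI := ha
  haveI : Finite D := Module.finite_of_finite K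
  have hcomm : ∀ x y : D, x * y = y * x := (Finite.isDomain_to_isField D).mul_comm
  have hbij : Function.Bijective (Algebra.ofId K D) := by
    refine ⟨RingHom.injective _, fun d => ?_⟩
    set X := e.symm (Matrix.scalar (Fin a) d) with hX
    have hXc : ∀ Y : Matrix ι ι F, (X : Matrix ι ι F) * Y = Y * X := fun Y => by
      rw [← s.sum_repr Y, Finset.mul_sum, Finset.sum_mul]
      refine Finset.sum_congr rfl fun u _ => ?_
      rw [mul_smul_comm, smul_mul_assoc]
      congr 1
      have h2 : X * ⟨s u, hs u⟩ = ⟨s u, hs u⟩ * X := e.injective (by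
        rw [map_mul, map_mul, hX, AlgEquiv.apply_symm_apply]
        exact (Matrix.scalar_commute d (fun r => hcomm d r) _).eq)
      exact congrArg Subtype.val h2
    obtain ⟨c, hc⟩ := Matrix.mem_range_scalar_of_commute_single (M := (X : Matrix ι ι F))
      fun i j _ => (hXc _).symm
    rw [Matrix.scalar_apply, ← Matrix.smul_one_eq_diagonal] at hc
    have hcK : c ∈ K := by
      have h2 := (hmemA _).1 X.2 u0
      rw [← hc, map_smul, Finsupp.smul_apply, smul_eq_mul] at h2
      have h3 := K.mul_mem h2 (K.inv_mem (h1 u0))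
      rwa [mul_assoc, mul_inv_cancel₀ hu0, mul_one] at h3
    refine ⟨⟨c, hcK⟩, ?_⟩
    have hXe : X = algebraMap K A0 ⟨c, hcK⟩ := Subtype.ext (by
      rw [Subalgebra.coe_algebraMap, Algebra.algebraMap_eq_smul_one, ← hc]
      exact algebraMap_smul F (⟨c, hcK⟩ : K) (1 : Matrix ι ι F))
    have h4 := congrArg e hXe
    rw [hX, AlgEquiv.apply_symm_apply, e.commutes] at h4
    have h5 := congrFun (congrFun h4 0) 0
    simpa [Matrix.algebraMap_matrix_apply] using h5.symm
  let φ : Matrix (Fin a) (Fin a) K ≃ₐ[K] A0 := ((AlgEquiv.ofBijective _ hbij).mapMatrix).trans e.symm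
  -- sizes
  let eA : A0 ≃ (κ → K) :=
    { toFun := fun X u => ⟨s.repr (X : Matrix ι ι F) u, (hmemA _).1 X.2 u⟩
      invFun := fun f => ⟨∑ u, (f u : F) • s u, (hmemA _).2 fun u => by rw [s.repr_sum_self]; exact (f u).2⟩
      left_inv := fun X => Subtype.ext (s.sum_repr _)
      right_inv := fun f => funext fun u => Subtype.ext (congrFun (s.repr_sum_self _) u) }
  have hκ : Fintype.card κ = Fintype.card ι * Fintype.card ι := by
    rw [← Fintype.card_prod, ← Module.finrank_eq_card_basis s, Module.finrank_eq_card_basis (Matrix.stdBasis F ι ι)]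
  have ha2 : a * a = Fintype.card ι * Fintype.card ι := by
    have h2 := (Nat.card_congr φ.toEquiv).trans (Nat.card_congr eA)
    rw [Module.natCard_eq_pow_finrank (K := K), Module.finrank_matrix, Module.finrank_self, mul_one, Nat.card_fun,
      Nat.card_eq_fintype_card (α := κ), hκ, Fintype.card_fin] at h2
    exact Nat.pow_right_injective Finite.one_lt_card h2
  let E : Fin a → Fin a → Matrix ι ι F := fun i j => (φ (Matrix.single i j 1) : Matrix ι ι F)
  have hE : ∀ i j k l, E i j * E k l = if j = k then E i l else 0 := by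
    intro i j k l
    simp only [E, ← Subalgebra.coe_mul, ← map_mul]
    split
    · next h => subst h; rw [Matrix.single_mul_single_same, mul_one]
    · next h => rw [Matrix.single_mul_single_of_ne _ _ _ _ h, map_zero, ZeroMemClass.coe_zero]
  have hsum : ∀ Y : Matrix (Fin a) (Fin a) K, (φ Y : Matrix ι ι F) = ∑ i, ∑ j, (Y i j : F) • E i j := by
    intro Y
    conv_lhs => rw [Matrix.matrix_eq_sum_single Y]
    simp only [map_sum, AddSubmonoidClass.coe_finset_sum, E]
    refine Finset.sum_congr rfl fun i _ => Finset.sum_congr rfl fun j _ => ?_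
    rw [show Matrix.single i j (Y i j) = Y i j • Matrix.single i j (1 : K) by simp, map_smul, Subalgebra.coe_smul]
    rfl
  let φF : Matrix (Fin a) (Fin a) F →ₐ[F] Matrix ι ι F := AlgHom.ofLinearMap
    { toFun := fun X => ∑ i, ∑ j, X i j • E i j
      map_add' := fun X Y => by simp [add_smul, Finset.sum_add_distrib]
      map_smul' := fun c X => by simp [Finset.smul_sum, smul_smul] }
    (by
      show ∑ i, ∑ j, (1 : Matrix (Fin a) (Fin a) F) i j • E i j = 1
      rw [← OneMemClass.coe_one A0, ← map_one φ, hsum]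
      refine Finset.sum_congr rfl fun i _ => Finset.sum_congr rfl fun j _ => ?_
      rw [Matrix.one_apply, Matrix.one_apply]
      split <;> rfl)
    (fun X Y => by
      show ∑ i, ∑ l, (X * Y) i l • E i l = (∑ i, ∑ j, X i j • E i j) * ∑ k, ∑ l, Y k l • E k l
      rw [Finset.sum_mul]
      refine Finset.sum_congr rfl fun i _ => ?_
      rw [Finset.sum_mul]
      simp only [Matrix.mul_apply, Finset.sum_smul]
      rw [Finset.sum_comm]
      refine Finset.sum_congr rfl fun j _ => ?_
      rw [Finset.mul_sum]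
      refine Eq.trans ?_ (Finset.sum_eq_single j (fun k _ hk => ?_) (by simp)).symm
      · rw [Finset.mul_sum]
        refine Finset.sum_congr rfl fun l _ => ?_
        rw [smul_mul_assoc, mul_smul_comm, smul_smul, hE, if_pos rfl]
      · rw [Finset.mul_sum]
        refine Finset.sum_eq_zero fun l _ => ?_
        rw [smul_mul_assoc, mul_smul_comm, hE, if_neg (Ne.symm hk), smul_zero, smul_zero])
  obtain ⟨b, e', P, -, hP⟩ := exists_split (Nat.pos_of_ne_zero (NeZero.ne a)) φF
  have hb : b = 1 := by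
    have h2 : Fintype.card ι = a * b := by rw [Fintype.card_congr e']; simp
    have hι : 0 < Fintype.card ι := Fintype.card_pos
    have h3 : a = Fintype.card ι := Nat.mul_self_inj.1 ha2
    rw [← h3] at h2
    exact Nat.eq_of_mul_eq_mul_left (h3 ▸ hι) (by rw [mul_one]; exact h2.symm)
  subst hb
  refine ⟨P⁻¹, fun X hX i j => ?_⟩
  obtain ⟨Y, hY⟩ := φ.surjective ⟨X, (hmemA _).2 hX⟩
  have hXP : X = cj P (kl e' (Y.map K.subtype)) := by
    rw [← hP, ← show (φ Y : Matrix ι ι F) = X from congrArg Subtype.val hY, hsum]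
    rfl
  rw [hXP, cj_inv_self]
  show (Y.map K.subtype) (e' i).1 (e' j).1 * (1 : Matrix (Fin 1) (Fin 1) F) (e' i).2 (e' j).2 ∈ K
  rw [Subsingleton.elim (e' i).2 (e' j).2, Matrix.one_apply_eq, mul_one]
  exact (Y _ _).2

/-- A group whose elements have coordinates in a subfield for a basis closed under products is realisable over it. -/
theorem realisableOver_of_basis [Nonempty ι] {κ : Type*} [Fintype κ] (K : Subfield F) (s : Basis κ F (Matrix ι ι F))
    (h1 : ∀ u, s.repr 1 u ∈ K) (hmul : ∀ u v w, s.repr (s u * s v) w ∈ K) {S : Set (Matrix ι ι F)}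
    (hS : ∀ X ∈ S, ∀ u, s.repr X u ∈ K) : Geo.RealisableOver K S := by
  obtain ⟨P, hP⟩ := exists_conj_of_basis K s h1 hmul
  exact ⟨P, fun X hX => hP X (hS X hX)⟩

end CfsgLib.Aschbacher
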