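import Cfsg.Agent.Lib.Aschbacher.UnitaryBasic
import Cfsg.Agent.Lib.Aschbacher.Rational

/-!
# Unitary case: subfield subgroups
-/

set_option autoImplicit false

namespace CfsgLib.Aschbacher

open Matrix Module Cfsg
open scoped MatrixGroups

variable {F : Type*} [Field F] [Fintype F] {q n : ℕ} {σ : F ≃+* F}

theorem QAut.exists_fixed_subfield (hσ : QAut q σ) :
    ∃ K : Subfield F, (∀ x, x ∈ K ↔ σ x = x) ∧ Fintype.card F = Nat.card K ^ 2 := by
  classical
  let K : Subfield F := σ.toRingHom.eqLocusField (RingHom.id F)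
  have hK : ∀ x, x ∈ K ↔ σ x = x := fun x => Iff.rfl
  refine ⟨K, hK, ?_⟩
  obtain ⟨a, ha⟩ := hσ.exists_ne
  have hne : a - σ a ≠ 0 := sub_ne_zero.2 (Ne.symm ha)
  let φ : F → K × K := fun x => (⟨x + σ x, by rw [hK, map_add, hσ.invol, add_comm]⟩,
    ⟨a * x + σ a * σ x, by rw [hK, map_add, map_mul, map_mul, hσ.invol, hσ.invol, add_comm]⟩)
  have hφ : Function.Bijective φ := by
    constructor
    · intro x y h
      have h1 : x + σ x = y + σ y := congrArg (fun p : K × K => (p.1 : F)) h
      have h2 : a * x + σ a * σ x = a * y + σ a * σ y := congrArg (fun p : K × K => (p.2 : F)) h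
      exact mul_left_cancel₀ hne (by linear_combination h2 - σ a * h1)
    · rintro ⟨⟨s, hs⟩, ⟨u, hu⟩⟩
      rw [hK] at hs hu
      have hne' : σ a - a ≠ 0 := sub_ne_zero.2 ha
      have hadj : σ ((u - σ a * s) / (a - σ a)) = (u - a * s) / (σ a - a) := by
        rw [map_div₀, map_sub, map_sub, map_mul, hσ.invol, hs, hu]
      refine ⟨(u - σ a * s) / (a - σ a), Prod.ext (Subtype.ext ?_) (Subtype.ext ?_)⟩
      · show (u - σ a * s) / (a - σ a) + σ _ = s
        rw [hadj]; field_simp; ring
      · show a * ((u - σ a * s) / (a - σ a)) + σ a * σ _ = u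
        rw [hadj]; field_simp; ring
  rw [← Nat.card_eq_fintype_card, Nat.card_eq_of_bijective φ hφ, Nat.card_prod, pow_two]

theorem odd_q (hσ : QAut q σ) (h2 : (2 : F) ≠ 0) : Odd q := by
  have h : Odd (Fintype.card F) :=
    Nat.odd_iff.2 (FiniteField.odd_card_of_char_ne_two fun h => h2 ((ringChar.spec F 2).2 (h ▸ dvd_rfl)))
  rw [hσ.card, Nat.odd_pow_iff two_ne_zero] at h
  exact h

/-- A semilinear involution has a basis of fixed vectors. -/
theorem exists_fixed_basis (hσ : QAut q σ) {ι : Type} [Fintype ι] [DecidableEq ι] {C : Matrix ι ι F}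
    (hC : C * C.map σ = 1) : ∃ P : GL ι F, C * (P : Matrix ι ι F).map σ = (P : Matrix ι ι F) := by
  classical
  obtain ⟨a, ha⟩ := hσ.exists_ne
  let θ : (ι → F) → (ι → F) := fun v => C *ᵥ (σ ∘ v)
  have hcomp : ∀ v : ι → F, σ ∘ (C *ᵥ v) = C.map σ *ᵥ (σ ∘ v) := fun v => map_comp_mulVec σ.toRingHom C v
  have hθθ : ∀ v, θ (θ v) = v := fun v => by
    simp only [θ, hcomp, mulVec_mulVec, hC, one_mulVec]
    funext i; simp [hσ.invol]
  have hadd : ∀ u v, θ (u + v) = θ u + θ v := fun u v => by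
    simp only [θ]
    rw [← mulVec_add]
    exact congrArg _ (funext fun i => map_add σ _ _)
  have hsmul : ∀ (c : F) v, θ (c • v) = σ c • θ v := fun c v => by
    simp only [θ]
    rw [← mulVec_smul]
    exact congrArg _ (funext fun i => map_mul σ _ _)
  let S : Set (ι → F) := {v | θ v = v}
  have hspan : ⊤ ≤ Submodule.span F S := by
    intro v _
    have h1 : v + θ v ∈ S := by show θ (v + θ v) = _; rw [hadd, hθθ, add_comm]
    have h2 : a • v + σ a • θ v ∈ S := by
      show θ _ = _
      rw [hadd, hsmul, hsmul, hθθ, hσ.invol, add_comm]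
    have e : v = (a - σ a)⁻¹ • ((a • v + σ a • θ v) - σ a • (v + θ v)) := by
      rw [eq_inv_smul_iff₀ (sub_ne_zero.2 (Ne.symm ha))]
      module
    rw [e]
    exact Submodule.smul_mem _ _ (Submodule.sub_mem _ (Submodule.subset_span h2)
      (Submodule.smul_mem _ _ (Submodule.subset_span h1)))
  let b₀ := Basis.ofSpan hspan
  let b := b₀.reindex (b₀.indexEquiv (Pi.basisFun F ι))
  have hb : ∀ i, θ (b i) = b i := fun i => by
    have : b i ∈ S := by
      rw [Basis.reindex_apply]
      exact Basis.ofSpan_subset hspan ⟨_, rfl⟩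
    exact this
  let M : Matrix ι ι F := Matrix.of fun i j => b j i
  have hM : IsUnit M := by
    rw [← Matrix.linearIndependent_cols_iff_isUnit]
    exact b.linearIndependent
  refine ⟨hM.unit, Matrix.ext fun i j => ?_⟩
  exact congrFun (hb j) i

/-- Similitudes of a compatible bilinear form inside the unitary group lie in a subfield group of index two. -/
theorem subfield_of_bilinear (hσ : QAut q σ) {H : Subgroup (GL (Fin n) F)} (hn : 0 < n) (hH : H ≤ GU n F q)
    {B : Matrix (Fin n) (Fin n) F} (hB : IsUnit B) {ε : F} (hεT : Bᵀ = ε • B) (hε : ε = 1 ∨ ε = -1)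
    (halt : ((2 : F) = 0 ∨ ε = -1) → ∀ i, B i i = 0) {δ : F} (hδ : B * B.map σ = δ • (1 : Matrix (Fin n) (Fin n) F))
    (hsim : H ≤ Geo.similarityGroup (gf (RingHom.id F) B)) :
    (∃ (K : Subfield F) (P : GL (Fin n) F) (ζ : F), Even n ∧ Fintype.card F = Nat.card K ^ 2 ∧ ζ ≠ 0 ∧ ζ + ζ ^ q = 0 ∧
      Geo.IsFormRationalStructure (hermForm n F q) K ζ P ∧
      (∀ u : Fin n → F, (∀ i, u i ∈ K) →
        hermForm n F q ((P : Matrix (Fin n) (Fin n) F) *ᵥ u) ((P : Matrix (Fin n) (Fin n) F) *ᵥ u) = 0) ∧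
      H ≤ Geo.subfieldSubgroup K P) ∨
    (∃ (K : Subfield F) (P : GL (Fin n) F), Odd q ∧ Fintype.card F = Nat.card K ^ 2 ∧
      Geo.IsFormRationalStructure (hermForm n F q) K 1 P ∧ H ≤ Geo.subfieldSubgroup K P) := by
  classical
  have hiso : H ≤ isoGroup σ := gu_eq_isoGroup hσ ▸ hH
  haveI : Nonempty (Fin n) := ⟨⟨0, hn⟩⟩
  obtain ⟨K, hKmem, hKcard⟩ := hσ.exists_fixed_subfield
  obtain ⟨Bu, rfl⟩ := hB
  set B : Matrix (Fin n) (Fin n) F := (Bu : Matrix (Fin n) (Fin n) F) with hBdef
  set Bi : Matrix (Fin n) (Fin n) F := ((Bu⁻¹ : (Matrix (Fin n) (Fin n) F)ˣ) : Matrix (Fin n) (Fin n) F) with hBi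
  have hBiB : Bi * B = 1 := Bu.inv_mul
  have hBBi : B * Bi = 1 := Bu.mul_inv
  have hδ0 : δ ≠ 0 := fun h0 => by
    rw [h0, zero_smul] at hδ
    exact not_isUnit_zero (hδ ▸ (Bu.isUnit.mul (Bu.isUnit.map σ.toRingHom.mapMatrix)) : IsUnit (0 : Matrix (Fin n) (Fin n) F))
  have hσB : B.map σ = δ • Bi := by
    calc B.map σ = Bi * B * B.map σ := by rw [hBiB, one_mul]
      _ = δ • Bi := by rw [mul_assoc, hδ, Matrix.mul_smul, mul_one]
  have hδσ : σ δ = δ := by
    have h1 := congrArg (fun M : Matrix (Fin n) (Fin n) F => M.map σ) hδ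
    simp only [Matrix.map_mul] at h1
    have h2 : (B.map σ).map σ = B := by ext; simp [hσ.invol]
    have h3 : ((δ • (1 : Matrix (Fin n) (Fin n) F)).map σ) = σ δ • 1 := by
      ext i j
      by_cases hij : i = j <;> simp [hij]
    rw [h2, h3, hσB, Matrix.smul_mul, hBiB] at h1
    exact (smul_left_injective F (one_ne_zero (α := Matrix (Fin n) (Fin n) F)) h1).symm
  obtain ⟨l, hl⟩ := hσ.exists_norm hδσ
  have hl0 : l ≠ 0 := fun h => hδ0 (by rw [← hl, h, zero_mul])
  have hBiσ : Bi.map σ = δ⁻¹ • B := by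
    have h1 : B.map σ * Bi.map σ = 1 := by
      rw [← Matrix.map_mul, hBBi, Matrix.map_one σ (map_zero σ) (map_one σ)]
    have h2 : δ • Bi.map σ = B := by
      calc δ • Bi.map σ = (B * B.map σ) * Bi.map σ := by rw [hδ, Matrix.smul_mul, one_mul]
        _ = B := by rw [mul_assoc, h1, mul_one]
    rw [← h2, smul_smul, inv_mul_cancel₀ hδ0, one_smul]
  have hC : (l • Bi) * (l • Bi).map σ = 1 := by
    rw [show (l • Bi).map σ = σ l • Bi.map σ from Matrix.ext fun i j => map_mul σ _ _, hBiσ, Matrix.smul_mul,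
      Matrix.mul_smul, Matrix.mul_smul, hBiB, smul_smul, smul_smul, hl, mul_inv_cancel₀ hδ0, one_smul]
  obtain ⟨P, hP⟩ := exists_fixed_basis hσ hC
  set Pm : Matrix (Fin n) (Fin n) F := (P : Matrix (Fin n) (Fin n) F)
  have hσP : Pm.map σ = l⁻¹ • (B * Pm) := by
    conv_rhs => rw [← hP, Matrix.smul_mul, Matrix.mul_smul, smul_smul, inv_mul_cancel₀ hl0, one_smul, ← mul_assoc, hBBi, one_mul]
  have hle : H ≤ Geo.subfieldSubgroup K P := by
    intro g hg
    obtain ⟨c, hc⟩ := mem_similarityGroup_gf.1 (hsim hg)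
    have hid : (g : Matrix (Fin n) (Fin n) F).map (RingHom.id F) = g := Matrix.ext fun _ _ => rfl
    rw [hid] at hc
    have hgσ : (g : Matrix (Fin n) (Fin n) F).map σ * B = (c : F)⁻¹ • (B * g) := by
      have h1 : ((g : Matrix (Fin n) (Fin n) F)ᵀ * B * g) = (c : F) • B := hc
      have h2 : (g : Matrix (Fin n) (Fin n) F).map σ * (g : Matrix (Fin n) (Fin n) F)ᵀ = 1 :=
        mul_eq_one_comm.1 (hiso hg)
      have h3 : (c : F) • ((g : Matrix (Fin n) (Fin n) F).map σ * B) = B * g := by
        rw [← Matrix.mul_smul, ← h1, ← mul_assoc, ← mul_assoc, h2, one_mul]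
      rw [← h3, smul_smul, inv_mul_cancel₀ c.ne_zero, one_smul]
    set g' : GL (Fin n) F := P⁻¹ * g * P with hg'
    have hσg' : (g' : Matrix (Fin n) (Fin n) F).map σ = (c : F)⁻¹ • (g' : Matrix (Fin n) (Fin n) F) := by
      have e1 : Pm.map σ * (g' : Matrix (Fin n) (Fin n) F).map σ = (g : Matrix (Fin n) (Fin n) F).map σ * Pm.map σ := by
        rw [← Matrix.map_mul, ← Matrix.map_mul]
        exact congrArg (fun X : Matrix (Fin n) (Fin n) F => X.map σ)
          (congrArg Units.val (show P * g' = g * P by rw [hg', mul_assoc P⁻¹, mul_inv_cancel_left]))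
      have e2 : (g : Matrix (Fin n) (Fin n) F).map σ * Pm.map σ = (c : F)⁻¹ • (Pm.map σ * g') := by
        have hgP : (g : Matrix (Fin n) (Fin n) F) * Pm = Pm * g' :=
          congrArg Units.val (show g * P = P * g' by rw [hg', mul_assoc P⁻¹, mul_inv_cancel_left])
        rw [hσP, Matrix.mul_smul, ← mul_assoc, hgσ, Matrix.smul_mul, Matrix.smul_mul, smul_comm, mul_assoc B, hgP,
          mul_assoc B]
      have hu : IsUnit (Pm.map σ) := P.isUnit.map σ.toRingHom.mapMatrix
      apply hu.mul_left_cancel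
      rw [e1, e2, Matrix.mul_smul]
    obtain ⟨i, j, hij⟩ : ∃ i j, (g' : Matrix (Fin n) (Fin n) F) i j ≠ 0 := by
      by_contra! hcon
      exact g'.ne_zero (Matrix.ext hcon)
    have hent : ∀ a b, σ ((g' : Matrix (Fin n) (Fin n) F) a b) = (c : F)⁻¹ * (g' : Matrix (Fin n) (Fin n) F) a b :=
      fun a b => congrFun (congrFun hσg' a) b
    refine mem_subfieldSubgroup (inv_ne_zero hij) fun a b => (hKmem _).2 ?_
    rw [map_mul, map_inv₀, hent, hent, mul_inv, inv_inv]
    field_simp [c.ne_zero]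
    rfl
  -- the form on the fixed vectors
  have hform : ∀ u v : Fin n → F, (∀ i, v i ∈ K) →
      hermForm n F q (Pm *ᵥ u) (Pm *ᵥ v) = l⁻¹ * gf (RingHom.id F) B (Pm *ᵥ u) (Pm *ᵥ v) := by
    intro u v hv
    have hv' : σ ∘ v = v := funext fun i => (hKmem _).1 (hv i)
    rw [hermForm_eq_gf hσ, gf, gf, Matrix.one_mulVec, map_comp_mulVec,
      show σ.toRingHom ∘ v = v from hv', show Pm.map σ.toRingHom = Pm.map σ from rfl, hσP, Matrix.smul_mulVec,
      dotProduct_smul, smul_eq_mul, RingHom.coe_id, Function.id_comp, Matrix.mulVec_mulVec]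
  have hsym : ∀ u v : Fin n → F, (∀ i, u i ∈ K) → (∀ i, v i ∈ K) →
      σ (hermForm n F q (Pm *ᵥ u) (Pm *ᵥ v)) = ε * hermForm n F q (Pm *ᵥ u) (Pm *ᵥ v) := by
    intro u v hu hv
    rw [hermForm_eq_gf hσ (Pm *ᵥ u), ← gf_one_symm hσ, ← hermForm_eq_gf hσ, hform v u hu, gf_transpose, hεT,
      gf_smul_gram, ← hermForm_eq_gf hσ, hform u v hv]
    ring
  by_cases hc2 : (2 : F) = 0 ∨ ε = -1
  · have hε' : ε = -1 := by
      rcases hc2 with h2 | h
      · rcases hε with h | h
        · rw [h]; linear_combination h2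
        · exact h
      · exact h
    have hdiag := halt hc2
    have hskew : Bᵀ = -B := by rw [hεT, hε', neg_one_smul]
    have heven : Even n := by simpa using IsSymplecticForm.even_card (isSymplecticForm_gf Bu.isUnit hdiag hskew)
    obtain ⟨a, ha⟩ := hσ.exists_ne
    refine Or.inl ⟨K, P, a - σ a, heven, hKcard, sub_ne_zero.2 (Ne.symm ha), ?_, fun u v hu hv => ?_, fun u hu => ?_,
      hle⟩
    · rw [← hσ.apply, map_sub, hσ.invol]; ring
    · rw [hKmem, map_mul, map_sub, hσ.invol, hsym u v hu hv, hε']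
      ring
    · rw [hform u u hu, gf_self_eq_zero hdiag hskew, mul_zero]
  · push Not at hc2
    have hε' : ε = 1 := hε.resolve_right hc2.2
    refine Or.inr ⟨K, P, odd_q hσ hc2.1, hKcard, fun u v hu hv => ?_, hle⟩
    rw [one_mul, hKmem, hsym u v hu hv, hε', one_mul]

/-- Similitudes of a compatible bilinear form inside the unitary group form a subfield group of index two. -/
theorem unitaryGeometric_of_bilinear (hσ : QAut q σ) {H : Subgroup (GL (Fin n) F)} (hn : 0 < n) (hH : H ≤ GU n F q)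
    {B : Matrix (Fin n) (Fin n) F} (hB : IsUnit B) {ε : F} (hεT : Bᵀ = ε • B) (hε : ε = 1 ∨ ε = -1)
    (halt : ((2 : F) = 0 ∨ ε = -1) → ∀ i, B i i = 0) {δ : F} (hδ : B * B.map σ = δ • (1 : Matrix (Fin n) (Fin n) F))
    (hsim : H ≤ Geo.similarityGroup (gf (RingHom.id F) B)) : UnitaryGeometric q H := by
  rcases subfield_of_bilinear hσ hn hH hB hεT hε halt hδ hsim with
    ⟨K, P, ζ, h1, h2, h3, h4, h5, h6, hle⟩ | ⟨K, P, h1, h2, h3, hle⟩
  · exact ⟨_, Or.inl (Or.inr (Or.inr (Or.inr (Or.inr (Or.inr (Or.inr (Or.inl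
      ⟨K, P, ζ, h1, h2, h3, h4, h5, h6, rfl⟩))))))), le_inf hle hH⟩
  · exact ⟨_, Or.inl (Or.inr (Or.inr (Or.inr (Or.inr (Or.inr (Or.inl
      ⟨K, P, h1, h2, h3, rfl⟩)))))), le_inf hle hH⟩

set_option maxHeartbeats 800000 in
/-- A bilinear form fixed by an absolutely irreducible normal subgroup. -/
theorem unitaryGeometric_of_invBilinear (hσ : QAut q σ) (hn : 2 ≤ n) {H N : Subgroup (GL (Fin n) F)}
    (hH : H ≤ GU n F q) (hN : NormIn H N) (hfull : Full N) {B : Matrix (Fin n) (Fin n) F} (hB : IsUnit B)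
    (hinv : InvGram (RingEquiv.refl F) N B) : UnitaryGeometric q H := by
  classical
  haveI : Nonempty (Fin n) := ⟨⟨0, by omega⟩⟩
  have hiso : H ≤ isoGroup σ := gu_eq_isoGroup hσ ▸ hH
  have hrefl : (RingEquiv.refl F).toRingHom = RingHom.id F := RingHom.ext fun _ => rfl
  have hsim : H ≤ Geo.similarityGroup (gf (RingHom.id F) B) :=
    hrefl ▸ le_similarity_of_invGram hN hfull hB hinv
  have hid : B.map (RingEquiv.refl F) = B := Matrix.ext fun _ _ => rfl
  obtain ⟨ε, hεT⟩ := invGram_unique hfull hB hinv (InvGram.adjoint (fun _ => rfl) hinv)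
  rw [hid] at hεT
  obtain ⟨i, j, hij⟩ : ∃ i j, B i j ≠ 0 := by
    by_contra! hcon
    exact not_isUnit_zero ((Matrix.ext hcon : B = 0) ▸ hB)
  have hεε : ε * ε = 1 := by
    have h1 := congrFun (congrFun hεT i) j
    have h2 := congrFun (congrFun hεT j) i
    simp only [Matrix.transpose_apply, Matrix.smul_apply, smul_eq_mul] at h1 h2
    rw [h1] at h2
    exact mul_right_cancel₀ hij (by rw [one_mul, mul_assoc]; exact h2.symm)
  obtain ⟨δ, hδ⟩ : ∃ δ : F, B * B.map σ = δ • (1 : Matrix (Fin n) (Fin n) F) := by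
    obtain ⟨d, hd⟩ := hfull.commute_scalar (X := B.map σ * B) fun x hx => by
      have hxi : (x : Matrix (Fin n) (Fin n) F)ᵀ * B * x = B := by
        have := hinv x hx
        rwa [show (x : Matrix (Fin n) (Fin n) F).map (RingEquiv.refl F) = x from Matrix.ext fun _ _ => rfl] at this
      have h2 : (x : Matrix (Fin n) (Fin n) F).map σ * (x : Matrix (Fin n) (Fin n) F)ᵀ = 1 :=
        mul_eq_one_comm.1 (hiso (hN.le hx))
      have h3 : (x : Matrix (Fin n) (Fin n) F).map σ * B = B * x := by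
        calc (x : Matrix (Fin n) (Fin n) F).map σ * B
            = (x : Matrix (Fin n) (Fin n) F).map σ * ((x : Matrix (Fin n) (Fin n) F)ᵀ * B * x) := by rw [hxi]
          _ = B * x := by rw [← mul_assoc, ← mul_assoc, h2, one_mul]
      have h4 := congrArg (fun M : Matrix (Fin n) (Fin n) F => M.map σ) h3
      have hxx : ((x : Matrix (Fin n) (Fin n) F).map σ).map σ = x := by ext; simp [hσ.invol]
      simp only [Matrix.map_mul, hxx] at h4
      rw [mul_assoc, ← h3, ← mul_assoc, ← h4, mul_assoc]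
    refine ⟨σ d, ?_⟩
    have h5 := congrArg (fun M : Matrix (Fin n) (Fin n) F => M.map σ) hd
    have hBB : (B.map σ).map σ = B := by ext; simp [hσ.invol]
    simp only [Matrix.map_mul, hBB] at h5
    rw [h5]
    ext a b
    by_cases hab : a = b <;> simp [hab]
  refine unitaryGeometric_of_bilinear hσ (by omega) hH hB hεT (mul_self_eq_one_iff.1 hεε) (fun hc => ?_) hδ hsim
  by_cases h2 : (2 : F) = 0
  · -- in even characteristic the diagonal of an invariant symmetric form vanishes
    have hε1 : ε = 1 := by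
      rcases mul_self_eq_one_iff.1 hεε with h | h
      · exact h
      · rw [h]; linear_combination -h2
    have hsymB : Bᵀ = B := by rw [hεT, hε1, one_smul]
    let W : Submodule F (Fin n → F) :=
      { carrier := {v | gf (RingHom.id F) B v v = 0}
        add_mem' := fun {u v} hu hv => by
          simp only [Set.mem_ofPred_eq, gf_add_left, gf_add_right] at *
          rw [gf_transpose B u v, hsymB, hu, hv]
          linear_combination (gf (RingHom.id F) B u v) * h2
        zero_mem' := by simp [gf]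
        smul_mem' := fun c v hv => by
          simp only [Set.mem_ofPred_eq, gf_smul_left, gf_smul_right] at *
          rw [hv, mul_zero, mul_zero] }
    rcases hfull.irr.eq_bot_or_top W (fun x hx v hv => by
      show gf (RingHom.id F) B _ _ = 0
      rw [gf_mulVec, show (x : Matrix (Fin n) (Fin n) F).map (RingHom.id F) =
        (x : Matrix (Fin n) (Fin n) F).map (RingEquiv.refl F) from rfl, hinv x hx]
      exact hv) with hW | hW
    · exfalso
      let d : (Fin n → F) → F := fun v => gf (RingHom.id F) B v v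
      have hd : Function.Injective d := by
        intro u v huv
        have h1 : u + v ∈ W := by
          show gf (RingHom.id F) B (u + v) (u + v) = 0
          simp only [gf_add_left, gf_add_right]
          rw [gf_transpose B u v, hsymB, show gf (RingHom.id F) B u u = gf (RingHom.id F) B v v from huv]
          linear_combination (gf (RingHom.id F) B v v + gf (RingHom.id F) B u v) * h2
        rw [hW, Submodule.mem_bot] at h1
        funext a
        have h3 := congrFun h1 a
        simp only [Pi.add_apply, Pi.zero_apply] at h3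
        linear_combination h3 - v a * h2
      have hle := Fintype.card_le_of_injective d hd
      rw [Fintype.card_fun, Fintype.card_fin] at hle
      have h1 : Fintype.card F ^ 2 ≤ Fintype.card F ^ n := Nat.pow_le_pow_right Fintype.card_pos hn
      have := Fintype.one_lt_card (α := F)
      nlinarith
    · intro a
      have : (Pi.single a 1 : Fin n → F) ∈ W := hW ▸ Submodule.mem_top
      have h1 : gf (RingHom.id F) B (Pi.single a 1) (Pi.single a 1) = 0 := this
      rwa [gf_single] at h1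
  · intro a
    have hε1 := hc.resolve_left h2
    have h1 := congrFun (congrFun hεT a) a
    simp only [Matrix.transpose_apply, Matrix.smul_apply, smul_eq_mul, hε1] at h1
    have h3 : (2 : F) * B a a = 0 := by linear_combination h1
    exact (mul_eq_zero.1 h3).resolve_left h2

/-- A normal absolutely irreducible subgroup realisable over a proper subfield gives a class 5 member. -/
theorem unitaryGeometric_of_realisable (hσ : QAut q σ) (hn : 2 ≤ n) {H N : Subgroup (GL (Fin n) F)}
    (hH : H ≤ GU n F q) (hN : NormIn H N) (hfull : Full N) {K : Subfield F} (hK : K ≠ ⊤)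
    (hR : Geo.RealisableOver K (Geo.matrixSet N)) : UnitaryGeometric q H := by
  classical
  haveI : Nonempty (Fin n) := ⟨⟨0, by omega⟩⟩
  have hiso : H ≤ isoGroup σ := gu_eq_isoGroup hσ ▸ hH
  obtain ⟨L, r, P, hr, hcard, hL, hle, hent⟩ := subfield_of_realisable hN.conj hfull hK hR
  obtain ⟨τ, hτq, hτ⟩ := exists_frob L
  set Pm : Matrix (Fin n) (Fin n) F := (P : Matrix (Fin n) (Fin n) F)
  set G : Matrix (Fin n) (Fin n) F := Pmᵀ * Pm.map σ
  have hG : IsUnit G := ((Matrix.isUnit_transpose _).2 P.isUnit).mul (P.isUnit.map σ.toRingHom.mapMatrix)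
  let N' : Subgroup (GL (Fin n) F) := N.map (MulAut.conj P⁻¹).toMonoidHom
  have hN'mem : ∀ y ∈ N', ∃ x ∈ N, y = P⁻¹ * x * P := fun y hy => by
    obtain ⟨x, hx, rfl⟩ := hy
    exact ⟨x, hx, by simp⟩
  have hfull' : Full N' := by
    show alg N' = ⊤
    have h1 : alg N' = (alg N).map (cj P⁻¹).toAlgHom := by
      rw [alg, alg, AlgHom.map_adjoin]
      congr 1
      rw [Geo.matrixSet, Geo.matrixSet, Subgroup.coe_map, Set.image_image, Set.image_image]
      exact Set.image_congr fun x _ => (cj_coe P⁻¹ x).symm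
    rw [h1, show alg N = ⊤ from hfull, Algebra.map_top, AlgHom.range_eq_top]
    exact (cj P⁻¹).surjective
  have hinv : InvGram σ N' G := by
    intro y hy
    obtain ⟨x, hx, rfl⟩ := hN'mem y hy
    set ym : Matrix (Fin n) (Fin n) F := ((P⁻¹ * x * P : GL (Fin n) F) : Matrix (Fin n) (Fin n) F)
    have e : Pm * ym = (x : Matrix (Fin n) (Fin n) F) * Pm := by simp [ym, Pm, mul_assoc]
    have h0 := hiso (hN.le hx)
    calc ymᵀ * (Pmᵀ * Pm.map σ) * ym.map σ = (Pm * ym)ᵀ * (Pm * ym).map σ := by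
          rw [Matrix.transpose_mul, Matrix.map_mul]; simp only [mul_assoc]
      _ = Pmᵀ * ((x : Matrix (Fin n) (Fin n) F)ᵀ * (x : Matrix (Fin n) (Fin n) F).map σ) * Pm.map σ := by
          rw [e, Matrix.transpose_mul, Matrix.map_mul]; simp only [mul_assoc]
      _ = _ := by rw [h0, mul_one]
  have hfix : ∀ y ∈ N', ((y : GL (Fin n) F) : Matrix (Fin n) (Fin n) F).map τ = y := by
    intro y hy
    obtain ⟨x, hx, rfl⟩ := hN'mem y hy
    exact Matrix.ext fun a b => (hτ _).2 (hent x hx a b)
  have hinvτ : InvGram σ N' (G.map τ) := by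
    intro y hy
    have h1 := congrArg (fun M : Matrix (Fin n) (Fin n) F => M.map τ) (hinv y hy)
    have hcommστ : ((y : Matrix (Fin n) (Fin n) F).map σ).map τ = (y : Matrix (Fin n) (Fin n) F).map σ := by
      conv_rhs => rw [← hfix y hy]
      ext a b
      simp only [Matrix.map_apply, hτq, hσ.apply, ← pow_mul, mul_comm]
    simp only [Matrix.map_mul, Matrix.transpose_map, hfix y hy, hcommστ] at h1
    exact h1
  obtain ⟨c, hc⟩ := invGram_unique hfull' hG hinv hinvτ
  obtain ⟨i0, j0, hg0⟩ : ∃ i j, G i j ≠ 0 := by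
    by_contra! hcon
    exact not_isUnit_zero ((Matrix.ext hcon : G = 0) ▸ hG)
  have hGL : ∀ i j, G i j / G i0 j0 ∈ L := fun i j => by
    rw [← hτ, map_div₀, show τ (G i j) = c * G i j from congrFun (congrFun hc i) j,
      show τ (G i0 j0) = c * G i0 j0 from congrFun (congrFun hc i0) j0]
    refine mul_div_mul_left _ _ fun h0 => ?_
    have := congrFun (congrFun hc i0) j0
    rw [Matrix.map_apply, Matrix.smul_apply, h0, zero_smul] at this
    exact hg0 ((map_eq_zero τ).1 this)
  rcases hr.eq_two_or_odd' with rfl | hodd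
  · -- index two: an invariant bilinear form
    have hLσ : ∀ x ∈ L, σ x = x := by
      intro x hx
      have hLq : Nat.card L = q := Nat.pow_left_injective two_ne_zero (show Nat.card L ^ 2 = q ^ 2 by rw [← hcard, hσ.card])
      rw [hσ.apply, ← hLq, ← hτq]
      exact (hτ x).2 hx
    refine unitaryGeometric_of_invBilinear hσ hn hH hN hfull
      (B := ((P⁻¹ : GL (Fin n) F) : Matrix (Fin n) (Fin n) F)ᵀ * ((G i0 j0)⁻¹ • G) *
        ((P⁻¹ : GL (Fin n) F) : Matrix (Fin n) (Fin n) F)) ?_ ?_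
    · refine (((Matrix.isUnit_transpose _).2 P⁻¹.isUnit).mul ?_).mul P⁻¹.isUnit
      exact hG.smul (Units.mk0 _ (inv_ne_zero hg0))
    · intro x hx
      set Pi' : Matrix (Fin n) (Fin n) F := ((P⁻¹ : GL (Fin n) F) : Matrix (Fin n) (Fin n) F)
      set ym : Matrix (Fin n) (Fin n) F := ((P⁻¹ * x * P : GL (Fin n) F) : Matrix (Fin n) (Fin n) F)
      have hy : (P⁻¹ * x * P : GL (Fin n) F) ∈ N' := ⟨x, hx, by simp⟩
      have hyσ : ym.map σ = ym := Matrix.ext fun a b => hLσ _ (hent x hx a b)
      have e : Pi' * (x : Matrix (Fin n) (Fin n) F) = ym * Pi' := by simp [ym, Pi', mul_assoc]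
      have h0 : ymᵀ * G * ym = G := by
        have := hinv _ hy
        rwa [hyσ] at this
      rw [show (x : Matrix (Fin n) (Fin n) F).map (RingEquiv.refl F) = x from Matrix.ext fun _ _ => rfl]
      calc (x : Matrix (Fin n) (Fin n) F)ᵀ * (Pi'ᵀ * ((G i0 j0)⁻¹ • G) * Pi') * x
          = (Pi' * (x : Matrix (Fin n) (Fin n) F))ᵀ * ((G i0 j0)⁻¹ • G) * (Pi' * (x : Matrix (Fin n) (Fin n) F)) := by
            rw [Matrix.transpose_mul]; simp only [mul_assoc]
        _ = Pi'ᵀ * ((G i0 j0)⁻¹ • (ymᵀ * G * ym)) * Pi' := by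
            rw [e, Matrix.transpose_mul]
            simp only [mul_assoc, Matrix.mul_smul, Matrix.smul_mul]
        _ = _ := by rw [h0]
  · -- odd index: scale by a norm
    have hσL : ∀ x ∈ L, σ x ∈ L := fun x hx => by rw [hσ.apply]; exact pow_mem hx q
    set u0 : F := G i0 j0 / σ (G i0 j0)
    have hσg0 : σ (G i0 j0) ≠ 0 := (map_ne_zero σ).2 hg0
    have hherm : ∀ i j, σ (G j i) = G i j := fun i j => by
      simp [G, Matrix.mul_apply, hσ.invol, mul_comm]
    have hu : u0 ∈ L := by
      have h2 : σ (G j0 i0 / G i0 j0) ∈ L := hσL _ (hGL j0 i0)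
      rw [map_div₀, hherm i0 j0] at h2
      exact h2
    obtain ⟨b, hb⟩ : ∃ b ∈ L, b + u0 * σ b ≠ 0 := by
      by_contra! hcon
      have h1 := hcon 1 L.one_mem
      rw [map_one, mul_one] at h1
      obtain ⟨K2, hK2, hK2card⟩ := hσ.exists_fixed_subfield
      have hsub : L ≤ K2 := fun b hb => (hK2 b).2 (by
        have h3 := hcon b hb
        rw [show u0 = -1 by linear_combination h1] at h3
        linear_combination -h3)
      -- the odd index forces the involution to act on the subfield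
      have hdvd : ∀ x ∈ L, x ^ q = x := fun x hx => by rw [← hσ.apply]; exact (hK2 x).1 (hsub hx)
      have hLle : Nat.card L ≤ q := by
        have := Nat.card_le_card_of_injective (fun x : L => (⟨(x : F), hsub x.2⟩ : K2))
          (fun x y h => Subtype.ext (congrArg (fun z : K2 => (z : F)) h))
        have hK2q : Nat.card K2 = q := Nat.pow_left_injective two_ne_zero (show Nat.card K2 ^ 2 = q ^ 2 by rw [← hK2card, hσ.card])
        omega
      haveI : Fintype L := Fintype.ofFinite L
      haveI : Fintype K2 := Fintype.ofFinite K2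
      haveI : Algebra L K2 := (Subfield.inclusion hsub).toAlgebra
      have hpow : Nat.card K2 = Nat.card L ^ finrank L K2 := Module.natCard_eq_pow_finrank
      have hK2q : Nat.card K2 = q := Nat.pow_left_injective two_ne_zero (show Nat.card K2 ^ 2 = q ^ 2 by rw [← hK2card, hσ.card])
      have h4 : Nat.card L ^ r = Nat.card L ^ (finrank L K2 * 2) := by
        rw [← hcard, hσ.card, pow_mul, ← hpow, hK2q]
      have h5 := Nat.pow_right_injective (Finite.one_lt_card (α := L)) h4
      exact Nat.not_even_iff_odd.2 hodd ⟨finrank L K2, by omega⟩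
    set l : F := b + u0 * σ b with hldef
    have hlL : l ∈ L := L.add_mem hb.1 (L.mul_mem hu (hσL b hb.1))
    have hl0 : l ≠ 0 := hb.2
    have hμ : σ (G i0 j0 / l) = G i0 j0 / l := by
      have h1 : u0 * σ l = l := by
        have hn1 : u0 * σ u0 = 1 := by
          show G i0 j0 / σ (G i0 j0) * σ (G i0 j0 / σ (G i0 j0)) = 1
          rw [map_div₀, hσ.invol]; field_simp
        rw [hldef, map_add, map_mul, hσ.invol]
        linear_combination b * hn1
      rw [map_div₀, div_eq_div_iff ((map_ne_zero σ).2 hl0) hl0]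
      have h2 : G i0 j0 = u0 * σ (G i0 j0) := by rw [div_mul_cancel₀ _ hσg0]
      conv_rhs => rw [h2]
      linear_combination (-σ (G i0 j0)) * h1
    obtain ⟨α, hα⟩ := hσ.exists_norm (μ := (G i0 j0 / l)⁻¹) (by rw [map_inv₀, hμ])
    have hα0 : α ≠ 0 := fun h => inv_ne_zero (div_ne_zero hg0 hl0) (by rw [← hα, h, zero_mul])
    let S : GL (Fin n) F := Units.map (Matrix.scalar (Fin n) : F →+* Matrix (Fin n) (Fin n) F).toMonoidHom (Units.mk0 α hα0)
    have hS : ((P * S : GL (Fin n) F) : Matrix (Fin n) (Fin n) F) = α • Pm := by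
      rw [Units.val_mul]
      show Pm * Matrix.scalar (Fin n) α = _
      rw [Matrix.scalar_apply, ← Matrix.smul_one_eq_diagonal, Matrix.mul_smul, mul_one]
    have hPS : H ≤ Geo.subfieldSubgroup L (P * S) := by
      intro g hg
      obtain ⟨k, hk, rfl⟩ := hle hg
      refine ⟨k, hk, ?_⟩
      have h1 := commute_of_mem_scalars (⟨Units.mk0 α hα0, rfl⟩ : S ∈ Geo.scalars (Fin n) F) k
      simp only [MulEquiv.coe_toMonoidHom, MulAut.conj_apply, _root_.mul_inv_rev]
      calc P * S * k * (S⁻¹ * P⁻¹) = P * (S * k) * S⁻¹ * P⁻¹ := by simp only [mul_assoc]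
        _ = P * k * P⁻¹ := by rw [h1]; simp [mul_assoc]
    refine ⟨_, Or.inl (Or.inr (Or.inr (Or.inr (Or.inr (Or.inl ⟨L, r, P * S, hr, hodd, hcard, fun u v hu hv => ?_, rfl⟩))))),
      le_inf hPS hH⟩
    rw [one_mul, hS, hermForm_eq_gf hσ, Matrix.smul_mulVec, Matrix.smul_mulVec, gf_smul_left, gf_smul_right, gf_mulVec,
      mul_one, show Pm.map σ.toRingHom = Pm.map σ from rfl, ← mul_assoc, show α * σ.toRingHom α = (G i0 j0 / l)⁻¹ from hα]
    show (G i0 j0 / l)⁻¹ * gf σ.toRingHom G u v ∈ L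
    simp only [gf, dotProduct, Matrix.mulVec, Finset.mul_sum]
    refine L.sum_mem fun a _ => L.sum_mem fun b _ => ?_
    have e : (G i0 j0 / l)⁻¹ * (u a * (G a b * (σ.toRingHom ∘ v) b)) = u a * (G a b / G i0 j0 * l) * σ (v b) := by
      rw [inv_div]
      show l / G i0 j0 * (u a * (G a b * σ (v b))) = _
      field_simp
    rw [e]
    exact L.mul_mem (L.mul_mem (hu a) (L.mul_mem (hGL a b) hlL)) (hσL _ (hv b))

end CfsgLib.Aschbacher
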