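import Cfsg.Prelude.Def_GeometricClasses

/-!
# Aschbacher's theorem: vocabulary, conjugation on the matrix algebra, reducible subgroups
-/

set_option autoImplicit false

namespace CfsgLib.Aschbacher

open Matrix Module Cfsg
open scoped MatrixGroups

variable {ι : Type} [Fintype ι] [DecidableEq ι] {F : Type*} [Field F]

/-- Conjugation by an invertible matrix as an automorphism of the matrix algebra. -/
def cj (g : GL ι F) : Matrix ι ι F ≃ₐ[F] Matrix ι ι F :=
  { toFun := fun X => (g : Matrix ι ι F) * X * ((g⁻¹ : GL ι F) : Matrix ι ι F)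
    invFun := fun X => ((g⁻¹ : GL ι F) : Matrix ι ι F) * X * (g : Matrix ι ι F)
    left_inv := fun X => by simp [mul_assoc]
    right_inv := fun X => by simp [mul_assoc]
    map_mul' := fun X Y => by simp [mul_assoc]
    map_add' := fun X Y => by simp [mul_add, add_mul]
    commutes' := fun c => by simp [Algebra.algebraMap_eq_smul_one] }

theorem cj_apply (g : GL ι F) (X : Matrix ι ι F) :
    cj g X = (g : Matrix ι ι F) * X * ((g⁻¹ : GL ι F) : Matrix ι ι F) := rfl

theorem cj_mul (g h : GL ι F) (X : Matrix ι ι F) : cj (g * h) X = cj g (cj h X) := by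
  simp [cj_apply, mul_assoc, _root_.mul_inv_rev]

theorem cj_one (X : Matrix ι ι F) : cj (1 : GL ι F) X = X := by simp [cj_apply]

theorem cj_inv_self (g : GL ι F) (X : Matrix ι ι F) : cj g⁻¹ (cj g X) = X := by
  rw [← cj_mul, inv_mul_cancel, cj_one]

theorem cj_self_inv (g : GL ι F) (X : Matrix ι ι F) : cj g (cj g⁻¹ X) = X := by
  rw [← cj_mul, mul_inv_cancel, cj_one]

theorem cj_mul_self (g : GL ι F) (X : Matrix ι ι F) : cj g X * (g : Matrix ι ι F) = (g : Matrix ι ι F) * X := by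
  simp [cj_apply, mul_assoc]

theorem cj_coe (g x : GL ι F) : cj g (x : Matrix ι ι F) = ((g * x * g⁻¹ : GL ι F) : Matrix ι ι F) := by
  simp [cj_apply]

/-- The subgroup `H` stabilises the set `S` of matrices under conjugation. -/
def InvBy (H : Subgroup (GL ι F)) (S : Set (Matrix ι ι F)) : Prop := ∀ h ∈ H, ∀ X ∈ S, cj h X ∈ S

theorem InvBy.iff {H : Subgroup (GL ι F)} {S : Set (Matrix ι ι F)} (hS : InvBy H S) {h : GL ι F} (hh : h ∈ H)
    (X : Matrix ι ι F) : cj h X ∈ S ↔ X ∈ S :=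
  ⟨fun hX => by simpa [cj_inv_self] using hS _ (H.inv_mem hh) _ hX, hS h hh X⟩

theorem mem_subalgebraNormalizer {K : Subalgebra F (Matrix ι ι F)} {H : Subgroup (GL ι F)}
    (hK : InvBy H K) : H ≤ Geo.subalgebraNormalizer K :=
  fun h hh X => ((hK.iff hh X).symm : X ∈ (K : Set (Matrix ι ι F)) ↔ _)

/-- The set of matrices preserved under left multiplication by a subgroup is a stable subspace. -/
theorem mem_subspaceStabilizer {W : Submodule F (ι → F)} {g : GL ι F}
    (h1 : ∀ v ∈ W, (g : Matrix ι ι F) *ᵥ v ∈ W) (h2 : ∀ v ∈ W, ((g⁻¹ : GL ι F) : Matrix ι ι F) *ᵥ v ∈ W) :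
    g ∈ Geo.subspaceStabilizer W := by
  intro v
  refine ⟨fun hv => h1 v hv, fun hv => ?_⟩
  have h : ((g⁻¹ : GL ι F) : Matrix ι ι F) *ᵥ ((g : Matrix ι ι F) *ᵥ v) ∈ W := h2 _ hv
  simpa [Matrix.mulVec_mulVec] using h

/-- A subgroup acting irreducibly on `F^ι`. -/
def Irr (H : Subgroup (GL ι F)) : Prop := Geo.ActsIrreducibly (Geo.matrixSet H)

theorem irr_iff {H : Subgroup (GL ι F)} :
    Irr H ↔ ∀ W : Submodule F (ι → F), (∀ h ∈ H, ∀ v ∈ W, (h : Matrix ι ι F) *ᵥ v ∈ W) → W = ⊥ ∨ W = ⊤ := by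
  constructor
  · intro h W hW
    refine h W ?_
    rintro s ⟨x, hx, rfl⟩
    exact Submodule.map_le_iff_le_comap.2 fun v hv => by simpa [Matrix.toLin'_apply] using hW x hx v hv
  · intro h W hW
    refine h W fun x hx v hv => ?_
    simpa [Matrix.toLin'_apply] using hW _ ⟨x, hx, rfl⟩ (Submodule.mem_map_of_mem hv)

theorem Irr.eq_bot_or_top {H : Subgroup (GL ι F)} (hH : Irr H) (W : Submodule F (ι → F))
    (hW : ∀ h ∈ H, ∀ v ∈ W, (h : Matrix ι ι F) *ᵥ v ∈ W) : W = ⊥ ∨ W = ⊤ := irr_iff.1 hH W hW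

theorem exists_invariant_of_not_irr {H : Subgroup (GL ι F)} (hH : ¬ Irr H) :
    ∃ W : Submodule F (ι → F), W ≠ ⊥ ∧ W ≠ ⊤ ∧ (∀ h ∈ H, ∀ v ∈ W, (h : Matrix ι ι F) *ᵥ v ∈ W) ∧
      H ≤ Geo.subspaceStabilizer W := by
  rw [irr_iff] at hH
  push Not at hH
  obtain ⟨W, hW, h1, h2⟩ := hH
  exact ⟨W, h1, h2, hW, fun g hg => mem_subspaceStabilizer (hW g hg) (hW _ (H.inv_mem hg))⟩

/-- The algebra spanned by a subgroup. -/
def alg (N : Subgroup (GL ι F)) : Subalgebra F (Matrix ι ι F) := Algebra.adjoin F (Geo.matrixSet N)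

theorem coe_mem_alg {N : Subgroup (GL ι F)} {x : GL ι F} (hx : x ∈ N) : (x : Matrix ι ι F) ∈ alg N :=
  Algebra.subset_adjoin ⟨x, hx, rfl⟩

theorem alg_toSubmodule (N : Subgroup (GL ι F)) :
    Subalgebra.toSubmodule (alg N) = Submodule.span F (Geo.matrixSet N) := by
  rw [alg, Algebra.adjoin_eq_span]
  congr 1
  refine le_antisymm ?_ Submonoid.subset_closure
  intro X hX
  induction hX using Submonoid.closure_induction with
  | mem X hX => exact hX
  | one => exact ⟨1, N.one_mem, rfl⟩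
  | mul X Y _ _ hX hY =>
    obtain ⟨x, hx, rfl⟩ := hX
    obtain ⟨y, hy, rfl⟩ := hY
    exact ⟨x * y, N.mul_mem hx hy, rfl⟩

theorem alg_mono {N M : Subgroup (GL ι F)} (h : N ≤ M) : alg N ≤ alg M :=
  Algebra.adjoin_mono (Set.image_mono h)

theorem commute_alg {N : Subgroup (GL ι F)} {X : Matrix ι ι F}
    (h : ∀ x ∈ N, X * (x : Matrix ι ι F) = (x : Matrix ι ι F) * X) {Y : Matrix ι ι F} (hY : Y ∈ alg N) :
    X * Y = Y * X := by
  rw [← Subalgebra.mem_toSubmodule, alg_toSubmodule] at hY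
  induction hY using Submodule.span_induction with
  | mem Y hY => obtain ⟨x, hx, rfl⟩ := hY; exact h x hx
  | zero => simp
  | add A B _ _ hA hB => rw [mul_add, add_mul, hA, hB]
  | smul c A _ hA => rw [mul_smul_comm, smul_mul_assoc, hA]

theorem invBy_alg {H N : Subgroup (GL ι F)} (hN : ∀ h ∈ H, ∀ x ∈ N, h * x * h⁻¹ ∈ N) : InvBy H (alg N) := by
  intro h hh X hX
  have : cj h X ∈ (alg N).map (cj h).toAlgHom := Subalgebra.mem_map.2 ⟨X, hX, rfl⟩
  rw [alg, AlgHom.map_adjoin] at this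
  refine Algebra.adjoin_le ?_ this
  rintro _ ⟨_, ⟨x, hx, rfl⟩, rfl⟩
  exact (cj_coe h x).symm ▸ coe_mem_alg (hN h hh x hx)

/-- The group spans the full matrix algebra. -/
def Full (N : Subgroup (GL ι F)) : Prop := alg N = ⊤

theorem Full.commute_scalar {N : Subgroup (GL ι F)} (hN : Full N) {X : Matrix ι ι F}
    (h : ∀ x ∈ N, X * (x : Matrix ι ι F) = (x : Matrix ι ι F) * X) : ∃ c : F, X = c • (1 : Matrix ι ι F) := by
  rcases isEmpty_or_nonempty ι with hι | hι
  · exact ⟨0, Subsingleton.elim _ _⟩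
  obtain ⟨c, hc⟩ := Matrix.mem_range_scalar_of_commute_single (M := X) fun i j _ =>
    (commute_alg h (hN ▸ Algebra.mem_top) : X * Matrix.single i j 1 = Matrix.single i j 1 * X).symm
  exact ⟨c, by rw [← hc, Matrix.scalar_apply, Matrix.smul_one_eq_diagonal]⟩

theorem Full.irr {N : Subgroup (GL ι F)} (hN : Full N) : Irr N := by
  rw [irr_iff]
  intro W hW
  by_cases hb : W = ⊥
  · exact Or.inl hb
  refine Or.inr (Submodule.eq_top_iff'.2 fun w => ?_)
  obtain ⟨v, hv, hv0⟩ := W.exists_mem_ne_zero_of_ne_bot hb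
  have key : ∀ X ∈ alg N, X *ᵥ v ∈ W := by
    intro X hX
    rw [← Subalgebra.mem_toSubmodule, alg_toSubmodule] at hX
    induction hX using Submodule.span_induction with
    | mem Y hY => obtain ⟨x, hx, rfl⟩ := hY; exact hW x hx v hv
    | zero => simp
    | add A B _ _ hA hB => rw [add_mulVec]; exact W.add_mem hA hB
    | smul c A _ hA => rw [smul_mulVec]; exact W.smul_mem c hA
  obtain ⟨j, hj⟩ : ∃ j, v j ≠ 0 := Function.ne_iff.1 hv0
  have h := key (vecMulVec w (Pi.single j (v j)⁻¹)) (hN ▸ Algebra.mem_top)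
  simpa [vecMulVec_mulVec, hj] using h

theorem Full.actsAbsolutelyIrreducibly {N : Subgroup (GL ι F)} (hN : Full N) :
    Geo.ActsAbsolutelyIrreducibly (Geo.matrixSet N) :=
  ⟨hN.irr, fun _ hM => hN.commute_scalar fun x hx => hM _ ⟨x, hx, rfl⟩⟩

theorem Full.mono {N M : Subgroup (GL ι F)} (hN : Full N) (h : N ≤ M) : Full M :=
  top_le_iff.1 (hN ▸ alg_mono h)

theorem mem_scalars_of_commute {N : Subgroup (GL ι F)} (hN : Full N) [Nonempty ι] {g : GL ι F}
    (h : ∀ x ∈ N, g * x = x * g) : g ∈ Geo.scalars ι F := by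
  obtain ⟨c, hc⟩ := hN.commute_scalar (X := (g : Matrix ι ι F)) fun x hx => by
    simpa using congrArg Units.val (h x hx)
  have hc0 : c ≠ 0 := fun h0 => by
    rw [h0, zero_smul] at hc
    exact one_ne_zero (by simpa [hc] using g.mul_inv : (1 : Matrix ι ι F) = 0)
  exact (Geo.mem_scalars_iff g).2 ⟨Units.mk0 c hc0, hc⟩

theorem commute_of_mem_scalars {g : GL ι F} (hg : g ∈ Geo.scalars ι F) (x : GL ι F) : g * x = x * g := by
  obtain ⟨c, hc⟩ := (Geo.mem_scalars_iff g).1 hg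
  refine Units.ext ?_
  simp [hc]

theorem cj_of_mem_scalars {g : GL ι F} (hg : g ∈ Geo.scalars ι F) (X : Matrix ι ι F) : cj g X = X := by
  obtain ⟨c, hc⟩ := (Geo.mem_scalars_iff g).1 hg
  have hcomm : (g : Matrix ι ι F) * X = X * (g : Matrix ι ι F) := by simp [hc]
  rw [cj_apply, hcomm, mul_assoc, Units.mul_inv, mul_one]

end CfsgLib.Aschbacher
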