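import Cfsg.Agent.Lib.Aschbacher.Basic

/-!
# Commutative invariant algebras: idempotent decompositions and field subalgebras
-/

set_option autoImplicit false

namespace CfsgLib.Aschbacher

open Matrix Module Cfsg
open scoped MatrixGroups

variable {ι : Type} [Fintype ι] [DecidableEq ι] {F : Type*} [Field F] [Fintype F]
variable {H : Subgroup (GL ι F)} {C : Subalgebra F (Matrix ι ι F)}

omit [Fintype F] in
theorem exists_common_kernel [Nonempty ι] (S : Finset (Matrix ι ι F))
    (hcomm : ∀ X ∈ S, ∀ Y ∈ S, X * Y = Y * X) (hsq : ∀ X ∈ S, X * X = 0) :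
    ∃ v : ι → F, v ≠ 0 ∧ ∀ X ∈ S, X *ᵥ v = 0 := by
  classical
  induction S using Finset.induction_on with
  | empty =>
    obtain ⟨i⟩ := ‹Nonempty ι›
    exact ⟨Pi.single i 1, by simp, by simp⟩
  | insert X S hX ih =>
    obtain ⟨v, hv0, hv⟩ := ih (fun A hA B hB => hcomm A (Finset.mem_insert_of_mem hA) B (Finset.mem_insert_of_mem hB))
      (fun A hA => hsq A (Finset.mem_insert_of_mem hA))
    by_cases h : X *ᵥ v = 0
    · exact ⟨v, hv0, fun A hA => by rcases Finset.mem_insert.1 hA with rfl | hA; exacts [h, hv A hA]⟩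
    · refine ⟨X *ᵥ v, h, fun A hA => ?_⟩
      rcases Finset.mem_insert.1 hA with rfl | hA'
      · rw [mulVec_mulVec, hsq _ hA, zero_mulVec]
      · rw [mulVec_mulVec, hcomm A hA X (Finset.mem_insert_self _ _), ← mulVec_mulVec, hv A hA', mulVec_zero]

/-- An invariant commutative algebra of an irreducible group has no nilpotents. -/
theorem sq_zero [Nonempty ι] (hH : Irr H) (hC : InvBy H C) (hcomm : ∀ X ∈ C, ∀ Y ∈ C, X * Y = Y * X)
    {X : Matrix ι ι F} (hX : X ∈ C) (h2 : X * X = 0) : X = 0 := by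
  classical
  obtain ⟨v, hv0, hv⟩ := exists_common_kernel
    ((Set.toFinite {Y : Matrix ι ι F | Y ∈ C ∧ Y * Y = 0}).toFinset)
    (fun A hA B hB => by simp at hA hB; exact hcomm A hA.1 B hB.1) (fun A hA => by simp at hA; exact hA.2)
  let W : Submodule F (ι → F) :=
    { carrier := {w | ∀ Y ∈ C, Y * Y = 0 → Y *ᵥ w = 0}
      add_mem' := fun {a b} ha hb Y hY h => by rw [mulVec_add, ha Y hY h, hb Y hY h, add_zero]
      zero_mem' := fun Y _ _ => mulVec_zero Y
      smul_mem' := fun c a ha Y hY h => by rw [mulVec_smul, ha Y hY h, smul_zero] }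
  rcases hH.eq_bot_or_top W (fun h hh w hw Y hY hY2 => by
    have h1 : cj h⁻¹ Y *ᵥ w = 0 := hw _ (hC _ (H.inv_mem hh) _ hY) (by rw [← map_mul, hY2, map_zero])
    have := congrArg ((h : Matrix ι ι F) *ᵥ ·) h1
    simpa [cj_apply, mulVec_mulVec, ← mul_assoc] using this) with hW | hW
  · exact absurd ((Submodule.mem_bot F).1 (hW ▸ (fun Y hY h => hv Y (by simp [hY, h]) : v ∈ W))) hv0
  · refine Matrix.toLin'.injective (LinearMap.ext fun w => ?_)
    simpa [Matrix.toLin'_apply] using (hW ▸ Submodule.mem_top : w ∈ W) X hX h2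

theorem eq_zero_of_pow [Nonempty ι] (hH : Irr H) (hC : InvBy H C) (hcomm : ∀ X ∈ C, ∀ Y ∈ C, X * Y = Y * X)
    {X : Matrix ι ι F} (hX : X ∈ C) : ∀ {k : ℕ}, X ^ k = 0 → X = 0 := by
  intro k
  induction k using Nat.strong_induction_on with
  | _ k ih =>
    intro hk
    match k with
    | 0 => rw [pow_zero] at hk; rw [← mul_one X, hk, mul_zero]
    | 1 => simpa using hk
    | m + 2 =>
      refine ih (m + 1) (by omega) (sq_zero hH hC hcomm (C.pow_mem hX _) ?_)
      rw [← pow_add, show m + 1 + (m + 1) = m + 2 + m by omega, pow_add, hk, zero_mul]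

omit [Fintype F] in
theorem exists_idem_pow [Finite F] (X : Matrix ι ι F) : ∃ k : ℕ, 0 < k ∧ X ^ k * X ^ k = X ^ k := by
  obtain ⟨i, j, hij, h⟩ : ∃ i j : ℕ, i < j ∧ X ^ i = X ^ j := by
    obtain ⟨i, j, hne, h⟩ := Finite.exists_ne_map_eq_of_infinite (fun n : ℕ => X ^ n)
    rcases lt_or_gt_of_ne hne with hl | hl
    · exact ⟨i, j, hl, h⟩
    · exact ⟨j, i, hl, h.symm⟩
  obtain ⟨d, hd, rfl⟩ : ∃ d, 0 < d ∧ j = i + d := ⟨j - i, by omega, by omega⟩
  have step : ∀ a, i ≤ a → X ^ (a + d) = X ^ a := by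
    intro a ha
    obtain ⟨b, rfl⟩ := Nat.exists_eq_add_of_le ha
    rw [show i + b + d = i + d + b by omega, pow_add, ← h, ← pow_add]
  have steps : ∀ m a, i ≤ a → X ^ (a + m * d) = X ^ a := by
    intro m
    induction m with
    | zero => simp
    | succ m ih => intro a ha; rw [Nat.succ_mul, ← add_assoc, step _ (by omega), ih a ha]
  refine ⟨(i + 1) * d, Nat.mul_pos (by omega) hd, ?_⟩
  rw [← pow_add, steps]
  calc i ≤ i + 1 := by omega
    _ = (i + 1) * 1 := (mul_one _).symm
    _ ≤ (i + 1) * d := Nat.mul_le_mul_left _ hd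

/-- A system of orthogonal idempotents in `C`, permuted transitively by `H`. -/
structure IdemSystem (H : Subgroup (GL ι F)) (C : Subalgebra F (Matrix ι ι F)) (t : ℕ)
    (e : Fin t → Matrix ι ι F) : Prop where
  two_le : 2 ≤ t
  mem : ∀ i, e i ∈ C
  ne_zero : ∀ i, e i ≠ 0
  mul : ∀ i j, e i * e j = if i = j then e i else 0
  sum : ∑ i, e i = 1
  inj : Function.Injective e
  atom : ∀ i, ∀ f ∈ C, f * f = f → e i * f = e i ∨ e i * f = 0
  perm : ∀ h ∈ H, ∃ σ : Equiv.Perm (Fin t), ∀ i, cj h (e i) = e (σ i)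
  trans : ∀ i j, ∃ h ∈ H, cj h (e i) = e j
  complete : ∀ a ∈ C, a * a = a → a ≠ 0 → (∀ f ∈ C, f * f = f → a * f = a ∨ a * f = 0) → ∃ i, e i = a

/-- Orthogonal idempotents summing to one, permuted transitively by `H`. -/
structure IdemFamily (H : Subgroup (GL ι F)) (t : ℕ) (e : Fin t → Matrix ι ι F) : Prop where
  two_le : 2 ≤ t
  ne_zero : ∀ i, e i ≠ 0
  mul : ∀ i j, e i * e j = if i = j then e i else 0
  sum : ∑ i, e i = 1
  perm : ∀ h ∈ H, ∃ σ : Equiv.Perm (Fin t), ∀ i, cj h (e i) = e (σ i)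
  trans : ∀ i j, ∃ h ∈ H, cj h (e i) = e j

omit [Fintype F] in
theorem IdemSystem.family {t : ℕ} {e : Fin t → Matrix ι ι F} (he : IdemSystem H C t e) : IdemFamily H t e :=
  ⟨he.two_le, he.ne_zero, he.mul, he.sum, he.perm, he.trans⟩

/-- An invariant commutative algebra of an irreducible group is a field or splits the space. -/
theorem idemSystem_or_field [Nonempty ι] (hH : Irr H) (hC : InvBy H C) (hcomm : ∀ X ∈ C, ∀ Y ∈ C, X * Y = Y * X) :
    (∃ (t : ℕ) (e : Fin t → Matrix ι ι F), IdemSystem H C t e) ∨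
    (∀ X ∈ C, X ≠ 0 → ∃ Y ∈ C, X * Y = 1) := by
  classical
  by_cases htriv : ∀ e ∈ C, e * e = e → e = 0 ∨ e = 1
  · refine Or.inr fun X hX hX0 => ?_
    obtain ⟨k, hk, hidem⟩ := exists_idem_pow X
    rcases htriv _ (C.pow_mem hX k) hidem with h | h
    · exact absurd (eq_zero_of_pow hH hC hcomm hX h) hX0
    · obtain ⟨m, rfl⟩ : ∃ m, k = m + 1 := ⟨k - 1, by omega⟩
      exact ⟨X ^ m, C.pow_mem hX m, by rw [← pow_succ', h]⟩
  refine Or.inl ?_
  push Not at htriv
  obtain ⟨e₀, he₀C, he₀, he₀0, he₀1⟩ := htriv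
  let Atom : Matrix ι ι F → Prop := fun a =>
    a ∈ C ∧ a * a = a ∧ a ≠ 0 ∧ ∀ f ∈ C, f * f = f → a * f = a ∨ a * f = 0
  have below : ∀ e ∈ C, e * e = e → e ≠ 0 → ∃ a, Atom a ∧ a * e = a := by
    intro e heC he he0
    let N : Matrix ι ι F → ℕ := fun a => {g : Matrix ι ι F | g ∈ C ∧ g * g = g ∧ g * a = g}.ncard
    obtain ⟨a, ⟨haC, ha, ha0, hae⟩, hmin⟩ :=
      Set.exists_min_image {a : Matrix ι ι F | a ∈ C ∧ a * a = a ∧ a ≠ 0 ∧ a * e = a} N (Set.toFinite _)
        ⟨e, heC, he, he0, he⟩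
    refine ⟨a, ⟨haC, ha, ha0, fun f hfC hf => ?_⟩, hae⟩
    by_contra hcon
    push Not at hcon
    have hafC : a * f ∈ C := C.mul_mem haC hfC
    have hfa : f * a = a * f := hcomm f hfC a haC
    have haf : (a * f) * (a * f) = a * f := by
      rw [mul_assoc, ← mul_assoc f a f, hfa, mul_assoc a f f, hf, ← mul_assoc, ha]
    have hafa : (a * f) * a = a * f := by rw [mul_assoc, hfa, ← mul_assoc, ha]
    have hle : N a ≤ N (a * f) := by
      refine hmin (a * f) ⟨hafC, haf, hcon.2, ?_⟩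
      rw [mul_assoc, hcomm f hfC e heC, ← mul_assoc, hae]
    have hlt : N (a * f) < N a := by
      refine Set.ncard_lt_ncard ⟨fun g hg => ⟨hg.1, hg.2.1, ?_⟩, fun hsub => ?_⟩ (Set.toFinite _)
      · have h := congrArg (· * a) hg.2.2
        simp only [mul_assoc, hfa] at h
        rw [← mul_assoc a a f, ha] at h
        exact h.symm.trans hg.2.2
      · exact hcon.1 (by
          have := (hsub (show a ∈ {g : Matrix ι ι F | g ∈ C ∧ g * g = g ∧ g * a = g} from ⟨haC, ha, ha⟩)).2.2
          rwa [← mul_assoc, ha] at this)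
    omega
  have orth : ∀ a b, Atom a → Atom b → a * b = if a = b then a else 0 := by
    intro a b ha hb
    split
    · next h => exact h ▸ ha.2.1
    · next h =>
      rcases ha.2.2.2 b hb.1 hb.2.1 with h1 | h1
      · rcases hb.2.2.2 a ha.1 ha.2.1 with h2 | h2
        · exact absurd (h1.symm.trans ((hcomm a ha.1 b hb.1).trans h2)) h
        · exact (hcomm a ha.1 b hb.1).trans h2
      · exact h1
  have cjAtom : ∀ h ∈ H, ∀ a, Atom a → Atom (cj h a) := by
    intro h hh a ha
    refine ⟨hC h hh a ha.1, by rw [← map_mul, ha.2.1], (map_ne_zero_iff _ (cj h).injective).2 ha.2.2.1,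
      fun f hfC hf => ?_⟩
    have hinv : cj h⁻¹ f * cj h⁻¹ f = cj h⁻¹ f := by rw [← map_mul, hf]
    rcases ha.2.2.2 _ (hC _ (H.inv_mem hh) f hfC) hinv with h1 | h1
    · exact Or.inl (by simpa [cj_self_inv] using congrArg (cj h) h1)
    · exact Or.inr (by simpa [cj_self_inv] using congrArg (cj h) h1)
  obtain ⟨E, hE⟩ : ∃ E : Finset (Matrix ι ι F), ∀ a, a ∈ E ↔ Atom a :=
    ⟨(Set.toFinite {a | Atom a}).toFinset, fun a => by simp⟩
  have sumE : ∀ T ⊆ E, (∑ a ∈ T, a) * (∑ a ∈ T, a) = ∑ a ∈ T, a := by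
    intro T hT
    rw [Finset.sum_mul_sum]
    refine Finset.sum_congr rfl fun a ha => ?_
    rw [Finset.sum_eq_single a (fun b hb hne => by rw [orth a b ((hE a).1 (hT ha)) ((hE b).1 (hT hb)), if_neg (Ne.symm hne)])
      (fun h => absurd ha h), ((hE a).1 (hT ha)).2.1]
  have mulSum : ∀ T ⊆ E, ∀ a ∈ E, a * (∑ b ∈ T, b) = if a ∈ T then a else 0 := by
    intro T hT a ha
    rw [Finset.mul_sum, Finset.sum_congr rfl fun b hb => orth a b ((hE a).1 ha) ((hE b).1 (hT hb)), Finset.sum_ite_eq]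
  have hsum : ∑ a ∈ E, a = 1 := by
    by_contra hne
    have hsC : ∑ a ∈ E, a ∈ C := C.sum_mem fun a ha => ((hE a).1 ha).1
    obtain ⟨a, ha, ha1⟩ := below (1 - ∑ a ∈ E, a) (C.sub_mem C.one_mem hsC)
      (by rw [sub_mul, mul_sub, mul_sub, sumE E subset_rfl]; simp) (sub_ne_zero.2 (Ne.symm hne))
    rw [mul_sub, mul_one, mulSum E subset_rfl a ((hE a).2 ha), if_pos ((hE a).2 ha), sub_self] at ha1
    exact ha.2.2.1 ha1.symm
  obtain ⟨t, en⟩ : ∃ t, Nonempty (Fin t ≃ E) := ⟨_, ⟨E.equivFin.symm⟩⟩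
  obtain ⟨en⟩ := en
  have hat : ∀ i, Atom (en i) := fun i => (hE _).1 (en i).2
  have hperm : ∀ h ∈ H, ∃ σ : Equiv.Perm (Fin t), ∀ i, cj h (en i : Matrix ι ι F) = en (σ i) := by
    intro h hh
    let f : Fin t → Fin t := fun i => en.symm ⟨cj h (en i), (hE _).2 (cjAtom h hh _ (hat i))⟩
    have hf : ∀ i, (en (f i) : Matrix ι ι F) = cj h (en i) := fun i => by simp [f]
    have hinj : Function.Injective f := by
      intro i j hij
      exact en.injective (Subtype.ext ((cj h).injective (by rw [← hf, ← hf, hij])))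
    exact ⟨Equiv.ofBijective f (Finite.injective_iff_bijective.1 hinj), fun i => (hf i).symm⟩
  refine ⟨t, fun i => en i, ?_, fun i => (hat i).1, fun i => (hat i).2.2.1, fun i j => ?_, ?_,
    Subtype.val_injective.comp en.injective, fun i => (hat i).2.2.2, hperm, fun i j => ?_,
    fun a h1 h2 h3 h4 => ⟨en.symm ⟨a, (hE a).2 ⟨h1, h2, h3, h4⟩⟩, by simp⟩⟩
  · obtain ⟨a, ha, ha1⟩ := below e₀ he₀C he₀ he₀0
    by_contra hlt
    have hcard : E.card ≤ 1 := by
      rw [← Fintype.card_coe, ← Fintype.card_congr en, Fintype.card_fin]; omega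
    have hE1 : E = {a} := Finset.eq_singleton_iff_unique_mem.2
      ⟨(hE a).2 ha, fun b hb => Finset.card_le_one.1 hcard b hb a ((hE a).2 ha)⟩
    rw [hE1, Finset.sum_singleton] at hsum
    rw [hsum, one_mul] at ha1
    exact he₀1 ha1
  · rw [orth _ _ (hat i) (hat j)]
    simp [Subtype.val_inj]
  · rw [Equiv.sum_comp en (fun x : E => (x : Matrix ι ι F)), Finset.univ_eq_attach, Finset.sum_attach E (fun x => x), hsum]
  · -- the orbit sum is an invariant idempotent
    let T : Finset (Matrix ι ι F) := E.filter fun b => ∃ h ∈ H, cj h (en i) = b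
    have hT : T ⊆ E := Finset.filter_subset _ _
    have hTi : (en i : Matrix ι ι F) ∈ T := Finset.mem_filter.2 ⟨(en i).2, 1, H.one_mem, cj_one _⟩
    have hfix : ∀ h ∈ H, cj h (∑ b ∈ T, b) = ∑ b ∈ T, b := by
      intro h hh
      rw [map_sum]
      refine Finset.sum_bij (fun b _ => cj h b) (fun b hb => ?_) (fun b _ c _ hbc => (cj h).injective hbc)
        (fun b hb => ?_) (fun b _ => rfl)
      · obtain ⟨hbE, k, hk, hkb⟩ := Finset.mem_filter.1 hb
        exact Finset.mem_filter.2 ⟨(hE _).2 (cjAtom h hh b ((hE b).1 hbE)), h * k, H.mul_mem hh hk, by rw [cj_mul, hkb]⟩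
      · obtain ⟨hbE, k, hk, hkb⟩ := Finset.mem_filter.1 hb
        refine ⟨cj h⁻¹ b, Finset.mem_filter.2 ⟨(hE _).2 (cjAtom _ (H.inv_mem hh) b ((hE b).1 hbE)),
          h⁻¹ * k, H.mul_mem (H.inv_mem hh) hk, by rw [cj_mul, hkb]⟩, cj_self_inv h b⟩
    set s := ∑ b ∈ T, b with hs
    have hcs : ∀ h ∈ H, (h : Matrix ι ι F) * s = s * (h : Matrix ι ι F) := fun h hh => by
      rw [← cj_mul_self, hfix h hh]
    have hs1 : s = 1 := by
      rcases hH.eq_bot_or_top (LinearMap.range (Matrix.toLin' s)) (by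
        rintro h hh _ ⟨v, rfl⟩
        exact ⟨(h : Matrix ι ι F) *ᵥ v, by simp [Matrix.toLin'_apply, mulVec_mulVec, hcs h hh]⟩) with hb | hb
      · have h0 : s = 0 := Matrix.toLin'.injective (by rw [map_zero]; exact LinearMap.range_eq_bot.1 hb)
        have := mulSum T hT _ (en i).2
        rw [← hs, h0, mul_zero, if_pos hTi] at this
        exact absurd this.symm (hat i).2.2.1
      · refine Matrix.toLin'.injective (LinearMap.ext fun w => ?_)
        obtain ⟨v, rfl⟩ := (hb ▸ Submodule.mem_top : w ∈ LinearMap.range (Matrix.toLin' s))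
        rw [Matrix.toLin'_one, LinearMap.id_apply, Matrix.toLin'_apply, Matrix.toLin'_apply, mulVec_mulVec]
        exact congrArg (· *ᵥ v) (sumE T hT)
    have hjT : (en j : Matrix ι ι F) ∈ T := by
      by_contra hj
      have := mulSum T hT _ (en j).2
      rw [← hs, hs1, mul_one, if_neg hj] at this
      exact (hat j).2.2.1 this
    exact (Finset.mem_filter.1 hjT).2

namespace IdemFamily

variable {t : ℕ} {e : Fin t → Matrix ι ι F}

/-- The summand attached to an idempotent. -/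
noncomputable def space (e : Fin t → Matrix ι ι F) (i : Fin t) : Submodule F (ι → F) := LinearMap.range (Matrix.toLin' (e i))

omit [Fintype F] in
theorem mulVec_of_mem (he : IdemFamily H t e) {i : Fin t} {v : ι → F} (hv : v ∈ space e i) (j : Fin t) :
    e j *ᵥ v = if j = i then v else 0 := by
  obtain ⟨w, rfl⟩ := hv
  rw [Matrix.toLin'_apply, mulVec_mulVec, he.mul]
  split
  · next h => rw [h]
  · rw [zero_mulVec]

omit [Fintype F] in
theorem mem_space (he : IdemFamily H t e) {i : Fin t} {v : ι → F} : v ∈ space e i ↔ e i *ᵥ v = v :=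
  ⟨fun hv => by rw [he.mulVec_of_mem hv, if_pos rfl], fun hv => ⟨v, by rw [Matrix.toLin'_apply, hv]⟩⟩

omit [Fintype F] in
theorem map_space (g : GL ι F) {i j : Fin t} (h : cj g (e i) = e j) :
    (space e i).map (Matrix.toLin' (g : Matrix ι ι F)) = space e j := by
  rw [space, space, ← h, ← LinearMap.range_comp, ← Matrix.toLin'_mul]
  apply le_antisymm
  · rw [← cj_mul_self, Matrix.toLin'_mul]
    exact LinearMap.range_comp_le_range _ _
  · rw [cj_apply, Matrix.toLin'_mul]
    exact LinearMap.range_comp_le_range _ _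

omit [Fintype F] in
theorem isMDecomposition (he : IdemFamily H t e) (i₀ : Fin t) :
    Geo.IsMDecomposition (finrank F (space e i₀)) (space e) := by
  have hfr : ∀ i, finrank F (space e i) = finrank F (space e i₀) := by
    intro i
    obtain ⟨h, -, hh⟩ := he.trans i₀ i
    rw [← map_space h hh]
    refine ((Submodule.equivMapOfInjective _ (fun a b hab => ?_) _).finrank_eq).symm
    simpa [Matrix.toLin'_apply, mulVec_mulVec] using congrArg (((h⁻¹ : GL ι F) : Matrix ι ι F) *ᵥ ·) hab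
  refine ⟨he.two_le, ?_, hfr, ?_, ?_⟩
  · rw [Nat.pos_iff_ne_zero]
    intro h0
    refine he.ne_zero i₀ (Matrix.toLin'.injective ?_)
    rw [map_zero]
    exact LinearMap.range_eq_bot.1 (Submodule.finrank_eq_zero.1 h0)
  · intro i
    rw [Submodule.disjoint_def]
    intro v hv hv'
    have key : (⨆ (j) (_ : j ≠ i), space e j) ≤ LinearMap.ker (Matrix.toLin' (e i)) :=
      iSup₂_le fun j hj w hw => by
        rw [LinearMap.mem_ker, Matrix.toLin'_apply, he.mulVec_of_mem hw, if_neg (Ne.symm hj)]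
    have h0 := key hv'
    rw [LinearMap.mem_ker, Matrix.toLin'_apply, (he.mem_space).1 hv] at h0
    exact h0
  · refine Submodule.eq_top_iff'.2 fun v => ?_
    have : v = ∑ i, e i *ᵥ v := by rw [← Matrix.sum_mulVec, he.sum, one_mulVec]
    rw [this]
    exact Submodule.sum_mem _ fun i _ => Submodule.mem_iSup_of_mem i ⟨v, rfl⟩

omit [Fintype F] in
theorem le_decompositionStabilizer (he : IdemFamily H t e) :
    H ≤ Geo.decompositionStabilizer (space e) := by
  intro h hh
  obtain ⟨σ, hσ⟩ := he.perm h hh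
  exact ⟨σ, fun i => map_space h (hσ i)⟩

end IdemFamily

/-- A field algebra contains a unique subfield of every degree dividing its own. -/
theorem exists_subfield_degree [Nonempty ι] {c : ℕ} (hC : Geo.IsFieldSubalgebra c C) {r : ℕ} (hr : r ∣ c) :
    ∃ K : Subalgebra F (Matrix ι ι F), K ≤ C ∧ Geo.IsFieldSubalgebra r K ∧
      (∀ X, X ∈ K ↔ X ∈ C ∧ X ^ (Fintype.card F ^ r) = X) ∧
      ∀ g : GL ι F, (∀ X ∈ C, cj g X ∈ C) → ∀ X ∈ K, cj g X ∈ K := by
  classical
  letI : CommRing C := { (inferInstance : Ring C) with mul_comm := fun x y => Subtype.ext (hC.comm _ x.2 _ y.2) }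
  obtain ⟨p, hp⟩ := CharP.exists F
  haveI : Fact p.Prime := ⟨CharP.char_is_prime F p⟩
  obtain ⟨s, -, hs⟩ := FiniteField.card F p
  obtain ⟨f, hf⟩ : ∃ f : ℕ, p ^ f = Fintype.card F ^ r := ⟨s * r, by rw [hs, ← pow_mul]⟩
  haveI : Nontrivial C := ⟨0, 1, fun h => zero_ne_one (congrArg Subtype.val h)⟩
  have hunit : ∀ x : C, x ≠ 0 → IsUnit x := fun x hx => by
    obtain ⟨y, hy, hxy⟩ := hC.inv x x.2 fun h => hx (Subtype.ext h)
    exact ⟨⟨x, ⟨y, hy⟩, Subtype.ext hxy, Subtype.ext ((hC.comm _ hy _ x.2).trans hxy)⟩, rfl⟩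
  haveI : NoZeroDivisors C := ⟨fun {a b} h => by
    by_contra! hne
    exact hne.2 ((hunit a hne.1).mul_right_eq_zero.1 h)⟩
  haveI : IsDomain C := NoZeroDivisors.to_isDomain C
  haveI : CharP C p := charP_of_injective_ringHom
    (f := (algebraMap F C)) (FaithfulSMul.algebraMap_injective F C) p
  haveI : ExpChar C p := ExpChar.prime (Fact.out : p.Prime)
  let K : Subalgebra F (Matrix ι ι F) :=
    { carrier := {X | X ∈ C ∧ X ^ (Fintype.card F ^ r) = X}
      mul_mem' := fun {a b} ha hb => ⟨C.mul_mem ha.1 hb.1, by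
        rw [(show Commute a b from hC.comm a ha.1 b hb.1).mul_pow, ha.2, hb.2]⟩
      add_mem' := fun {a b} ha hb => ⟨C.add_mem ha.1 hb.1, by
        have h := add_pow_expChar_pow (R := C) (p := p) (n := f) ⟨a, ha.1⟩ ⟨b, hb.1⟩
        have h' := congrArg Subtype.val h
        simp only [Subalgebra.coe_pow, Subalgebra.coe_add, hf] at h'
        rw [h', ha.2, hb.2]⟩
      algebraMap_mem' := fun a => ⟨C.algebraMap_mem a, by rw [← map_pow, FiniteField.pow_card_pow]⟩ }
  refine ⟨K, fun X hX => hX.1, ?_, fun X => Iff.rfl, fun g hg X hX => ⟨hg X hX.1, by rw [← map_pow, hX.2]⟩⟩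
  refine ⟨fun x hx y hy => hC.comm x hx.1 y hy.1, fun x hx hx0 => ?_, ?_⟩
  · obtain ⟨y, hy, hxy⟩ := hC.inv x hx.1 hx0
    refine ⟨y, ⟨hy, ?_⟩, hxy⟩
    have h2 : x * y ^ (Fintype.card F ^ r) = 1 := by
      have := (show Commute x y from hC.comm x hx.1 y hy).mul_pow (Fintype.card F ^ r)
      rwa [hxy, one_pow, hx.2, eq_comm] at this
    have hyx : y * x = 1 := (hC.comm y hy x hx.1).trans hxy
    calc y ^ (Fintype.card F ^ r) = y * x * y ^ (Fintype.card F ^ r) := by rw [hyx, one_mul]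
      _ = y := by rw [mul_assoc, h2, mul_one]
  · haveI : Finite C := inferInstance
    have hcardC : Nat.card C = Fintype.card F ^ c := by
      rw [← hC.finrank_eq, ← Nat.card_eq_fintype_card]; exact Module.natCard_eq_pow_finrank
    have hU : Nat.card Cˣ = Fintype.card F ^ c - 1 := by
      rw [← hcardC]
      have e : Cˣ ≃ {x : C // x ≠ 0} :=
        { toFun := fun u => ⟨u, u.ne_zero⟩
          invFun := fun x => (hunit x x.2).unit
          left_inv := fun u => Units.ext rfl
          right_inv := fun x => rfl }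
      haveI := Fintype.ofFinite C
      rw [Nat.card_congr e, Nat.card_eq_fintype_card, Nat.card_eq_fintype_card, Fintype.card_subtype_compl,
        Fintype.card_subtype_eq]
    have hq1 : 1 < Fintype.card F := Fintype.one_lt_card
    have hdvd : Fintype.card F ^ r - 1 ∣ Fintype.card F ^ c - 1 := by
      obtain ⟨k, rfl⟩ := hr
      rw [pow_mul]
      simpa using Nat.sub_dvd_pow_sub_pow (Fintype.card F ^ r) 1 k
    have hker : Nat.card (powMonoidHom (Fintype.card F ^ r - 1) : Cˣ →* Cˣ).ker = Fintype.card F ^ r - 1 := by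
      rw [IsCyclic.card_powMonoidHom_ker, hU, Nat.gcd_eq_right hdvd]
    have hQ : 0 < Fintype.card F ^ r := by positivity
    have hcardK : Nat.card K = Fintype.card F ^ r := by
      let g : Option (powMonoidHom (Fintype.card F ^ r - 1) : Cˣ →* Cˣ).ker → K := fun o => o.elim 0 fun u =>
        ⟨((u : Cˣ) : C), ((u : Cˣ) : C).2, by
          have h1 : (u : Cˣ) ^ (Fintype.card F ^ r - 1) = 1 := u.2
          have h2 : (u : Cˣ) ^ (Fintype.card F ^ r) = (u : Cˣ) := by
            have h3 : (u : Cˣ) ^ (Fintype.card F ^ r - 1 + 1) = (u : Cˣ) := by rw [pow_succ, h1, one_mul]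
            rwa [Nat.sub_add_cancel hQ] at h3
          simpa using congrArg (fun z : Cˣ => ((z : C) : Matrix ι ι F)) h2⟩
      have hg : Function.Bijective g := by
        constructor
        · intro a b h
          have h' := congrArg Subtype.val h
          rcases a with _ | a <;> rcases b with _ | b
          · rfl
          · exact absurd (Subtype.ext h'.symm : ((b : Cˣ) : C) = 0) (Units.ne_zero _)
          · exact absurd (Subtype.ext h' : ((a : Cˣ) : C) = 0) (Units.ne_zero _)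
          · exact congrArg some (Subtype.ext (Units.ext (Subtype.ext h')))
        · rintro ⟨X, hXC, hX⟩
          by_cases hX0 : X = 0
          · exact ⟨none, Subtype.ext hX0.symm⟩
          · refine ⟨some ⟨(hunit ⟨X, hXC⟩ fun h => hX0 (congrArg Subtype.val h)).unit, ?_⟩, Subtype.ext rfl⟩
            refine Units.ext (mul_left_cancel₀ (a := (⟨X, hXC⟩ : C)) (fun h => hX0 (congrArg Subtype.val h)) ?_)
            rw [powMonoidHom_apply, Units.val_pow_eq_pow_val, IsUnit.unit_spec, ← pow_succ',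
              show Fintype.card F ^ r - 1 + 1 = Fintype.card F ^ r by omega, Units.val_one, mul_one]
            exact Subtype.ext hX
      rw [← Nat.card_eq_of_bijective g hg, Finite.card_option, hker]
      omega
    refine Nat.pow_right_injective hq1 ?_
    show Fintype.card F ^ finrank F K = Fintype.card F ^ r
    rw [← hcardK, Module.natCard_eq_pow_finrank (K := F) (V := K), Nat.card_eq_fintype_card]

end CfsgLib.Aschbacher
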