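import Cfsg.Agent.Lib.Aschbacher.Basic

/-!
# Forms given by Gram matrices
-/

set_option autoImplicit false

namespace CfsgLib.Aschbacher

open Matrix Module Cfsg
open scoped MatrixGroups

variable {ι : Type} [Fintype ι] [DecidableEq ι] {F : Type*} [Field F]

/-- The form with Gram matrix `G`, linear on the left and `σ`-semilinear on the right. -/
def gf (σ : F →+* F) (G : Matrix ι ι F) (u v : ι → F) : F := u ⬝ᵥ G *ᵥ (σ ∘ v)

omit [DecidableEq ι] in
theorem map_comp_mulVec (σ : F →+* F) (M : Matrix ι ι F) (v : ι → F) : σ ∘ (M *ᵥ v) = M.map σ *ᵥ (σ ∘ v) := by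
  funext i
  exact RingHom.map_mulVec σ M v i

omit [DecidableEq ι] in
theorem gf_mulVec (σ : F →+* F) (G A B : Matrix ι ι F) (u v : ι → F) :
    gf σ G (A *ᵥ u) (B *ᵥ v) = gf σ (Aᵀ * G * B.map σ) u v := by
  simp only [gf, map_comp_mulVec, mul_assoc, ← mulVec_mulVec]
  rw [dotProduct_comm, dotProduct_mulVec, ← Matrix.mulVec_transpose, dotProduct_comm]

omit [DecidableEq ι] in
theorem gf_smul_gram (σ : F →+* F) (c : F) (G : Matrix ι ι F) (u v : ι → F) :
    gf σ (c • G) u v = c * gf σ G u v := by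
  simp [gf, smul_mulVec, dotProduct_smul]

omit [DecidableEq ι] in
theorem gf_add_left (σ : F →+* F) (G : Matrix ι ι F) (x y v : ι → F) :
    gf σ G (x + y) v = gf σ G x v + gf σ G y v := add_dotProduct ..

omit [DecidableEq ι] in
theorem gf_smul_left (σ : F →+* F) (G : Matrix ι ι F) (c : F) (x v : ι → F) :
    gf σ G (c • x) v = c * gf σ G x v := smul_dotProduct ..

omit [DecidableEq ι] in
theorem gf_add_right (σ : F →+* F) (G : Matrix ι ι F) (v x y : ι → F) :
    gf σ G v (x + y) = gf σ G v x + gf σ G v y := by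
  have h : σ ∘ (x + y) = σ ∘ x + σ ∘ y := funext fun i => map_add σ _ _
  simp [gf, h, mulVec_add, dotProduct_add]

omit [DecidableEq ι] in
theorem gf_smul_right (σ : F →+* F) (G : Matrix ι ι F) (c : F) (v x : ι → F) :
    gf σ G v (c • x) = σ c * gf σ G v x := by
  have h : σ ∘ (c • x) = σ c • (σ ∘ x) := funext fun i => map_mul σ _ _
  simp [gf, h, mulVec_smul, dotProduct_smul]

theorem gf_single (σ : F →+* F) (G : Matrix ι ι F) (i j : ι) : gf σ G (Pi.single i 1) (Pi.single j 1) = G i j := by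
  have h : σ ∘ (Pi.single j (1 : F)) = Pi.single j 1 := by
    funext x
    by_cases hx : x = j
    · subst hx; simp
    · simp [hx]
  simp [gf, h]

theorem gf_ext {σ : F →+* F} {G G' : Matrix ι ι F} (h : ∀ u v, gf σ G u v = gf σ G' u v) : G = G' := by
  ext i j
  rw [← gf_single σ G, ← gf_single σ G', h]

theorem gf_bilinear (G : Matrix ι ι F) : Geo.IsBilinearForm (gf (RingHom.id F) G) :=
  ⟨gf_add_left _ G, gf_smul_left _ G, gf_add_right _ G, fun c v x => gf_smul_right _ G c v x⟩

omit [DecidableEq ι] in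
theorem gf_transpose (G : Matrix ι ι F) (u v : ι → F) :
    gf (RingHom.id F) G v u = gf (RingHom.id F) Gᵀ u v := by
  simp only [gf, RingHom.coe_id, Function.id_comp]
  rw [Matrix.mulVec_transpose, dotProduct_mulVec, dotProduct_comm]

theorem mem_similarityGroup_gf {σ : F →+* F} {G : Matrix ι ι F} {g : GL ι F} :
    g ∈ Geo.similarityGroup (gf σ G) ↔
      ∃ c : Fˣ, (g : Matrix ι ι F)ᵀ * G * (g : Matrix ι ι F).map σ = (c : F) • G := by
  constructor
  · rintro ⟨c, hc⟩
    exact ⟨c, gf_ext fun u v => by rw [gf_smul_gram, ← gf_mulVec]; exact hc u v⟩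
  · rintro ⟨c, hc⟩
    exact ⟨c, fun u v => by rw [gf_mulVec, hc, gf_smul_gram]⟩

/-- An invertible Gram matrix gives a non-degenerate form. -/
theorem gf_nondegenerate {σ : F →+* F} {G : Matrix ι ι F} (hG : IsUnit G) :
    Geo.IsNondegenerateForm (gf σ G) := by
  classical
  intro v hv
  have hσv : σ ∘ v ≠ 0 := fun h => hv (funext fun i => σ.injective (by simpa using congrFun h i))
  constructor
  · have hw : G *ᵥ (σ ∘ v) ≠ 0 := fun h => hσv ((Matrix.mulVec_injective_iff_isUnit.2 hG) (by rw [h, mulVec_zero]))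
    obtain ⟨i, hi⟩ := Function.ne_iff.1 hw
    exact ⟨Pi.single i 1, by simpa [gf] using hi⟩
  · have hw : Gᵀ *ᵥ v ≠ 0 := fun h =>
      hv ((Matrix.mulVec_injective_iff_isUnit.2 ((Matrix.isUnit_transpose _).2 hG)) (by rw [h, mulVec_zero]))
    obtain ⟨i, hi⟩ := Function.ne_iff.1 hw
    refine ⟨Pi.single i 1, ?_⟩
    have h : σ ∘ (Pi.single i (1 : F)) = Pi.single i 1 := by
      funext x
      by_cases hx : x = i
      · subst hx; simp
      · simp [hx]
    rw [gf, h, dotProduct_mulVec, dotProduct_single, mul_one, ← Matrix.mulVec_transpose]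
    exact hi

/-- A skew matrix with zero diagonal gives an alternating form. -/
theorem gf_self_eq_zero {G : Matrix ι ι F} (hd : ∀ i, G i i = 0) (hs : Gᵀ = -G) (v : ι → F) :
    gf (RingHom.id F) G v v = 0 := by
  have h : gf (RingHom.id F) G v v = ∑ p : ι × ι, v p.1 * G p.1 p.2 * v p.2 := by
    simp [gf, dotProduct, Matrix.mulVec, Finset.mul_sum, Fintype.sum_prod_type, mul_assoc]
  rw [h]
  have hs' : ∀ a b, G b a = -G a b := fun a b => by
    simpa using congrFun (congrFun hs a) b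
  refine Finset.sum_involution (fun p _ => (p.2, p.1)) ?_ ?_ (fun p _ => Finset.mem_univ _) (fun p _ => rfl)
  · rintro ⟨a, b⟩ -
    simp only [hs' a b]
    ring
  · rintro ⟨a, b⟩ - hne heq
    simp only [Prod.mk.injEq] at heq
    exact hne (by simp [heq.2, hd])

theorem isSymplecticForm_gf {G : Matrix ι ι F} (hG : IsUnit G) (hd : ∀ i, G i i = 0) (hs : Gᵀ = -G) :
    Geo.IsSymplecticForm (gf (RingHom.id F) G) where
  bilinear := gf_bilinear G
  skew v w := by rw [gf_transpose, hs]; simp [gf, Matrix.neg_mulVec]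
  alternating := gf_self_eq_zero hd hs
  nondegenerate := gf_nondegenerate hG

/-- In odd characteristic a symmetric invertible matrix gives a quadratic form. -/
theorem isNondegenerateQuadraticForm_gf {G : Matrix ι ι F} (hG : IsUnit G) (hs : Gᵀ = G) (h2 : (2 : F) ≠ 0) :
    Geo.IsNondegenerateQuadraticForm (fun v => gf (RingHom.id F) G v v) := by
  have hp : QuadraticMap.polar (fun v => gf (RingHom.id F) G v v) = gf (RingHom.id F) ((2 : F) • G) := by
    funext u v
    rw [gf_smul_gram, QuadraticMap.polar]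
    simp only [gf_add_left, gf_add_right]
    rw [gf_transpose G u v, hs]
    ring
  refine ⟨fun c v => ?_, hp ▸ gf_bilinear _, hp ▸ gf_nondegenerate ?_⟩
  · simp only [gf_smul_left, gf_smul_right, RingHom.id_apply]
    ring
  · obtain ⟨u, rfl⟩ := hG
    exact ⟨⟨(2 : F) • (u : Matrix ι ι F), (2 : F)⁻¹ • (↑u⁻¹ : Matrix ι ι F), by simp [smul_smul, h2],
      by simp [smul_smul, h2]⟩, rfl⟩

theorem mem_quadSimilarityGroup_gf {G : Matrix ι ι F} {g : GL ι F}
    (h : g ∈ Geo.similarityGroup (gf (RingHom.id F) G)) :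
    g ∈ Geo.quadSimilarityGroup (fun v => gf (RingHom.id F) G v v) := by
  obtain ⟨c, hc⟩ := h
  exact ⟨c, fun v => hc v v⟩

/-- Transport of a similarity along a change of basis and a reindexing. -/
theorem mem_similarityGroup_transport {κ : Type} [Fintype κ] [DecidableEq κ] {σ : F →+* F} {G : Matrix κ κ F}
    (e : ι ≃ κ) (P : GL ι F) {g : GL κ F} (hg : g ∈ Geo.similarityGroup (gf σ G)) :
    P * Geo.glReindex e.symm g * P⁻¹ ∈ Geo.similarityGroup
      (gf σ (((P⁻¹ : GL ι F) : Matrix ι ι F)ᵀ * G.submatrix e e * ((P⁻¹ : GL ι F) : Matrix ι ι F).map σ)) := by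
  classical
  obtain ⟨c, hc⟩ := mem_similarityGroup_gf.1 hg
  refine mem_similarityGroup_gf.2 ⟨c, ?_⟩
  set Q := ((P⁻¹ : GL ι F) : Matrix ι ι F)
  set g' := (Geo.glReindex (F := F) e.symm g : GL ι F)
  have hQP : Q * (P : Matrix ι ι F) = 1 := P.inv_mul
  have hg' : (g' : Matrix ι ι F) = (g : Matrix κ κ F).submatrix e e := rfl
  have key : (g' : Matrix ι ι F)ᵀ * G.submatrix e e * (g' : Matrix ι ι F).map σ = (c : F) • G.submatrix e e := by
    rw [hg', Matrix.transpose_submatrix, ← Matrix.submatrix_map, Matrix.submatrix_mul_equiv,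
      Matrix.submatrix_mul_equiv, hc, Matrix.submatrix_smul]
    rfl
  have hPT : (P : Matrix ι ι F)ᵀ * Qᵀ = 1 := by rw [← Matrix.transpose_mul, hQP, Matrix.transpose_one]
  have hQM : Q.map σ * (P : Matrix ι ι F).map σ = 1 := by
    rw [← Matrix.map_mul, hQP, Matrix.map_one _ (map_zero σ) (map_one σ)]
  simp only [Units.val_mul, Matrix.transpose_mul, Matrix.map_mul]
  calc Qᵀ * ((g' : Matrix ι ι F)ᵀ * (P : Matrix ι ι F)ᵀ) * (Qᵀ * G.submatrix e e * Q.map σ) *
        ((P : Matrix ι ι F).map σ * (g' : Matrix ι ι F).map σ * Q.map σ)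
      = Qᵀ * (g' : Matrix ι ι F)ᵀ * ((P : Matrix ι ι F)ᵀ * Qᵀ) * G.submatrix e e *
          (Q.map σ * (P : Matrix ι ι F).map σ) * (g' : Matrix ι ι F).map σ * Q.map σ := by
        simp only [mul_assoc]
    _ = Qᵀ * ((g' : Matrix ι ι F)ᵀ * G.submatrix e e * (g' : Matrix ι ι F).map σ) * Q.map σ := by
        rw [hPT, hQM, mul_one, mul_one]
        simp only [mul_assoc]
    _ = _ := by rw [key, Matrix.mul_smul, Matrix.smul_mul]

end CfsgLib.Aschbacher
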