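import Cfsg.Agent.Lib.Aschbacher.Basic

/-!
# Minimal non-scalar normal subgroups
-/

set_option autoImplicit false

namespace CfsgLib.Aschbacher

open Matrix Module Cfsg
open scoped MatrixGroups commutatorElement

variable {ι : Type} [Fintype ι] [DecidableEq ι] {F : Type*} [Field F]

/-- `N` is a subgroup of `H` normalised by `H`. -/
structure NormIn (H N : Subgroup (GL ι F)) : Prop where
  le : N ≤ H
  conj : ∀ h ∈ H, ∀ x ∈ N, h * x * h⁻¹ ∈ N

theorem normIn_self (H : Subgroup (GL ι F)) : NormIn H H :=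
  ⟨le_rfl, fun _ hh _ hx => H.mul_mem (H.mul_mem hh hx) (H.inv_mem hh)⟩

theorem NormIn.map_eq {H N : Subgroup (GL ι F)} (hN : NormIn H N) {h : GL ι F} (hh : h ∈ H) :
    N.map (MulAut.conj h).toMonoidHom = N := by
  refine le_antisymm ?_ fun x hx => ?_
  · rintro _ ⟨x, hx, rfl⟩
    exact hN.conj h hh x hx
  · exact ⟨h⁻¹ * x * h, by simpa using hN.conj _ (H.inv_mem hh) x hx, by simp [mul_assoc]⟩

theorem NormIn.commutator {H N M : Subgroup (GL ι F)} (hN : NormIn H N) (hM : NormIn H M) :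
    NormIn H ⁅N, M⁆ := by
  refine ⟨Subgroup.commutator_le.2 fun x hx y hy => ?_, fun h hh x hx => ?_⟩
  · exact H.mul_mem (H.mul_mem (H.mul_mem (hN.le hx) (hM.le hy)) (H.inv_mem (hN.le hx))) (H.inv_mem (hM.le hy))
  · have : (MulAut.conj h).toMonoidHom x ∈ (⁅N, M⁆).map (MulAut.conj h).toMonoidHom := ⟨x, hx, rfl⟩
    rw [Subgroup.map_commutator, hN.map_eq hh, hM.map_eq hh] at this
    exact this

theorem NormIn.commutator_self_le {H N : Subgroup (GL ι F)} (_hN : NormIn H N) : ⁅N, N⁆ ≤ N :=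
  Subgroup.commutator_le.2 fun _ hx _ hy => N.mul_mem (N.mul_mem (N.mul_mem hx hy) (N.inv_mem hx)) (N.inv_mem hy)

/-- `N` is minimal among the subgroups of `H` that are normalised by `H` and not scalar. -/
structure MinNS (H N : Subgroup (GL ι F)) : Prop where
  norm : NormIn H N
  nonscalar : ¬ N ≤ Geo.scalars ι F
  minimal : ∀ M ≤ N, (∀ h ∈ H, ∀ x ∈ M, h * x * h⁻¹ ∈ M) → M ≤ Geo.scalars ι F ∨ M = N

theorem exists_minNS [Finite F] {H : Subgroup (GL ι F)} (hH : ¬ H ≤ Geo.scalars ι F) : ∃ N, MinNS H N := by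
  classical
  haveI : Finite (GL ι F) := inferInstance
  obtain ⟨N, ⟨hN, hns⟩, hmin⟩ := Set.exists_min_image {N : Subgroup (GL ι F) | NormIn H N ∧ ¬ N ≤ Geo.scalars ι F}
    (fun N => Nat.card N) (Set.toFinite _) ⟨H, normIn_self H, hH⟩
  refine ⟨N, hN, hns, fun M hM hconj => or_iff_not_imp_left.2 fun hMs => ?_⟩
  exact Subgroup.eq_of_le_of_card_ge hM (hmin M ⟨⟨hM.trans hN.le, hconj⟩, hMs⟩)

theorem MinNS.derived {H N : Subgroup (GL ι F)} (h : MinNS H N) :
    ⁅N, N⁆ ≤ Geo.scalars ι F ∨ ⁅N, N⁆ = N :=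
  h.minimal _ h.norm.commutator_self_le (h.norm.commutator h.norm).conj

/-- An irreducible group in dimension at least two is not scalar. -/
theorem not_le_scalars_of_irr {H : Subgroup (GL ι F)} (hH : Irr H) (hι : 2 ≤ Fintype.card ι) :
    ¬ H ≤ Geo.scalars ι F := by
  classical
  intro hle
  obtain ⟨i⟩ : Nonempty ι := Fintype.card_pos_iff.1 (by omega)
  rcases hH.eq_bot_or_top (Submodule.span F {(Pi.single i 1 : ι → F)}) (fun h hh v hv => by
    obtain ⟨c, hc⟩ := (Geo.mem_scalars_iff h).1 (hle hh)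
    rw [hc, smul_mulVec, one_mulVec]
    exact Submodule.smul_mem _ _ hv) with h | h
  · simp at h
  · have h1 := congrArg (fun W : Submodule F (ι → F) => finrank F W) h
    simp only [finrank_top, Module.finrank_fintype_fun_eq_card] at h1
    rw [finrank_span_singleton (by simp)] at h1
    omega

end CfsgLib.Aschbacher
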