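import Cfsg.Agent.Lib.Aschbacher.Gram
import Cfsg.Agent.Lib.Aschbacher.Minimal
import Cfsg.Agent.Lib.Known.AltEven

/-!
# Forms fixed by an absolutely irreducible normal subgroup
-/

set_option autoImplicit false

namespace CfsgLib.Aschbacher

open Matrix Module Cfsg
open scoped MatrixGroups

variable {ι : Type} [Fintype ι] [DecidableEq ι] {F : Type*} [Field F]

/-- `G` is invariant under `N` for the `σ`-sesquilinear action. -/
def InvGram (σ : F ≃+* F) (N : Subgroup (GL ι F)) (G : Matrix ι ι F) : Prop :=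
  ∀ x ∈ N, (x : Matrix ι ι F)ᵀ * G * (x : Matrix ι ι F).map σ = G

theorem eq_gf {σ : F →+* F} {f : (ι → F) → (ι → F) → F} (al : ∀ x y v, f (x + y) v = f x v + f y v)
    (sl : ∀ (c : F) x v, f (c • x) v = c * f x v) (ar : ∀ v x y, f v (x + y) = f v x + f v y)
    (sr : ∀ (c : F) v x, f v (c • x) = σ c * f v x) : f = gf σ (Geo.gramMatrix f) := by
  classical
  funext u v
  let fl : (ι → F) →+ F := AddMonoidHom.mk' (fun x => f x v) fun x y => al x y v
  have h1 : f u v = ∑ i, u i * f (Pi.single i 1) v := by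
    conv_lhs => rw [← Finset.univ_sum_single u]
    rw [show f (∑ i, Pi.single i (u i)) v = fl (∑ i, Pi.single i (u i)) from rfl, map_sum]
    refine Finset.sum_congr rfl fun i _ => ?_
    show f (Pi.single i (u i)) v = _
    rw [← sl, ← Pi.single_smul, smul_eq_mul, mul_one]
  have h2 : ∀ i, f (Pi.single i 1) v = ∑ j, f (Pi.single i 1) (Pi.single j 1) * σ (v j) := by
    intro i
    let fr : (ι → F) →+ F := AddMonoidHom.mk' (fun x => f (Pi.single i 1) x) fun x y => ar _ x y
    conv_lhs => rw [← Finset.univ_sum_single v]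
    rw [show f (Pi.single i 1) (∑ j, Pi.single j (v j)) = fr (∑ j, Pi.single j (v j)) from rfl, map_sum]
    refine Finset.sum_congr rfl fun j _ => ?_
    show f (Pi.single i 1) (Pi.single j (v j)) = _
    rw [mul_comm, ← sr, ← Pi.single_smul, smul_eq_mul, mul_one]
  rw [h1]
  simp only [gf, dotProduct, Matrix.mulVec, Geo.gramMatrix, Function.comp_apply]
  exact Finset.sum_congr rfl fun i _ => by rw [h2]

theorem isBilinearForm_eq_gf {f : (ι → F) → (ι → F) → F} (hf : Geo.IsBilinearForm f) :
    f = gf (RingHom.id F) (Geo.gramMatrix f) :=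
  eq_gf hf.add_left hf.smul_left hf.add_right fun c v x => hf.smul_right c v x

theorem isUnitaryForm_eq_gf {σ : F ≃+* F} {f : (ι → F) → (ι → F) → F} (hf : Geo.IsUnitaryForm σ f) :
    f = gf σ.toRingHom (Geo.gramMatrix f) :=
  eq_gf hf.add_left hf.smul_left (fun v x y => by rw [hf.herm, hf.add_left, map_add, ← hf.herm, ← hf.herm])
    fun c v x => by
      rw [hf.herm, hf.smul_left, map_mul, ← hf.herm]
      rfl

theorem isUnit_gram {σ : F →+* F} {G : Matrix ι ι F} (h : Geo.IsNondegenerateForm (gf σ G)) : IsUnit G := by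
  classical
  by_contra hG
  have hdet : Gᵀ.det = 0 := by
    rw [Matrix.det_transpose]
    by_contra hd
    exact hG ((Matrix.isUnit_iff_isUnit_det G).2 (isUnit_iff_ne_zero.2 hd))
  obtain ⟨v, hv0, hv⟩ := Matrix.exists_mulVec_eq_zero_iff.2 hdet
  obtain ⟨-, x, hx⟩ := h v hv0
  apply hx
  rw [gf, dotProduct_mulVec, ← Matrix.mulVec_transpose, hv, zero_dotProduct]

theorem invGram_of_fixes {σ : F ≃+* F} {N : Subgroup (GL ι F)} {G : Matrix ι ι F}
    (h : Geo.FixesForm (Geo.matrixSet N) (gf σ.toRingHom G)) : InvGram σ N G := fun x hx =>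
  gf_ext (σ := σ.toRingHom) fun u v => by
    rw [show ((x : Matrix ι ι F).map σ) = (x : Matrix ι ι F).map σ.toRingHom from rfl, ← gf_mulVec]
    exact h _ ⟨x, hx, rfl⟩ u v

/-- An invariant Gram matrix of an absolutely irreducible group is unique up to a scalar. -/
theorem invGram_unique {σ : F ≃+* F} {N : Subgroup (GL ι F)} {G G' : Matrix ι ι F} (hfull : Full N)
    (hG : IsUnit G) (h : InvGram σ N G) (h' : InvGram σ N G') : ∃ c : F, G' = c • G := by
  classical
  obtain ⟨u, rfl⟩ := hG
  set D := ((u⁻¹ : (Matrix ι ι F)ˣ) : Matrix ι ι F) * G' with hD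
  have hcomm : ∀ x ∈ N, D * (x : Matrix ι ι F).map σ = (x : Matrix ι ι F).map σ * D := by
    intro x hx
    have e1 : (x : Matrix ι ι F)ᵀ * (u : Matrix ι ι F) * (x : Matrix ι ι F).map σ * D = G' := by
      rw [h x hx, hD, ← mul_assoc, Units.mul_inv, one_mul]
    have e2 := h' x hx
    have hx' : IsUnit ((x : Matrix ι ι F)ᵀ * (u : Matrix ι ι F)) :=
      ((Matrix.isUnit_transpose _).2 x.isUnit).mul u.isUnit
    apply hx'.mul_left_cancel
    rw [← mul_assoc ((x : Matrix ι ι F)ᵀ * (u : Matrix ι ι F)) ((x : Matrix ι ι F).map σ) D, e1, hD, mul_assoc,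
      ← mul_assoc (u : Matrix ι ι F), ← mul_assoc (u : Matrix ι ι F), Units.mul_inv, one_mul, ← mul_assoc, e2]
  obtain ⟨c, hc⟩ := hfull.commute_scalar (X := D.map σ.symm) fun x hx => by
    have h1 := congrArg (fun M : Matrix ι ι F => M.map σ.symm) (hcomm x hx)
    have hx2 : ((x : Matrix ι ι F).map σ).map σ.symm = (x : Matrix ι ι F) := by ext; simp
    simpa [Matrix.map_mul, hx2] using h1
  refine ⟨σ c, ?_⟩
  have hD2 : D = σ c • (1 : Matrix ι ι F) := by
    have h1 : D = (D.map σ.symm).map σ := by ext; simp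
    rw [h1, hc]
    ext i j
    by_cases hij : i = j
    · subst hij; simp
    · simp [hij]
  calc G' = (u : Matrix ι ι F) * D := by rw [hD, ← mul_assoc, Units.mul_inv, one_mul]
    _ = _ := by rw [hD2, Matrix.mul_smul, mul_one]

/-- The normaliser of an absolutely irreducible group preserves its invariant form up to a scalar. -/
theorem le_similarity_of_invGram [Nonempty ι] {H N : Subgroup (GL ι F)} (hN : NormIn H N) (hfull : Full N)
    {σ : F ≃+* F} {G : Matrix ι ι F} (hG : IsUnit G) (h : InvGram σ N G) :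
    H ≤ Geo.similarityGroup (gf σ.toRingHom G) := by
  intro a ha
  have hinv : InvGram σ N ((a : Matrix ι ι F)ᵀ * G * (a : Matrix ι ι F).map σ) := by
    intro x hx
    have hy := hN.conj a ha x hx
    have e : ((a * x * a⁻¹ : GL ι F) : Matrix ι ι F) * (a : Matrix ι ι F) = (a : Matrix ι ι F) * x := by
      simp [mul_assoc]
    calc (x : Matrix ι ι F)ᵀ * ((a : Matrix ι ι F)ᵀ * G * (a : Matrix ι ι F).map σ) * (x : Matrix ι ι F).map σ
        = ((a : Matrix ι ι F) * (x : Matrix ι ι F))ᵀ * G * ((a : Matrix ι ι F) * (x : Matrix ι ι F)).map σ := by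
          rw [Matrix.transpose_mul, Matrix.map_mul]; simp only [mul_assoc]
      _ = (a : Matrix ι ι F)ᵀ * (((a * x * a⁻¹ : GL ι F) : Matrix ι ι F)ᵀ * G *
            ((a * x * a⁻¹ : GL ι F) : Matrix ι ι F).map σ) * (a : Matrix ι ι F).map σ := by
          rw [← e, Matrix.transpose_mul, Matrix.map_mul]; simp only [mul_assoc]
      _ = _ := by rw [h _ hy]
  obtain ⟨c, hc⟩ := invGram_unique hfull hG h hinv
  have hc0 : c ≠ 0 := by
    intro h0
    rw [h0, zero_smul] at hc
    have hu : IsUnit ((a : Matrix ι ι F)ᵀ * G * (a : Matrix ι ι F).map σ) :=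
      (((Matrix.isUnit_transpose _).2 a.isUnit).mul hG).mul (a.isUnit.map σ.toRingHom.mapMatrix)
    exact not_isUnit_zero (hc ▸ hu)
  exact mem_similarityGroup_gf.2 ⟨Units.mk0 c hc0, hc⟩

theorem transpose_map_involutive {σ : F ≃+* F} (h2 : ∀ a, σ (σ a) = a) (G : Matrix ι ι F) :
    ((G.map σ)ᵀ.map σ)ᵀ = G := by
  ext i j
  simp [h2]

theorem InvGram.adjoint {σ : F ≃+* F} {N : Subgroup (GL ι F)} {G : Matrix ι ι F} (h2 : ∀ a, σ (σ a) = a)
    (h : InvGram σ N G) : InvGram σ N (G.map σ)ᵀ := by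
  intro x hx
  have h1 := congrArg (fun M : Matrix ι ι F => (M.map σ)ᵀ) (h x hx)
  simp only [Matrix.map_mul, Matrix.transpose_mul, ← mul_assoc] at h1
  have hx2 : ((x : Matrix ι ι F).map σ).map σ = (x : Matrix ι ι F) := by ext; simp [h2]
  have hxT : (((x : Matrix ι ι F)ᵀ).map σ)ᵀ = (x : Matrix ι ι F).map σ := by ext; simp
  rw [hx2, hxT] at h1
  exact h1

/-- An invariant sesquilinear form can be made hermitian. -/
theorem exists_hermitian_gram [Nonempty ι] {σ : F ≃+* F} (hne : σ ≠ RingEquiv.refl F) (h2 : ∀ a, σ (σ a) = a)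
    {N : Subgroup (GL ι F)} (hfull : Full N) {G : Matrix ι ι F} (hG : IsUnit G) (h : InvGram σ N G) :
    ∃ G' : Matrix ι ι F, IsUnit G' ∧ (G'.map σ)ᵀ = G' ∧ InvGram σ N G' := by
  classical
  obtain ⟨c, hc⟩ := invGram_unique hfull hG h (h.adjoint h2)
  have hcc : σ c * c = 1 := by
    have h1 := congrArg (fun M : Matrix ι ι F => (M.map σ)ᵀ) hc
    simp only [transpose_map_involutive h2] at h1
    rw [show (c • G).map σ = σ c • G.map σ from Matrix.ext fun i j => map_mul σ c _, Matrix.transpose_smul, hc,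
      smul_smul] at h1
    obtain ⟨i, j, hij⟩ : ∃ i j, G i j ≠ 0 := by
      by_contra! hcon
      exact not_isUnit_zero ((Matrix.ext hcon : G = 0) ▸ hG)
    have h3 := congrFun (congrFun h1 i) j
    simp only [Matrix.smul_apply, smul_eq_mul] at h3
    exact mul_right_cancel₀ hij (by rw [one_mul]; exact h3.symm)
  obtain ⟨b, hb⟩ : ∃ b, b + c * σ b ≠ 0 := by
    by_contra! hcon
    have h1 := hcon 1
    rw [map_one, mul_one] at h1
    refine hne (RingEquiv.ext fun b => ?_)
    have h3 := hcon b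
    rw [show c = -1 by linear_combination h1] at h3
    show σ b = b
    linear_combination -h3
  refine ⟨(b + c * σ b) • G, ?_, ?_, fun x hx => ?_⟩
  · obtain ⟨u, rfl⟩ := hG
    exact ⟨⟨(b + c * σ b) • (u : Matrix ι ι F), (b + c * σ b)⁻¹ • ((u⁻¹ : (Matrix ι ι F)ˣ) : Matrix ι ι F),
      by simp [smul_smul, hb], by simp [smul_smul, hb]⟩, rfl⟩
  · rw [show ((b + c * σ b) • G).map σ = σ (b + c * σ b) • G.map σ from Matrix.ext fun i j => map_mul σ _ _,
      Matrix.transpose_smul, hc, smul_smul, map_add, map_mul, h2]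
    congr 1
    linear_combination b * hcc
  · rw [Matrix.mul_smul, Matrix.smul_mul, h x hx]

theorem isUnitaryForm_gf {σ : F ≃+* F} (hne : σ ≠ RingEquiv.refl F) (h2 : ∀ a, σ (σ a) = a) {G : Matrix ι ι F}
    (hG : IsUnit G) (hh : (G.map σ)ᵀ = G) : Geo.IsUnitaryForm σ (gf σ.toRingHom G) where
  ne_refl := hne
  involutive := h2
  add_left := gf_add_left _ G
  smul_left := gf_smul_left _ G
  nondegenerate := gf_nondegenerate hG
  herm v w := by
    have hG' : ∀ i j, σ (G j i) = G i j := fun i j => congrFun (congrFun hh i) j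
    simp only [gf, dotProduct, Matrix.mulVec, map_sum, map_mul, Finset.mul_sum, Function.comp_apply,
      RingEquiv.toRingHom_eq_coe, RingEquiv.coe_toRingHom, h2, hG']
    rw [Finset.sum_comm]
    exact Finset.sum_congr rfl fun i _ => Finset.sum_congr rfl fun j _ => by ring

/-- A symplectic form lives in even dimension. -/
theorem IsSymplecticForm.even_card {f : (ι → F) → (ι → F) → F} (hf : Geo.IsSymplecticForm f) :
    Even (Fintype.card ι) := by
  refine CfsgLib.Known.even_finrank_of_alt_nondeg (K := F) _ (V := ι → F) (Module.finrank_fintype_fun_eq_card F)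
    (LinearMap.mk₂ F f hf.bilinear.add_left hf.bilinear.smul_left hf.bilinear.add_right hf.bilinear.smul_right)
    hf.alternating fun x hx => ?_
  by_contra h0
  obtain ⟨y, hy⟩ := (hf.nondegenerate x h0).2
  exact hy (hx y)

/-- In even characteristic the polar of a non-degenerate quadratic form is symplectic. -/
theorem isSymplecticForm_polar {Q : (ι → F) → F} (hQ : Geo.IsNondegenerateQuadraticForm Q) (h2 : (2 : F) = 0) :
    Geo.IsSymplecticForm (QuadraticMap.polar Q) where
  bilinear := hQ.polar_bilinear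
  nondegenerate := hQ.nondegenerate
  alternating v := by
    have h := hQ.smul 2 v
    rw [two_smul] at h
    simp only [QuadraticMap.polar, h]
    linear_combination (2 * Q v - Q v) * h2
  skew v w := by
    rw [eq_neg_iff_add_eq_zero]
    simp only [QuadraticMap.polar, add_comm w v]
    linear_combination (Q (v + w) - Q v - Q w) * h2

theorem polar_eq_two_mul {Q : (ι → F) → F} (hQ : Geo.IsNondegenerateQuadraticForm Q) (v : ι → F) :
    QuadraticMap.polar Q v v = 2 * Q v := by
  have h := hQ.smul 2 v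
  rw [two_smul] at h
  simp only [QuadraticMap.polar, h]
  ring

theorem fixesForm_polar {Q : (ι → F) → F} {S : Set (Matrix ι ι F)} (h : Geo.FixesQuadForm S Q) :
    Geo.FixesForm S (QuadraticMap.polar Q) := fun s hs u v => by
  simp only [QuadraticMap.polar, ← Matrix.mulVec_add, h s hs]

theorem fixes_bilinear_le_similarity [Nonempty ι] {H N : Subgroup (GL ι F)} (hN : NormIn H N) (hfull : Full N)
    {f : (ι → F) → (ι → F) → F} (hf : Geo.IsBilinearForm f) (hnd : Geo.IsNondegenerateForm f)
    (h : Geo.FixesForm (Geo.matrixSet N) f) : H ≤ Geo.similarityGroup f := by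
  have hid : ((RingEquiv.refl F : F ≃+* F).toRingHom) = RingHom.id F := RingHom.ext fun _ => rfl
  rw [isBilinearForm_eq_gf hf] at hnd h ⊢
  rw [← hid] at hnd h ⊢
  exact le_similarity_of_invGram hN hfull (isUnit_gram hnd) (invGram_of_fixes h)

theorem fixes_unitary_le_similarity [Nonempty ι] {H N : Subgroup (GL ι F)} (hN : NormIn H N) (hfull : Full N)
    {σ : F ≃+* F} {f : (ι → F) → (ι → F) → F} (hf : Geo.IsUnitaryForm σ f)
    (h : Geo.FixesForm (Geo.matrixSet N) f) : H ≤ Geo.similarityGroup f := by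
  have hnd := hf.nondegenerate
  rw [isUnitaryForm_eq_gf hf] at hnd h ⊢
  exact le_similarity_of_invGram hN hfull (isUnit_gram hnd) (invGram_of_fixes h)

end CfsgLib.Aschbacher
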