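import Cfsg.Prelude.Def_GeometricClasses
import Cfsg.Agent.Lib.Aschbacher.Subfield

/-!
# The smallest field containing given roots of unity
-/

set_option autoImplicit false

namespace CfsgLib.Aschbacher

open Cfsg

variable {F : Type*} [Field F] [Fintype F]

theorem dvd_pow_sub_one_iff {p z : ℕ} (hp : 0 < p) (d : ℕ) : z ∣ p ^ d - 1 ↔ (p : ZMod z) ^ d = 1 := by
  rw [← Nat.modEq_iff_dvd' (Nat.one_le_pow _ _ hp), ← ZMod.natCast_eq_natCast_iff, Nat.cast_one, Nat.cast_pow, eq_comm]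

/-- Either a proper subfield contains the roots of unity, or the field is minimal for them. -/
theorem subfield_or_minimal {z : ℕ} (hz : z ∣ Fintype.card F - 1) :
    (∃ K : Subfield F, K ≠ ⊤ ∧ z ∣ Nat.card K - 1) ∨ ∃ p e, Geo.IsMinimalFieldFor z p e F := by
  obtain ⟨p, hp⟩ := CharP.exists F
  haveI : Fact p.Prime := ⟨CharP.char_is_prime F p⟩
  obtain ⟨e, -, he⟩ := FiniteField.card F p
  have hp0 : 0 < p := (Fact.out : p.Prime).pos
  rw [he] at hz
  by_cases h : ∃ d, 0 < d ∧ d < (e : ℕ) ∧ z ∣ p ^ d - 1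
  · obtain ⟨d, hd, hde, hzd⟩ := h
    rw [dvd_pow_sub_one_iff hp0] at hzd hz
    have h1 : orderOf (p : ZMod z) ∣ d := orderOf_dvd_of_pow_eq_one hzd
    have h2 : orderOf (p : ZMod z) ∣ e := orderOf_dvd_of_pow_eq_one hz
    have h3 : 0 < orderOf (p : ZMod z) := Nat.pos_of_dvd_of_pos h1 hd
    obtain ⟨K, hK⟩ := exists_subfield_pow he h2 h3
    refine Or.inl ⟨K, fun hKt => ?_, by rw [hK, dvd_pow_sub_one_iff hp0]; exact pow_orderOf_eq_one _⟩
    have hc : Nat.card K = Fintype.card F := by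
      rw [hKt, ← Nat.card_eq_fintype_card]
      exact Nat.card_congr (Equiv.Set.univ F)
    rw [hK, he] at hc
    have h4 := Nat.pow_right_injective (Fact.out : p.Prime).two_le hc
    have h5 := Nat.le_of_dvd hd h1
    omega
  · push Not at h
    exact Or.inr ⟨p, e, Fact.out, hp, he, hz, fun d hd hde => h d hd hde⟩

/-- Over a minimal field of even degree the involutive automorphism inverts the roots of unity. -/
theorem exists_inverting_involution {z p e : ℕ} (h : Geo.IsMinimalFieldFor z p e F) (hz : z.Prime ∨ z = 4)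
    (he : Even e) (he0 : 0 < e) :
    ∃ σ : F ≃+* F, σ ≠ RingEquiv.refl F ∧ (∀ a, σ (σ a) = a) ∧ ∀ c : F, c ^ z = 1 → σ c = c⁻¹ := by
  obtain ⟨hp, hchar, hF, hze, hmin⟩ := h
  haveI : Fact p.Prime := ⟨hp⟩
  obtain ⟨d, rfl⟩ := he
  obtain ⟨K, hK⟩ := exists_subfield_pow (p := p) hF ⟨2, by omega⟩ (show 0 < d by omega)
  obtain ⟨τ, hτ, -⟩ := exists_frob K
  have hnd : ¬ z ∣ p ^ d - 1 := hmin d (by omega) (by omega)
  have h1 : 1 ≤ p ^ d := Nat.one_le_pow _ _ hp.pos
  have hprod : z ∣ (p ^ d - 1) * (p ^ d + 1) := by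
    have : (p ^ d - 1) * (p ^ d + 1) = p ^ (d + d) - 1 := by
      rw [mul_comm, ← Nat.sq_sub_sq, one_pow, pow_two, pow_add]
    rwa [this]
  have hdvd : z ∣ p ^ d + 1 := by
    rcases hz with hz | rfl
    · exact (hz.dvd_mul.1 hprod).resolve_left hnd
    · have h2 : p ^ d % 2 = 1 := by
        have : 2 ∣ p ^ (d + d) - 1 := dvd_trans (by norm_num) hze
        rw [pow_add] at this
        rcases Nat.mod_two_eq_zero_or_one (p ^ d) with h0 | h0
        · exfalso
          have h3 : (p ^ d * p ^ d) % 2 = 0 := by simp [Nat.mul_mod, h0]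
          have h4 : 1 ≤ p ^ d * p ^ d := Nat.one_le_iff_ne_zero.2 (by positivity)
          omega
        · exact h0
      omega
  refine ⟨τ, fun h => hnd ?_, fun a => ?_, fun c hc => ?_⟩
  · exfalso
    have hall : ∀ a : F, a ∈ K := fun a => (mem_subfield_iff_pow K a).2 (by rw [← hτ, h]; rfl)
    have hKt : Nat.card K = Fintype.card F := by
      rw [← Nat.card_eq_fintype_card]
      exact Nat.card_congr (Equiv.subtypeUnivEquiv hall)
    rw [hK, hF] at hKt
    have := Nat.pow_right_injective hp.two_le hKt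
    omega
  · rw [hτ, hτ, hK, ← pow_mul, ← pow_add, ← hF]
    exact FiniteField.pow_card a
  · rw [hτ, hK]
    obtain ⟨k, hk⟩ := hdvd
    refine eq_inv_of_mul_eq_one_left ?_
    rw [← pow_succ, hk, pow_mul, hc, one_pow]

end CfsgLib.Aschbacher
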