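import Cfsg.Agent.Lib.Aschbacher.Commutative

/-!
# Invariant algebras with trivial centre: matrix algebras and tensor decompositions
-/

set_option autoImplicit false

namespace CfsgLib.Aschbacher

open Matrix Module Cfsg
open scoped MatrixGroups Kronecker

variable {ι : Type} [Fintype ι] [DecidableEq ι] {F : Type*} [Field F]
variable {H : Subgroup (GL ι F)} {A : Subalgebra F (Matrix ι ι F)}

/-- The centre of a subalgebra, as a subalgebra of the matrix algebra. -/
def centre (A : Subalgebra F (Matrix ι ι F)) : Subalgebra F (Matrix ι ι F) :=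
  A ⊓ Subalgebra.centralizer F (A : Set (Matrix ι ι F))

theorem mem_centre {X : Matrix ι ι F} : X ∈ centre A ↔ X ∈ A ∧ ∀ Y ∈ A, Y * X = X * Y := by
  simp [centre, Subalgebra.mem_centralizer_iff]

theorem centre_comm : ∀ X ∈ centre A, ∀ Y ∈ centre A, X * Y = Y * X :=
  fun _ hX _ hY => ((mem_centre.1 hX).2 _ (mem_centre.1 hY).1).symm

theorem invBy_centre (hA : InvBy H A) : InvBy H (centre A) := by
  intro h hh X hX
  obtain ⟨hX1, hX2⟩ := mem_centre.1 hX
  refine mem_centre.2 ⟨hA h hh X hX1, fun Y hY => ?_⟩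
  have := congrArg (cj h) (hX2 _ (hA h⁻¹ (H.inv_mem hh) Y hY))
  simpa [map_mul, cj_self_inv] using this

theorem eq_smul_one_of_mem_bot {X : Matrix ι ι F} (hX : X ∈ (⊥ : Subalgebra F (Matrix ι ι F))) :
    ∃ c : F, X = c • (1 : Matrix ι ι F) := by
  obtain ⟨c, rfl⟩ := Algebra.mem_bot.1 hX
  exact ⟨c, Algebra.algebraMap_eq_smul_one c⟩

section
variable [Fintype F]

/-- An invariant subalgebra of an irreducible group is semisimple. -/
theorem isSemisimpleRing_of_invBy [Nonempty ι] (hH : Irr H) (hA : InvBy H A) : IsSemisimpleRing A := by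
  classical
  haveI : Finite A := inferInstance
  haveI : IsArtinianRing A := isArtinian_of_finite
  rw [IsArtinianRing.isSemisimpleRing_iff_jacobson]
  set J := Ring.jacobson A with hJ
  obtain ⟨k, hk⟩ : IsNilpotent J := IsSemiprimaryRing.isNilpotent
  let W : Submodule F (ι → F) :=
    { carrier := {w | ∀ X : A, X ∈ J → (X : Matrix ι ι F) *ᵥ w = 0}
      add_mem' := fun {a b} ha hb X hX => by rw [mulVec_add, ha X hX, hb X hX, add_zero]
      zero_mem' := fun X _ => mulVec_zero _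
      smul_mem' := fun c a ha X hX => by rw [mulVec_smul, ha X hX, smul_zero] }
  have hinv : ∀ h ∈ H, ∀ w ∈ W, (h : Matrix ι ι F) *ᵥ w ∈ W := by
    intro h hh w hw X hX
    let f : A →+* A :=
      { toFun := fun Y => ⟨cj h⁻¹ Y, hA _ (H.inv_mem hh) _ Y.2⟩
        map_one' := Subtype.ext (by simp)
        map_mul' := fun Y Z => Subtype.ext (by simp)
        map_zero' := Subtype.ext (by simp)
        map_add' := fun Y Z => Subtype.ext (by simp) }
    haveI : RingHomSurjective f :=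
      ⟨fun Y => ⟨⟨cj h Y, hA h hh _ Y.2⟩, Subtype.ext (cj_inv_self h _)⟩⟩
    have h1 : cj h⁻¹ (X : Matrix ι ι F) *ᵥ w = 0 := hw (f X) (Ring.le_comap_jacobson f hX)
    have := congrArg ((h : Matrix ι ι F) *ᵥ ·) h1
    simpa [cj_apply, mulVec_mulVec, ← mul_assoc] using this
  have hne : W ≠ ⊥ := by
    intro hW
    have key : ∀ m v, v ≠ (0 : ι → F) → ∃ X ∈ J ^ m, (X : Matrix ι ι F) *ᵥ v ≠ 0 := by
      intro m
      induction m with
      | zero => exact fun v hv => ⟨1, by rw [Submodule.pow_zero, Ideal.one_eq_top]; trivial, by simpa using hv⟩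
      | succ m ih =>
        intro v hv
        obtain ⟨X, hX, hXv⟩ : ∃ X : A, X ∈ J ∧ (X : Matrix ι ι F) *ᵥ v ≠ 0 := by
          by_contra! hcon
          exact hv ((Submodule.mem_bot F).1 (hW ▸ (hcon : v ∈ W)))
        obtain ⟨Y, hY, hYv⟩ := ih _ hXv
        refine ⟨Y * X, ?_, by simpa [← mulVec_mulVec] using hYv⟩
        rw [Submodule.pow_succ]
        exact Ideal.mul_mem_mul hY hX
    obtain ⟨i⟩ := ‹Nonempty ι›
    obtain ⟨X, hX, hXv⟩ := key k (Pi.single i 1) (by simp)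
    rw [hk] at hX
    exact hXv (by rw [(Submodule.mem_bot A).1 hX, ZeroMemClass.coe_zero, zero_mulVec])
  refine (Submodule.eq_bot_iff _).2 fun X hX => Subtype.ext ?_
  refine Matrix.toLin'.injective (LinearMap.ext fun w => ?_)
  have hw : w ∈ W := ((hH.eq_bot_or_top W hinv).resolve_left hne) ▸ Submodule.mem_top
  simpa [Matrix.toLin'_apply] using hw X hX

/-- An invariant subalgebra with trivial centre is a full matrix algebra. -/
theorem exists_matrixEquiv [Nonempty ι] (hH : Irr H) (hA : InvBy H A)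
    (hC : ∀ X ∈ centre A, ∃ c : F, X = c • (1 : Matrix ι ι F)) :
    ∃ a : ℕ, 0 < a ∧ Nonempty (Matrix (Fin a) (Fin a) F ≃ₐ[F] A) := by
  classical
  haveI := isSemisimpleRing_of_invBy hH hA
  obtain ⟨n, D, d, iD, iA, iF, hd, ⟨e⟩⟩ := IsSemisimpleRing.exists_algEquiv_pi_matrix_divisionRing_finite F A
  have hcentral : ∀ z : Π i, Matrix (Fin (d i)) (Fin (d i)) (D i), (∀ y, y * z = z * y) →
      ∃ c : F, z = algebraMap F _ c := by
    intro z hz
    obtain ⟨c, hc⟩ := hC (e.symm z) (mem_centre.2 ⟨(e.symm z).2, fun Y hY => by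
      have := congrArg e.symm (hz (e ⟨Y, hY⟩))
      simpa using congrArg Subtype.val this⟩)
    refine ⟨c, ?_⟩
    rw [← e.commutes, ← e.apply_symm_apply z]
    exact congrArg e (Subtype.ext (by rw [hc]; exact (Algebra.algebraMap_eq_smul_one c).symm))
  have hn : n = 1 := by
    rcases Nat.lt_trichotomy n 1 with h | h | h
    · obtain rfl : n = 0 := by omega
      exact absurd (e.injective (Subsingleton.elim (e 1) (e 0))) one_ne_zero
    · exact h
    · exfalso
      haveI := hd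
      let i0 : Fin n := ⟨0, by omega⟩
      let i1 : Fin n := ⟨1, h⟩
      have hne : i1 ≠ i0 := by simp [i0, i1, Fin.ext_iff]
      obtain ⟨c, hc⟩ := hcentral (Pi.single i0 1) fun y => by
        funext i
        by_cases hi : i = i0
        · subst hi; simp
        · simp [Pi.single_eq_of_ne hi]
      have h1 := congrFun hc i1
      rw [Pi.single_eq_of_ne hne, Pi.algebraMap_apply] at h1
      have hc0 : c = 0 := (map_eq_zero _).1 h1.symm
      rw [hc0, map_zero] at hc
      exact one_ne_zero (Pi.single_eq_zero_iff.1 hc)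
  subst hn
  haveI := hd 0
  haveI : Finite (D 0) := Module.finite_of_finite F
  have hcomm : ∀ x y : D 0, x * y = y * x := (Finite.isDomain_to_isField (D 0)).mul_comm
  have hbij : Function.Bijective (Algebra.ofId F (D 0)) := by
    refine ⟨RingHom.injective _, fun x => ?_⟩
    obtain ⟨c, hc⟩ := hcentral (fun i => Fin.cases (Matrix.scalar (Fin (d 0)) x) (fun j => j.elim0) i) fun y => by
      funext i
      fin_cases i
      exact ((Matrix.scalar_commute x (fun r => hcomm x r) (y 0)).eq).symm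
    refine ⟨c, ?_⟩
    have h1 := congrFun (congrFun (congrFun hc 0) 0) 0
    simpa [Matrix.algebraMap_matrix_apply, Pi.algebraMap_apply] using h1.symm
  refine ⟨d 0, Nat.pos_of_ne_zero (NeZero.ne _), ⟨(AlgEquiv.trans ?_ e.symm)⟩⟩
  exact ((AlgEquiv.ofBijective _ hbij).mapMatrix).trans
    (AlgEquiv.ofRingEquiv (f := RingEquiv.piUnique (fun i : Fin 1 => Matrix (Fin (d i)) (Fin (d i)) (D i)))
      fun _ => rfl).symm

end

/-! ### Tensor decompositions -/

variable {κ : Type} [Fintype κ] [DecidableEq κ]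

/-- Every automorphism of a matrix algebra is inner. -/
theorem algEquiv_inner (α : Matrix κ κ F ≃ₐ[F] Matrix κ κ F) : ∃ g : GL κ F, ∀ X, α X = cj g X := by
  obtain ⟨T, hT⟩ := ((Matrix.toLinAlgEquiv'.symm.trans α).trans Matrix.toLinAlgEquiv').eq_linearEquivConjAlgEquiv
  refine ⟨⟨LinearMap.toMatrix' T, LinearMap.toMatrix' T.symm, ?_, ?_⟩, fun X => ?_⟩
  · rw [← LinearMap.toMatrix'_comp, LinearEquiv.comp_symm, LinearMap.toMatrix'_id]
  · rw [← LinearMap.toMatrix'_comp, LinearEquiv.symm_comp, LinearMap.toMatrix'_id]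
  · have h := AlgEquiv.congr_fun hT (Matrix.toLinAlgEquiv' X)
    simp only [AlgEquiv.trans_apply, AlgEquiv.symm_apply_apply, LinearEquiv.conjAlgEquiv_apply] at h
    have h2 := congrArg LinearMap.toMatrix' h
    rw [LinearMap.toMatrix'_comp, LinearMap.toMatrix'_comp] at h2
    exact (LinearMap.toMatrix'_toLin' (α X)).symm.trans
      (h2.trans (by rw [cj_apply, ← mul_assoc]; exact congrArg (fun Y => _ * Y * _) (LinearMap.toMatrix'_toLin' X)))

/-- The operator `X ⊗ 1`, read on `ι` through `e`. -/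
def kl {a b : ℕ} (e : ι ≃ Fin a × Fin b) (X : Matrix (Fin a) (Fin a) F) : Matrix ι ι F :=
  Matrix.reindexAlgEquiv F F e.symm (X ⊗ₖ (1 : Matrix (Fin b) (Fin b) F))

/-- A matrix algebra inside the matrix algebra is `M_a ⊗ 1` in suitable coordinates. -/
theorem exists_split [Nonempty ι] {a : ℕ} (ha : 0 < a) (φ : Matrix (Fin a) (Fin a) F →ₐ[F] Matrix ι ι F) :
    ∃ (b : ℕ) (e : ι ≃ Fin a × Fin b) (P : GL ι F), 0 < b ∧ ∀ X, φ X = cj P (kl e X) := by
  classical
  let z : Fin a := ⟨0, ha⟩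
  let E : Fin a → Fin a → Matrix ι ι F := fun i j => φ (Matrix.single i j 1)
  have hE : ∀ i j k l, E i j * E k l = if j = k then E i l else 0 := by
    intro i j k l
    simp only [E, ← map_mul]
    split
    · next h => subst h; rw [Matrix.single_mul_single_same, mul_one]
    · next h => rw [Matrix.single_mul_single_of_ne _ _ _ _ h, map_zero]
  let W0 : Submodule F (ι → F) := LinearMap.range (Matrix.toLin' (E z z))
  let bu := Module.finBasis F W0
  set b := finrank F W0
  let v : Fin a × Fin b → ι → F := fun p => E p.1 z *ᵥ (bu p.2 : ι → F)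
  have hfix : ∀ u ∈ W0, E z z *ᵥ u = u := by
    rintro _ ⟨w, rfl⟩
    rw [Matrix.toLin'_apply, mulVec_mulVec, hE, if_pos rfl]
  have hli : LinearIndependent F v := by
    rw [Fintype.linearIndependent_iff]
    intro c hc p
    have h1 := congrArg (E z p.1 *ᵥ ·) hc
    simp only [v, mulVec_sum, mulVec_smul, mulVec_mulVec, hE, mulVec_zero, ite_smul, Fintype.sum_prod_type] at h1
    rw [Finset.sum_eq_single p.1 (fun i _ hi => by simp [Ne.symm hi]) (by simp)] at h1
    simp only [if_true] at h1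
    have h2 : ∑ k, c (p.1, k) • bu k = 0 := by
      apply Subtype.ext
      rw [Submodule.coe_sum, Submodule.coe_zero, ← h1]
      exact Finset.sum_congr rfl fun k _ => by rw [Submodule.coe_smul, hfix _ (bu k).2]
    exact Fintype.linearIndependent_iff.1 bu.linearIndependent _ h2 p.2
  have hsp : ⊤ ≤ Submodule.span F (Set.range v) := by
    intro w _
    have hw : w = ∑ i, E i z *ᵥ (E z i *ᵥ w) := by
      simp only [mulVec_mulVec, hE, if_true, ← Matrix.sum_mulVec, E, ← map_sum, Matrix.sum_single_eq_diagonal,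
        Matrix.diagonal_one, map_one, one_mulVec]
    rw [hw]
    refine Submodule.sum_mem _ fun i _ => ?_
    have hmem : E z i *ᵥ w ∈ W0 := ⟨E z i *ᵥ w, by rw [Matrix.toLin'_apply, mulVec_mulVec, hE, if_pos rfl]⟩
    have h2 : E z i *ᵥ w = ∑ k, bu.repr ⟨_, hmem⟩ k • (bu k : ι → F) := by
      refine (congrArg Subtype.val (bu.sum_repr ⟨_, hmem⟩).symm).trans ?_
      rw [Submodule.coe_sum]
      rfl
    rw [h2, mulVec_sum]
    exact Submodule.sum_mem _ fun k _ => by
      rw [mulVec_smul]; exact Submodule.smul_mem _ _ (Submodule.subset_span ⟨(i, k), rfl⟩)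
  let B := Basis.mk hli hsp
  let e : ι ≃ Fin a × Fin b := (Pi.basisFun F ι).indexEquiv B
  have hb : 0 < b := (e (Classical.arbitrary ι)).2.pos
  let T : Matrix ι ι F := Matrix.of fun i j => v (e j) i
  have hT : IsUnit T := by
    rw [← Matrix.linearIndependent_cols_iff_isUnit]
    exact hli.comp e e.injective
  refine ⟨b, e, hT.unit, hb, fun X => ?_⟩
  have key : φ X * T = T * kl e X := by
    ext i j
    obtain ⟨⟨j1, j2⟩, rfl⟩ := e.symm.surjective j
    have hcol : φ X *ᵥ v (j1, j2) = ∑ k, X k j1 • v (k, j2) := by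
      simp only [v, mulVec_mulVec, ← Matrix.smul_mulVec, ← Matrix.sum_mulVec, E, ← map_mul, ← map_smul, ← map_sum]
      refine congrArg (φ · *ᵥ _) ?_
      ext p r
      by_cases hr : r = z
      · subst hr
        simp [Matrix.sum_apply, Matrix.single_apply, ite_and]
      · simp [Matrix.sum_apply, Matrix.single_apply, Ne.symm hr, Matrix.mul_single_apply_of_ne _ _ _ _ _ hr]
    have h1 : (φ X * T) i (e.symm (j1, j2)) = (φ X *ᵥ v (j1, j2)) i := by
      simp [T, Matrix.mul_apply, Matrix.mulVec, dotProduct]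
    rw [h1, hcol, Matrix.mul_apply, ← e.symm.sum_comp, Fintype.sum_prod_type]
    simp only [T, kl, Matrix.of_apply, Equiv.apply_symm_apply, Matrix.reindexAlgEquiv_apply, Matrix.reindex_apply,
      Equiv.symm_symm, Matrix.submatrix_apply, Matrix.kroneckerMap_apply, Matrix.one_apply, Finset.sum_apply,
      Pi.smul_apply, smul_eq_mul, mul_ite, mul_one, mul_zero]
    exact Finset.sum_congr rfl fun k _ => by rw [Finset.sum_ite_eq' Finset.univ j2, if_pos (Finset.mem_univ _), mul_comm]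
  rw [cj_apply, IsUnit.unit_spec, ← key, mul_assoc]
  exact ((congrArg (φ X * ·) hT.mul_val_inv).trans (mul_one _)).symm

/-- A matrix commuting with `M_a ⊗ 1` lies in `1 ⊗ M_b`. -/
theorem eq_one_kronecker {a b : ℕ} (ha : 0 < a) {Z : Matrix (Fin a × Fin b) (Fin a × Fin b) F}
    (h : ∀ X : Matrix (Fin a) (Fin a) F, Z * (X ⊗ₖ (1 : Matrix (Fin b) (Fin b) F)) = (X ⊗ₖ (1 : Matrix (Fin b) (Fin b) F)) * Z) :
    ∃ B : Matrix (Fin b) (Fin b) F, Z = (1 : Matrix (Fin a) (Fin a) F) ⊗ₖ B := by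
  refine ⟨Matrix.of fun k l => Z (⟨0, ha⟩, k) (⟨0, ha⟩, l), ?_⟩
  ext ⟨i, k⟩ ⟨m, l⟩
  have := congrFun (congrFun (h (Matrix.single ⟨0, ha⟩ i 1)) (⟨0, ha⟩, k)) (m, l)
  simp only [Matrix.mul_apply, Fintype.sum_prod_type, Matrix.kroneckerMap_apply, Matrix.single_apply,
    Matrix.one_apply, mul_ite, mul_one, mul_zero, ite_mul, one_mul, zero_mul] at this ⊢
  simp only [ite_and, Finset.sum_ite_irrel, Finset.sum_const_zero, Finset.sum_ite_eq, Finset.sum_ite_eq',
    Finset.mem_univ, if_true] at this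
  rw [← this]
  simp [Matrix.one_apply, eq_comm]

theorem kronecker_one_injective {a b : ℕ} (hb : 0 < b) {X Y : Matrix (Fin a) (Fin a) F}
    (h : X ⊗ₖ (1 : Matrix (Fin b) (Fin b) F) = Y ⊗ₖ (1 : Matrix (Fin b) (Fin b) F)) : X = Y := by
  ext i j
  simpa using congrFun (congrFun h (i, ⟨0, hb⟩)) (j, ⟨0, hb⟩)

theorem one_kronecker_injective {a b : ℕ} (ha : 0 < a) {X Y : Matrix (Fin b) (Fin b) F}
    (h : (1 : Matrix (Fin a) (Fin a) F) ⊗ₖ X = (1 : Matrix (Fin a) (Fin a) F) ⊗ₖ Y) : X = Y := by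
  ext i j
  simpa using congrFun (congrFun h (⟨0, ha⟩, i)) (⟨0, ha⟩, j)

theorem mem_tensorProductSubgroup {a b : ℕ} {e : ι ≃ Fin a × Fin b} {P g : GL ι F}
    {A : GL (Fin a) F} {B : GL (Fin b) F}
    (h : ((P⁻¹ * g * P : GL ι F) : Matrix ι ι F) =
      Matrix.reindexAlgEquiv F F e.symm ((A : Matrix (Fin a) (Fin a) F) ⊗ₖ (B : Matrix (Fin b) (Fin b) F))) :
    g ∈ Geo.tensorProductSubgroup a b e P := by
  refine ⟨P⁻¹ * g * P, ⟨(Geo.glReindex (F := F) e.symm).symm (P⁻¹ * g * P), ⟨A, B, ?_⟩, MulEquiv.apply_symm_apply _ _⟩,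
    by simp [mul_assoc]⟩
  refine (Matrix.reindexAlgEquiv F F e.symm).injective ?_
  rw [← h]
  exact congrArg Units.val (MulEquiv.apply_symm_apply (Geo.glReindex (F := F) e.symm) (P⁻¹ * g * P))

/-- The normaliser of `P (M_a ⊗ 1) P⁻¹` stabilises the tensor decomposition. -/
theorem mem_tensor_of_normalizes [Finite F] {a b : ℕ} (ha : 0 < a) (hb : 0 < b) {e : ι ≃ Fin a × Fin b} {P g : GL ι F}
    (hg : ∀ X, ∃ Y, cj g (cj P (kl e X)) = cj P (kl e Y)) : g ∈ Geo.tensorProductSubgroup a b e P := by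
  classical
  let g1 : GL (Fin a × Fin b) F := (Geo.glReindex (F := F) e.symm).symm (P⁻¹ * g * P)
  choose β hβ using hg
  have hβ' : ∀ X, cj g1 (X ⊗ₖ (1 : Matrix (Fin b) (Fin b) F)) = β X ⊗ₖ (1 : Matrix (Fin b) (Fin b) F) := by
    intro X
    have h1 : cj (P⁻¹ * g * P) (kl e X) = kl e (β X) := by rw [cj_mul, cj_mul, hβ, cj_inv_self]
    refine (Matrix.reindexAlgEquiv F F e.symm).injective ?_
    rw [cj_apply, map_mul, map_mul]
    have h2 := MulEquiv.apply_symm_apply (Geo.glReindex (F := F) e.symm) (P⁻¹ * g * P)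
    have h3 : Matrix.reindexAlgEquiv F F e.symm (g1 : Matrix _ _ F) = ((P⁻¹ * g * P : GL ι F) : Matrix ι ι F) :=
      congrArg Units.val h2
    have h4 : Matrix.reindexAlgEquiv F F e.symm ((g1⁻¹ : GL _ F) : Matrix _ _ F) =
        (((P⁻¹ * g * P)⁻¹ : GL ι F) : Matrix ι ι F) :=
      congrArg (fun u : GL ι F => ((u⁻¹ : GL ι F) : Matrix ι ι F)) h2
    rw [h3, h4]
    exact h1
  let α : Matrix (Fin a) (Fin a) F →ₐ[F] Matrix (Fin a) (Fin a) F :=
    AlgHom.ofLinearMap
      { toFun := β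
        map_add' := fun X Y => kronecker_one_injective hb (by
          rw [← hβ', Matrix.add_kronecker, Matrix.add_kronecker, map_add, hβ', hβ'])
        map_smul' := fun c X => kronecker_one_injective hb (by
          rw [← hβ', Matrix.smul_kronecker, RingHom.id_apply, Matrix.smul_kronecker, map_smul, hβ']) }
      (kronecker_one_injective hb (show β 1 ⊗ₖ (1 : Matrix (Fin b) (Fin b) F) = 1 ⊗ₖ 1 by
        rw [← hβ', Matrix.one_kronecker_one, map_one]))
      (fun X Y => kronecker_one_injective hb (show β (X * Y) ⊗ₖ (1 : Matrix (Fin b) (Fin b) F) = (β X * β Y) ⊗ₖ 1 by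
        rw [← hβ', ← one_mul (1 : Matrix (Fin b) (Fin b) F), Matrix.mul_kronecker_mul, map_mul, hβ', hβ',
          ← Matrix.mul_kronecker_mul, one_mul]))
  have hinj : Function.Injective α := fun X Y h => kronecker_one_injective hb ((cj g1).injective (by
    rw [hβ', hβ']; exact congrArg (fun Z : Matrix (Fin a) (Fin a) F => Z ⊗ₖ (1 : Matrix (Fin b) (Fin b) F)) h))
  obtain ⟨A, hA⟩ := algEquiv_inner (AlgEquiv.ofBijective α (Finite.injective_iff_bijective.1 hinj))
  have hker : ∀ X, ((A⁻¹ : GL (Fin a) F) : Matrix (Fin a) (Fin a) F) * β X =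
      X * ((A⁻¹ : GL (Fin a) F) : Matrix (Fin a) (Fin a) F) := by
    intro X
    rw [show β X = cj A X from hA X, cj_apply, ← mul_assoc, ← mul_assoc, Units.inv_mul, one_mul]
  set Z : Matrix (Fin a × Fin b) (Fin a × Fin b) F :=
    (((A⁻¹ : GL (Fin a) F) : Matrix (Fin a) (Fin a) F) ⊗ₖ (1 : Matrix (Fin b) (Fin b) F)) * (g1 : Matrix _ _ F) with hZdef
  set Z' : Matrix (Fin a × Fin b) (Fin a × Fin b) F :=
    ((g1⁻¹ : GL _ F) : Matrix _ _ F) * ((A : Matrix (Fin a) (Fin a) F) ⊗ₖ (1 : Matrix (Fin b) (Fin b) F)) with hZ'def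
  have hZcomm : ∀ X : Matrix (Fin a) (Fin a) F,
      Z * (X ⊗ₖ (1 : Matrix (Fin b) (Fin b) F)) = (X ⊗ₖ (1 : Matrix (Fin b) (Fin b) F)) * Z := by
    intro X
    rw [hZdef, mul_assoc, ← cj_mul_self, hβ', ← mul_assoc, ← Matrix.mul_kronecker_mul, hker, one_mul, ← mul_assoc,
      ← Matrix.mul_kronecker_mul, one_mul]
  have hZZ' : Z * Z' = 1 := by
    rw [hZdef, hZ'def, mul_assoc, Units.mul_inv_cancel_left, ← Matrix.mul_kronecker_mul,
      Units.inv_mul, one_mul, Matrix.one_kronecker_one]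
  have hZ'Z : Z' * Z = 1 := mul_eq_one_comm.1 hZZ'
  obtain ⟨B, hB⟩ := eq_one_kronecker ha hZcomm
  obtain ⟨B', hB'⟩ := eq_one_kronecker ha (Z := Z') fun X => by
    calc Z' * (X ⊗ₖ (1 : Matrix (Fin b) (Fin b) F)) = Z' * ((X ⊗ₖ (1 : Matrix (Fin b) (Fin b) F)) * (Z * Z')) := by
          rw [hZZ', mul_one]
      _ = Z' * (Z * (X ⊗ₖ (1 : Matrix (Fin b) (Fin b) F))) * Z' := by rw [hZcomm]; simp only [mul_assoc]
      _ = _ := by rw [← mul_assoc Z', hZ'Z, one_mul]
  have hBB' : B * B' = 1 := one_kronecker_injective ha (by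
    rw [Matrix.one_kronecker_one, ← hZZ', hB, hB', ← Matrix.mul_kronecker_mul, one_mul])
  refine mem_tensorProductSubgroup (A := A) (B := ⟨B, B', hBB', mul_eq_one_comm.1 hBB'⟩) ?_
  have h2 : ((P⁻¹ * g * P : GL ι F) : Matrix ι ι F) = Matrix.reindexAlgEquiv F F e.symm (g1 : Matrix _ _ F) :=
    (congrArg Units.val (MulEquiv.apply_symm_apply (Geo.glReindex (F := F) e.symm) (P⁻¹ * g * P))).symm
  rw [h2]
  refine congrArg _ ?_
  show (g1 : Matrix _ _ F) = (A : Matrix (Fin a) (Fin a) F) ⊗ₖ B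
  calc (g1 : Matrix _ _ F) = ((A : Matrix (Fin a) (Fin a) F) ⊗ₖ (1 : Matrix (Fin b) (Fin b) F)) * Z := by
        rw [hZdef, ← mul_assoc, ← Matrix.mul_kronecker_mul, Units.mul_inv, one_mul, Matrix.one_kronecker_one, one_mul]
    _ = _ := by rw [hB, ← Matrix.mul_kronecker_mul, mul_one, one_mul]

/-- The outcomes for an invariant algebra of an irreducible group. -/
theorem alg_cases [Fintype F] [Nonempty ι] (hH : Irr H) (hA : InvBy H A) :
    (∃ (t : ℕ) (e : Fin t → Matrix ι ι F), IdemSystem H (centre A) t e) ∨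
    (∃ c : ℕ, 1 < c ∧ Geo.IsFieldSubalgebra c (centre A)) ∨
    A = ⊥ ∨ A = ⊤ ∨
    (∃ (a b : ℕ) (e : ι ≃ Fin a × Fin b) (P : GL ι F), 2 ≤ a ∧ 2 ≤ b ∧ H ≤ Geo.tensorProductSubgroup a b e P ∧
      ∀ Y, Y ∈ A ↔ ∃ X, Y = cj P (kl e X)) := by
  classical
  rcases idemSystem_or_field hH (invBy_centre hA) centre_comm with h | hinv
  · exact Or.inl h
  by_cases hc : 1 < finrank F (centre A)
  · exact Or.inr (Or.inl ⟨_, hc, centre_comm, hinv, rfl⟩)
  refine Or.inr (Or.inr ?_)
  have hC : centre A = ⊥ :=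
    Subalgebra.eq_bot_of_finrank_one (le_antisymm (by omega) Module.finrank_pos)
  obtain ⟨a, ha, ⟨φ⟩⟩ := exists_matrixEquiv hH hA (fun X hX => eq_smul_one_of_mem_bot (hC ▸ hX))
  obtain ⟨b, e, P, hb, hφ⟩ := exists_split ha (A.val.comp φ.toAlgHom)
  have hmem : ∀ Y, Y ∈ A ↔ ∃ X, Y = cj P (kl e X) := by
    intro Y
    refine ⟨fun hY => ⟨φ.symm ⟨Y, hY⟩, ?_⟩, ?_⟩
    · rw [← hφ]; simp
    · rintro ⟨X, rfl⟩
      rw [← hφ]
      exact (φ X).2
  by_cases hb1 : b = 1
  · refine Or.inr (Or.inl ?_)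
    subst hb1
    refine top_le_iff.1 fun Y _ => (hmem Y).2
      ⟨Matrix.of fun i j => (cj P⁻¹ Y) (e.symm (i, 0)) (e.symm (j, 0)), ?_⟩
    have h : kl e (Matrix.of fun i j => (cj P⁻¹ Y) (e.symm (i, 0)) (e.symm (j, 0))) = cj P⁻¹ Y := by
      ext i j
      have h0 : ∀ x : ι, ((e x).1, (0 : Fin 1)) = e x := fun x => Prod.ext rfl (Fin.eq_zero _).symm
      simp only [kl, Matrix.reindexAlgEquiv_apply, Matrix.reindex_apply, Equiv.symm_symm, Matrix.submatrix_apply,
        Matrix.kroneckerMap_apply, Matrix.of_apply, h0, Equiv.symm_apply_apply]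
      rw [Subsingleton.elim (e i).2 (e j).2, Matrix.one_apply_eq, mul_one]
    rw [h, cj_self_inv]
  by_cases ha1 : a = 1
  · refine Or.inl ?_
    subst ha1
    refine le_bot_iff.1 fun Y hY => ?_
    obtain ⟨X, rfl⟩ := (hmem Y).1 hY
    have hX : X = X 0 0 • (1 : Matrix (Fin 1) (Fin 1) F) := by
      ext i j
      obtain rfl := Fin.eq_zero i
      obtain rfl := Fin.eq_zero j
      simp
    rw [hX, kl, Matrix.smul_kronecker, Matrix.one_kronecker_one, map_smul, map_one, map_smul, map_one]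
    exact Subalgebra.smul_mem _ (one_mem _) _
  refine Or.inr (Or.inr ⟨a, b, e, P, by omega, by omega, fun h hh => ?_, hmem⟩)
  exact mem_tensor_of_normalizes ha hb fun X => (hmem _).1 (hA h hh _ ((hmem _).2 ⟨X, rfl⟩))

end CfsgLib.Aschbacher
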