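import Cfsg.Agent.Lib.Aschbacher.TensorPower
import Cfsg.Agent.Lib.Aschbacher.Simple

/-!
# Commuting matrix algebras: tensor power coordinates
-/

set_option autoImplicit false

namespace CfsgLib.Aschbacher

open Matrix Module Cfsg
open scoped MatrixGroups

/-- The ordered product of a finite family. -/
def prodF {R : Type*} [Monoid R] {t : ℕ} (f : Fin t → R) : R := (List.ofFn f).prod

theorem prodF_succ {R : Type*} [Monoid R] {t : ℕ} (f : Fin (t + 1) → R) :
    prodF f = f 0 * prodF (fun i => f i.succ) := by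
  rw [prodF, List.ofFn_succ, List.prod_cons]; rfl

theorem prodF_one {R : Type*} [Monoid R] {t : ℕ} : prodF (fun _ : Fin t => (1 : R)) = 1 := by
  induction t with
  | zero => simp [prodF]
  | succ t ih => rw [prodF_succ, ih, one_mul]

theorem prodF_eq_single {R : Type*} [Monoid R] {t : ℕ} :
    ∀ (i : Fin t) (a : R), prodF (Function.update (fun _ => 1) i a) = a := by
  induction t with
  | zero => exact fun i => i.elim0
  | succ t ih =>
    intro i a
    rw [prodF_succ]
    refine Fin.cases ?_ (fun j => ?_) i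
    · rw [Function.update_self, show (fun j : Fin t => Function.update (fun _ => (1 : R)) 0 a j.succ) = fun _ => 1 from
        funext fun j => Function.update_of_ne (Fin.succ_ne_zero j) _ _, prodF_one, mul_one]
    · rw [Function.update_of_ne (Fin.succ_ne_zero j).symm,
        show (fun k : Fin t => Function.update (fun _ => (1 : R)) j.succ a k.succ) = Function.update (fun _ => 1) j a from
          funext fun k => by
            by_cases h : k = j
            · subst h; simp
            · rw [Function.update_of_ne (fun h' => h (Fin.succ_injective _ h')), Function.update_of_ne h],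
        ih, one_mul]

theorem prodF_mul {R : Type*} [Monoid R] {t : ℕ} :
    ∀ (f g : Fin t → R), (∀ i j, i ≠ j → Commute (f i) (g j)) → prodF f * prodF g = prodF fun i => f i * g i := by
  induction t with
  | zero => simp [prodF]
  | succ t ih =>
    intro f g h
    have hc : Commute (g 0) (prodF fun i => f i.succ) := Commute.list_prod_right _ _ fun x hx => by
      obtain ⟨i, rfl⟩ := List.mem_ofFn.1 hx
      exact (h i.succ 0 (Fin.succ_ne_zero i)).symm
    rw [prodF_succ f, prodF_succ g, prodF_succ (fun i => f i * g i),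
      ← ih _ _ fun i j hij => h i.succ j.succ fun h' => hij (Fin.succ_injective _ h'), mul_assoc,
      ← mul_assoc _ (g 0), ← hc.eq]
    simp only [mul_assoc]

theorem prodF_sum {R : Type*} [Semiring R] {κ : Type*} [Fintype κ] {t : ℕ} :
    ∀ f : Fin t → κ → R, prodF (fun i => ∑ a, f i a) = ∑ x : Fin t → κ, prodF (fun i => f i (x i)) := by
  classical
  induction t with
  | zero => intro f; simp [prodF]
  | succ t ih =>
    intro f
    rw [prodF_succ, ih, ← (Fin.consEquiv fun _ : Fin (t + 1) => κ).sum_comp, Fintype.sum_prod_type, Finset.sum_mul_sum]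
    refine Finset.sum_congr rfl fun a _ => Finset.sum_congr rfl fun x _ => ?_
    rw [prodF_succ]
    simp [Fin.consEquiv]

theorem prodF_smul {R K : Type*} [CommSemiring K] [Semiring R] [Algebra K R] {t : ℕ} :
    ∀ (c : Fin t → K) (f : Fin t → R), prodF (fun i => c i • f i) = (∏ i, c i) • prodF f := by
  induction t with
  | zero => simp [prodF]
  | succ t ih => intro c f; rw [prodF_succ, prodF_succ f, ih, Fin.prod_univ_succ, smul_mul_smul_comm]

variable {ι : Type} [Fintype ι] [DecidableEq ι] {F : Type*} [Field F] {m t : ℕ}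

/-- The matrix `X` in the `i`-th tensor slot. -/
def slot (i : Fin t) (X : Matrix (Fin m) (Fin m) F) : Matrix (Fin t → Fin m) (Fin t → Fin m) F :=
  pw (Function.update (fun _ => 1) i X)

theorem pw_single (x y : Fin t → Fin m) :
    pw (fun i => Matrix.single (x i) (y i) (1 : F)) = Matrix.single x y 1 := by
  classical
  ext a b
  rw [pw_apply]
  by_cases h : x = a ∧ y = b
  · obtain ⟨rfl, rfl⟩ := h; simp
  · rw [Matrix.single_apply, if_neg h]
    obtain ⟨i, hi⟩ : ∃ i, ¬ (x i = a i ∧ y i = b i) := by
      by_contra! hcon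
      exact h ⟨funext fun i => (hcon i).1, funext fun i => (hcon i).2⟩
    exact Finset.prod_eq_zero (Finset.mem_univ i) (by rw [Matrix.single_apply, if_neg hi])

theorem prodF_pw {κ : ℕ} : ∀ (u : Fin κ → Fin t → Matrix (Fin m) (Fin m) F),
    prodF (fun j => pw (u j)) = pw fun i => prodF fun j => u j i := by
  induction κ with
  | zero => intro u; simp [prodF, pw_one]
  | succ k ih =>
    intro u
    rw [prodF_succ, ih, pw_mul]
    exact congrArg pw (funext fun i => (prodF_succ fun j => u j i).symm)

theorem pw_eq_prodF_slot (As : Fin t → Matrix (Fin m) (Fin m) F) : pw As = prodF fun j => slot j (As j) := by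
  simp only [slot, prodF_pw]
  refine congrArg pw (funext fun i => ?_)
  have h : (fun j => Function.update (fun _ => (1 : Matrix (Fin m) (Fin m) F)) j (As j) i) =
      Function.update (fun _ => 1) i (As i) := by
    funext j
    by_cases hj : j = i
    · subst hj; simp
    · rw [Function.update_of_ne hj, Function.update_of_ne (Ne.symm hj)]
  rw [h, prodF_eq_single]

/-- Only scalars commute with every slot. -/
theorem exists_smul_of_commute_slot {D : Matrix (Fin t → Fin m) (Fin t → Fin m) F}
    (h : ∀ i X, D * slot i X = slot i X * D) : ∃ c : F, D = c • (1 : Matrix _ _ F) := by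
  classical
  rcases isEmpty_or_nonempty (Fin t → Fin m) with h0 | h0
  · exact ⟨0, Subsingleton.elim _ _⟩
  obtain ⟨c, hc⟩ := Matrix.mem_range_scalar_of_commute_single (M := D) fun x y _ => by
    show Commute (Matrix.single x y (1 : F)) D
    rw [← pw_single, pw_eq_prodF_slot]
    refine (Commute.list_prod_right _ _ fun z hz => ?_).symm
    obtain ⟨i, rfl⟩ := List.mem_ofFn.1 hz
    exact h i _
  exact ⟨c, by rw [← hc, Matrix.scalar_apply, Matrix.smul_one_eq_diagonal]⟩

/-- The permutation of tensor factors. -/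
def pm (σ : Equiv.Perm (Fin t)) : Matrix (Fin t → Fin m) (Fin t → Fin m) F :=
  Matrix.of fun x y => if y = x ∘ σ then 1 else 0

theorem pm_mul (σ τ : Equiv.Perm (Fin t)) :
    (pm σ : Matrix (Fin t → Fin m) _ F) * pm τ = pm (σ * τ) := by
  ext x y
  simp only [pm, Matrix.mul_apply, Matrix.of_apply, ite_mul, one_mul, zero_mul, Finset.sum_ite_eq',
    Finset.mem_univ, if_true, Function.comp_assoc, Equiv.Perm.coe_mul]
  congr 1

theorem pm_one : (pm 1 : Matrix (Fin t → Fin m) _ F) = 1 := by
  ext x y
  simp [pm, Matrix.one_apply, eq_comm]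

/-- The permutation of tensor factors as an invertible matrix. -/
def pmGL (σ : Equiv.Perm (Fin t)) : GL (Fin t → Fin m) F :=
  ⟨pm σ, pm σ⁻¹, by rw [pm_mul, mul_inv_cancel, pm_one], by rw [pm_mul, inv_mul_cancel, pm_one]⟩

theorem pm_mul_pw (σ : Equiv.Perm (Fin t)) (As : Fin t → Matrix (Fin m) (Fin m) F) :
    pm σ * pw As = pw (As ∘ σ.symm) * pm σ := by
  ext x y
  simp only [Matrix.mul_apply, pm, Matrix.of_apply, ite_mul, one_mul, zero_mul, Finset.sum_ite_eq',
    Finset.mem_univ, if_true]
  rw [Finset.sum_eq_single (y ∘ ⇑σ.symm) (fun z _ hz => ?_) (by simp)]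
  · rw [if_pos (by rw [Function.comp_assoc, Equiv.symm_comp_self, Function.comp_id]), mul_one, pw_apply, pw_apply,
      ← Equiv.prod_comp σ fun i => (As ∘ ⇑σ.symm) i (x i) ((y ∘ ⇑σ.symm) i)]
    simp
  · rw [if_neg, mul_zero]
    intro h
    exact hz (by rw [h, Function.comp_assoc, Equiv.self_comp_symm, Function.comp_id])

theorem pmGL_slot (σ : Equiv.Perm (Fin t)) (i : Fin t) (X : Matrix (Fin m) (Fin m) F) :
    cj (pmGL σ) (slot i X) = slot (σ i) X := by
  have h : Function.update (fun _ => (1 : Matrix (Fin m) (Fin m) F)) i X ∘ σ.symm =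
      Function.update (fun _ => 1) (σ i) X := by
    funext j
    by_cases hj : j = σ i
    · subst hj; simp
    · rw [Function.comp_apply, Function.update_of_ne hj,
        Function.update_of_ne (fun h' => hj (by rw [← h', Equiv.apply_symm_apply]))]
  show pm σ * slot i X * pm σ⁻¹ = _
  rw [slot, pm_mul_pw, h, mul_assoc, pm_mul, mul_inv_cancel, pm_one, mul_one]
  rfl

/-- The pure tensor of invertible matrices. -/
def pwGL (gs : Fin t → GL (Fin m) F) : GL (Fin t → Fin m) F :=
  ⟨pw fun i => (gs i : Matrix (Fin m) (Fin m) F), pw fun i => ((gs i)⁻¹ : GL (Fin m) F).val,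
    by rw [pw_mul]; simp [pw_one], by rw [pw_mul]; simp [pw_one]⟩

theorem pwGL_slot (gs : Fin t → GL (Fin m) F) (i : Fin t) (X : Matrix (Fin m) (Fin m) F) :
    cj (pwGL gs) (slot i X) = slot i (cj (gs i) X) := by
  rw [cj_apply, slot, slot]
  show pw (fun j => (gs j : Matrix (Fin m) (Fin m) F)) * pw _ * pw (fun j => ((gs j)⁻¹ : GL (Fin m) F).val) = _
  rw [pw_mul, pw_mul]
  refine congrArg pw (funext fun j => ?_)
  by_cases hj : j = i
  · subst hj; simp [cj_apply]
  · simp [Function.update_of_ne hj]

/-- An element acting on the slots as a permutation and inner automorphisms is in the standard wreath group. -/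
theorem mem_tensorWreathStandard (ht : 0 < t) (hm : 0 < m) {g : GL (Fin t → Fin m) F} (σ : Equiv.Perm (Fin t))
    (gs : Fin t → GL (Fin m) F) (h : ∀ i X, cj g (slot i X) = slot (σ i) (cj (gs i) X)) :
    g ∈ Geo.tensorWreathStandard m t F := by
  set w : GL (Fin t → Fin m) F := pmGL σ * pwGL gs with hw
  have hwg : ∀ i X, cj (w⁻¹ * g) (slot i X) = slot i X := by
    intro i X
    rw [cj_mul, h]
    have : slot (σ i) (cj (gs i) X) = cj w (slot i X) := by rw [hw, cj_mul, pwGL_slot, pmGL_slot]
    rw [this, cj_inv_self]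
  obtain ⟨c, hc⟩ := exists_smul_of_commute_slot (D := ((w⁻¹ * g : GL _ F) : Matrix _ _ F)) fun i X =>
    ((cj_mul_self (w⁻¹ * g) (slot i X)).symm.trans (by rw [hwg]))
  haveI : Nonempty (Fin t → Fin m) := ⟨fun _ => ⟨0, hm⟩⟩
  have hc0 : c ≠ 0 := fun h0 => (w⁻¹ * g).ne_zero (by rw [hc, h0, zero_smul])
  obtain ⟨cs, hcs⟩ : ∃ cs : Fin t → GL (Fin m) F, ((w⁻¹ * g : GL _ F) : Matrix _ _ F) = pw fun i => (cs i : Matrix (Fin m) (Fin m) F) := by
    let C : GL (Fin m) F := Units.map (Matrix.scalar (Fin m) : F →+* Matrix (Fin m) (Fin m) F).toMonoidHom (Units.mk0 c hc0)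
    refine ⟨fun i => if i = ⟨0, ht⟩ then C else 1, ?_⟩
    have h1 : (fun i => (((if i = (⟨0, ht⟩ : Fin t) then C else 1 : GL (Fin m) F)) : Matrix (Fin m) (Fin m) F)) =
        fun i => (if i = (⟨0, ht⟩ : Fin t) then c else 1) • (1 : Matrix (Fin m) (Fin m) F) := by
      funext i
      split
      · simp [C, Matrix.smul_one_eq_diagonal]
      · simp
    rw [h1, pw_smul, pw_one, Finset.prod_ite_eq' Finset.univ, if_pos (Finset.mem_univ _), hc]
  have hg : g = pmGL σ * pwGL gs * (w⁻¹ * g) := by rw [← hw, mul_inv_cancel_left]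
  rw [hg]
  refine mul_mem (mul_mem ?_ ?_) ?_
  · exact Subgroup.subset_closure (Or.inr ⟨σ, fun x y => rfl⟩)
  · exact Subgroup.subset_closure (Or.inl (isPureTensor_iff.2 ⟨gs, rfl⟩))
  · exact Subgroup.subset_closure (Or.inl (isPureTensor_iff.2 ⟨cs, hcs⟩))

/-- Commuting copies of a matrix algebra generating the whole algebra give tensor-power coordinates. -/
theorem exists_tensorCoords [Finite F] [Nonempty ι] (ht : 0 < t) (hm : 0 < m)
    (φ : Fin t → Matrix (Fin m) (Fin m) F →ₐ[F] Matrix ι ι F)
    (hcomm : ∀ i j, i ≠ j → ∀ X Y, φ i X * φ j Y = φ j Y * φ i X)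
    (hgen : (⨆ i, (φ i).range) = ⊤) :
    ∃ (e : ι ≃ (Fin t → Fin m)) (P : GL ι F),
      ∀ i X, φ i X = cj P (Matrix.reindexAlgEquiv F F e.symm (slot i X)) := by
  classical
  let Ex : (Fin t → Fin m) → (Fin t → Fin m) → Matrix ι ι F :=
    fun x y => prodF fun i => φ i (Matrix.single (x i) (y i) 1)
  have hpw : ∀ As : Fin t → Matrix (Fin m) (Fin m) F,
      ∑ x, ∑ y, pw As x y • Ex x y = prodF fun i => φ i (As i) := by
    intro As
    have h1 : ∀ i, φ i (As i) = ∑ p : Fin m × Fin m, As i p.1 p.2 • φ i (Matrix.single p.1 p.2 1) := by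
      intro i
      conv_lhs => rw [Matrix.matrix_eq_sum_single (As i)]
      rw [Fintype.sum_prod_type, map_sum]
      refine Finset.sum_congr rfl fun a _ => ?_
      rw [map_sum]
      exact Finset.sum_congr rfl fun b _ => by rw [← map_smul, Matrix.smul_single, smul_eq_mul, mul_one]
    rw [show (fun i => φ i (As i)) = fun i => ∑ p : Fin m × Fin m, As i p.1 p.2 • φ i (Matrix.single p.1 p.2 1) from
      funext h1, prodF_sum, ← Fintype.sum_prod_type']
    refine (Fintype.sum_equiv (Equiv.arrowProdEquivProdArrow (Fin t) (fun _ => Fin m) (fun _ => Fin m)) _ _ fun p => ?_).symm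
    rw [prodF_smul]
    rfl
  have hone : ∑ x, ∑ y, (1 : Matrix (Fin t → Fin m) (Fin t → Fin m) F) x y • Ex x y = 1 := by
    rw [← pw_one, hpw]
    simp [prodF_one]
  have hmulE : ∀ x y z w, Ex x y * Ex z w = if y = z then Ex x w else 0 := by
    intro x y z w
    rw [prodF_mul _ _ fun i j hij => hcomm i j hij _ _]
    split
    · next h => subst h; simp only [← map_mul, Matrix.single_mul_single_same, mul_one]; rfl
    · next h =>
      obtain ⟨i, hi⟩ := Function.ne_iff.1 h
      refine List.prod_eq_zero (List.mem_ofFn.2 ⟨i, ?_⟩)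
      rw [← map_mul, Matrix.single_mul_single_of_ne _ _ _ _ hi, map_zero]
  let Φ : Matrix (Fin t → Fin m) (Fin t → Fin m) F →ₐ[F] Matrix ι ι F := AlgHom.ofLinearMap
    { toFun := fun X => ∑ x, ∑ y, X x y • Ex x y
      map_add' := fun X Y => by simp [add_smul, Finset.sum_add_distrib]
      map_smul' := fun c X => by simp [Finset.smul_sum, smul_smul] } hone
    (fun X Y => by
      show ∑ x, ∑ w, (X * Y) x w • Ex x w = (∑ x, ∑ y, X x y • Ex x y) * ∑ z, ∑ w, Y z w • Ex z w
      rw [Finset.sum_mul]
      refine Finset.sum_congr rfl fun x _ => ?_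
      rw [Finset.sum_mul]
      simp only [Matrix.mul_apply, Finset.sum_smul]
      rw [Finset.sum_comm]
      refine Finset.sum_congr rfl fun y _ => ?_
      rw [Finset.mul_sum]
      refine Eq.trans ?_ (Finset.sum_eq_single y (fun z _ hz => ?_) (by simp)).symm
      · rw [Finset.mul_sum]
        refine Finset.sum_congr rfl fun w _ => ?_
        rw [smul_mul_assoc, mul_smul_comm, smul_smul, hmulE, if_pos rfl]
      · rw [Finset.mul_sum]
        refine Finset.sum_eq_zero fun w _ => ?_
        rw [smul_mul_assoc, mul_smul_comm, hmulE, if_neg (Ne.symm hz), smul_zero, smul_zero])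
  have hslot : ∀ i X, Φ (slot i X) = φ i X := by
    intro i X
    show ∑ x, ∑ y, slot i X x y • Ex x y = _
    rw [slot, hpw]
    have h : (fun j => φ j (Function.update (fun _ => (1 : Matrix (Fin m) (Fin m) F)) i X j)) =
        Function.update (fun _ => 1) i (φ i X) := by
      funext j
      by_cases hj : j = i
      · subst hj; simp
      · simp [Function.update_of_ne hj]
    rw [h, prodF_eq_single]
  have hinj : Function.Injective Φ := by
    refine (injective_iff_map_eq_zero Φ).2 fun X hX => Matrix.ext fun x y => ?_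
    by_contra hne
    have hEx : ∀ z, Ex z z ≠ 0 → False := by
      intro z hz
      have h1 : Φ (Matrix.single z x 1 * X * Matrix.single y z 1) = 0 := by rw [map_mul, map_mul, hX, mul_zero, zero_mul]
      rw [Matrix.single_mul_mul_single, one_mul, mul_one] at h1
      have h2 : Φ (Matrix.single z z (X x y)) = X x y • Ex z z := by
        show ∑ a, ∑ b, Matrix.single z z (X x y) a b • Ex a b = _
        rw [Finset.sum_eq_single z (fun a _ ha => Finset.sum_eq_zero fun b _ => by
          rw [Matrix.single_apply_of_row_ne (Ne.symm ha), zero_smul]) (by simp),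
          Finset.sum_eq_single z (fun b _ hb => by rw [Matrix.single_apply_of_col_ne _ _ (Ne.symm hb), zero_smul]) (by simp),
          Matrix.single_apply_same]
      rw [h2, smul_eq_zero] at h1
      exact h1.elim hne hz
    have h0 : ∀ z, Ex z z = 0 := fun z => by_contra fun h => hEx z h
    have := hone
    rw [Finset.sum_eq_zero fun a _ => Finset.sum_eq_zero fun b _ => ?_] at this
    · exact zero_ne_one this
    · by_cases hab : a = b
      · subst hab; rw [h0, smul_zero]
      · rw [Matrix.one_apply_ne hab, zero_smul]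
  have hsurj : Function.Surjective Φ := by
    rw [← Set.range_eq_univ, ← AlgHom.coe_range, ← Algebra.coe_top (R := F), SetLike.coe_set_eq, eq_top_iff, ← hgen]
    refine iSup_le fun i => ?_
    rintro _ ⟨X, rfl⟩
    exact ⟨slot i X, hslot i X⟩
  let Φe := AlgEquiv.ofBijective Φ ⟨hinj, hsurj⟩
  have hcard : Fintype.card ι = Fintype.card (Fin t → Fin m) := by
    have h := Φe.toLinearEquiv.finrank_eq
    rw [Module.finrank_matrix, Module.finrank_matrix, Module.finrank_self, mul_one, mul_one] at h
    exact (Nat.mul_self_inj.1 h).symm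
  let e : ι ≃ (Fin t → Fin m) := Fintype.equivOfCardEq hcard
  obtain ⟨P, hP⟩ := algEquiv_inner ((Matrix.reindexAlgEquiv F F e).trans Φe)
  refine ⟨e, P, fun i X => ?_⟩
  rw [← hP, AlgEquiv.trans_apply]
  show φ i X = Φ _
  rw [← hslot]
  congr 1
  ext a b
  simp

end CfsgLib.Aschbacher
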