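import Cfsg.Agent.Lib.Aschbacher.Minimal
import Cfsg.Agent.Lib.Aschbacher.TensorEmbed

/-!
# Perfect minimal normal subgroups: simple modulo scalars, or a tensor wreath structure
-/

set_option autoImplicit false

namespace CfsgLib.Aschbacher

open Matrix Module Cfsg
open scoped MatrixGroups commutatorElement

variable {ι : Type} [Fintype ι] [DecidableEq ι] {F : Type*} [Field F] [Fintype F]

/-- A tensor wreath structure on `H` coming from the factors of a perfect normal subgroup. -/
structure WreathData (H N : Subgroup (GL ι F)) (m t : ℕ) (e : ι ≃ (Fin t → Fin m)) (P : GL ι F)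
    (Ms : Fin t → Subgroup (GL ι F)) : Prop where
  two_le_m : 2 ≤ m
  two_le_t : 2 ≤ t
  dim : Fintype.card ι = m ^ t
  perfect : ⁅N, N⁆ = N
  le : H ≤ Geo.tensorWreathSubgroup m t e P
  factor_le : ∀ i, Ms i ≤ N
  factor_perfect : ∀ i, ⁅Ms i, Ms i⁆ = Ms i
  factor : ∀ i X, X ∈ alg (Ms i) ↔ ∃ Y, X = cj P (Matrix.reindexAlgEquiv F F e.symm (slot i Y))
  trans : ∀ i j, ∃ h ∈ H, (Ms i).map (MulAut.conj h).toMonoidHom = Ms j

omit [Fintype F] in
theorem commutator_scalars_perfect {M R : Subgroup (GL ι F)} (hM : ⁅M, M⁆ = M) (h : ⁅M, R⁆ ≤ Geo.scalars ι F) :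
    ⁅M, R⁆ = ⊥ := by
  have hs : ∀ S : Subgroup (GL ι F), ⁅Geo.scalars ι F, S⁆ = ⊥ := fun S =>
    le_bot_iff.1 (Subgroup.commutator_le.2 fun x hx y _ =>
      (Subgroup.mem_bot).2 (commutatorElement_eq_one_iff_mul_comm.2 (commute_of_mem_scalars hx y)))
  have h1 : ⁅⁅M, R⁆, M⁆ = ⊥ := le_bot_iff.1 ((Subgroup.commutator_mono h le_rfl).trans (hs M).le)
  have h2 : ⁅⁅R, M⁆, M⁆ = ⊥ := by rw [Subgroup.commutator_comm R M]; exact h1
  have := Subgroup.commutator_commutator_eq_bot_of_rotate h1 h2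
  rwa [hM] at this

/-- The two possibilities for a perfect minimal normal subgroup. -/
theorem perfect_cases [Nonempty ι] {H N : Subgroup (GL ι F)} (hι : 2 ≤ Fintype.card ι) (hN : MinNS H N)
    (hfull : Full N) (hperf : ⁅N, N⁆ = N) :
    (IsSimpleGroup (N ⧸ (Geo.scalars ι F).subgroupOf N) ∧ ¬ IsMulCommutative (N ⧸ (Geo.scalars ι F).subgroupOf N) ∧
      ∀ h ∈ H, (∀ x ∈ N, h * x * h⁻¹ * x⁻¹ ∈ Geo.scalars ι F) → h ∈ Geo.scalars ι F) ∨
    ∃ (m t : ℕ) (e : ι ≃ (Fin t → Fin m)) (P : GL ι F) (Ms : Fin t → Subgroup (GL ι F)), WreathData H N m t e P Ms := by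
  classical
  have hnder : ¬ ⁅N, N⁆ ≤ Geo.scalars ι F := hperf.symm ▸ hN.nonscalar
  obtain ⟨M, hM⟩ := exists_minNS (H := N) hN.nonscalar
  -- the conjugates of `M`
  let conjM : GL ι F → Subgroup (GL ι F) := fun h => M.map (MulAut.conj h).toMonoidHom
  let S : Set (Subgroup (GL ι F)) := {K | ∃ h ∈ H, conjM h = K}
  have hcomp : ∀ a b, (conjM b).map (MulAut.conj a).toMonoidHom = conjM (a * b) := fun a b => by
    simp only [conjM, Subgroup.map_map]
    congr 1
    ext x
    simp [mul_assoc]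
  have hMS : M ∈ S := ⟨1, H.one_mem, by
    simp only [conjM, map_one]
    exact Subgroup.map_id M⟩
  have hle : ∀ K ∈ S, K ≤ N := by
    rintro _ ⟨h, hh, rfl⟩ _ ⟨x, hx, rfl⟩
    exact hN.norm.conj h hh x (hM.norm.le hx)
  have hmin : ∀ K ∈ S, MinNS N K := by
    rintro _ ⟨h, hh, rfl⟩
    have hKN : conjM h ≤ N := hle _ ⟨h, hh, rfl⟩
    have back : ∀ {x}, x ∈ N → h⁻¹ * x * h ∈ N := fun hx => by simpa using hN.norm.conj _ (H.inv_mem hh) _ hx
    refine ⟨⟨hKN, ?_⟩, fun hle' => hM.nonscalar fun x hx => ?_, fun L hL hLN => ?_⟩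
    · rintro y hy _ ⟨x, hx, rfl⟩
      exact ⟨h⁻¹ * y * h * x * (h⁻¹ * y * h)⁻¹, hM.norm.conj _ (back hy) x hx, by simp [mul_assoc]⟩
    · have := Subgroup.Normal.conj_mem inferInstance _ (hle' ⟨x, hx, rfl⟩) h⁻¹
      simpa [mul_assoc] using this
    · rcases hM.minimal (L.map (MulAut.conj h⁻¹).toMonoidHom) (by
        rintro _ ⟨x, hx, rfl⟩
        obtain ⟨y, hy, rfl⟩ := hL hx
        simpa [mul_assoc] using hy) (by
        rintro y hy _ ⟨x, hx, rfl⟩
        exact ⟨h * y * h⁻¹ * x * (h * y * h⁻¹)⁻¹, hLN _ (hN.norm.conj h hh y hy) x hx, by simp [mul_assoc]⟩) with h1 | h1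
      · refine Or.inl fun x hx => ?_
        have := Subgroup.Normal.conj_mem inferInstance _ (h1 ⟨x, hx, rfl⟩) h
        simpa [mul_assoc] using this
      · refine Or.inr ?_
        simp only [conjM, ← h1, Subgroup.map_map]
        refine (Subgroup.map_id L).symm.trans ?_
        congr 1
        ext x
        simp [mul_assoc]
  have hdistinct : ∀ K ∈ S, ∀ L ∈ S, K ≠ L → ⁅K, L⁆ ≤ Geo.scalars ι F := by
    intro K hK L hL hne
    have h1 : ⁅K, L⁆ ≤ K := Subgroup.commutator_le.2 fun x hx y hy => by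
      rw [commutatorElement_def, mul_assoc x y, mul_assoc x]
      exact K.mul_mem hx ((hmin K hK).norm.conj y (hle L hL hy) _ (K.inv_mem hx))
    have h2 : ⁅K, L⁆ ≤ L := Subgroup.commutator_le.2 fun x hx y hy => by
      rw [commutatorElement_def]
      exact L.mul_mem ((hmin L hL).norm.conj x (hle K hK hx) y hy) (L.inv_mem hy)
    rcases (hmin K hK).minimal ⁅K, L⁆ h1 ((hmin K hK).norm.commutator (hmin L hL).norm).conj with h | h
    · exact h
    · rcases (hmin L hL).minimal K (h ▸ h2) (hmin K hK).norm.conj with h' | h'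
      · exact absurd h' (hmin K hK).nonscalar
      · exact absurd h' hne
  have hgenN : sSup S = N := by
    refine (hN.minimal (sSup S) (sSup_le hle) ?_).resolve_left fun h => hM.nonscalar ((le_sSup hMS).trans h)
    intro a ha x hx
    have h1 : (MulAut.conj a).toMonoidHom x ∈ (sSup S).map (MulAut.conj a).toMonoidHom := ⟨x, hx, rfl⟩
    rw [(Subgroup.gc_map_comap _).l_sSup] at h1
    refine (iSup₂_le fun K hK => ?_ : _ ≤ sSup S) h1
    obtain ⟨b, hb, rfl⟩ := hK
    exact le_sSup ⟨a * b, H.mul_mem ha hb, (hcomp a b).symm⟩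
  -- commutators of generators decide the commutator of the whole
  have comm_le : ∀ K : Subgroup (GL ι F), (∀ L ∈ S, ⁅L, K⁆ ≤ Geo.scalars ι F) → ⁅N, K⁆ ≤ Geo.scalars ι F := by
    intro K hK
    refine Subgroup.commutator_le.2 fun x hx y hy => ?_
    rw [← hgenN, sSup_eq_iSup'] at hx
    induction hx using Subgroup.iSup_induction' with
    | hp L x hx => exact hK L L.2 (Subgroup.commutator_mem_commutator hx hy)
    | h1 => simp
    | hmul a b _ _ iha ihb =>
      rw [commutatorElement_mul_left_eq_conj_mul]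
      exact mul_mem (Subgroup.Normal.conj_mem inferInstance _ ihb a) iha
  have hperfS : ∀ K ∈ S, ⁅K, K⁆ = K := by
    have hMp : ⁅M, M⁆ = M := by
      rcases hM.derived with h | h
      · refine absurd (comm_le N fun L hL => ?_) hnder
        rw [Subgroup.commutator_comm]
        refine comm_le L fun L' hL' => ?_
        by_cases h' : L' = L
        · subst h'
          obtain ⟨a, ha, rfl⟩ := hL'
          rw [← Subgroup.map_commutator]
          rintro _ ⟨x, hx, rfl⟩
          exact Subgroup.Normal.conj_mem inferInstance _ (h hx) a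
        · exact hdistinct L' hL' L hL h'
      · exact h
    rintro _ ⟨a, -, rfl⟩
    rw [← Subgroup.map_commutator, hMp]
  by_cases hS1 : ∀ K ∈ S, K = M
  · refine Or.inl ?_
    have hMN : M = N := le_antisymm hM.norm.le (hgenN ▸ sSup_le fun K hK => (hS1 K hK).le)
    subst hMN
    haveI hnorm : ((Geo.scalars ι F).subgroupOf M).Normal := Subgroup.normal_subgroupOf
    have hnab : ¬ IsMulCommutative (M ⧸ (Geo.scalars ι F).subgroupOf M) := by
      intro hc
      refine hnder (Subgroup.commutator_le.2 fun x hx y hy => ?_)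
      have h1 : (QuotientGroup.mk ⁅(⟨x, hx⟩ : M), ⟨y, hy⟩⁆ : M ⧸ (Geo.scalars ι F).subgroupOf M) = 1 := by
        rw [show (QuotientGroup.mk ⁅(⟨x, hx⟩ : M), ⟨y, hy⟩⁆ : M ⧸ (Geo.scalars ι F).subgroupOf M) =
          ⁅(QuotientGroup.mk (⟨x, hx⟩ : M) : M ⧸ (Geo.scalars ι F).subgroupOf M), QuotientGroup.mk (⟨y, hy⟩ : M)⁆ from rfl]
        exact commutatorElement_eq_one_iff_mul_comm.2 (hc.is_comm.comm _ _)
      exact (QuotientGroup.eq_one_iff (N := (Geo.scalars ι F).subgroupOf M) ⁅(⟨x, hx⟩ : M), ⟨y, hy⟩⁆).1 h1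
    refine ⟨?_, hnab, fun a ha hcen => ?_⟩
    · haveI : Nontrivial (M ⧸ (Geo.scalars ι F).subgroupOf M) := by
        by_contra h
        rw [not_nontrivial_iff_subsingleton] at h
        exact hM.nonscalar fun x hx =>
          (QuotientGroup.eq_one_iff (N := (Geo.scalars ι F).subgroupOf M) (⟨x, hx⟩ : M)).1 (Subsingleton.elim _ _)
      refine ⟨fun K hK => ?_⟩
      rcases hM.minimal ((K.comap (QuotientGroup.mk' _)).map M.subtype) (by rintro _ ⟨x, -, rfl⟩; exact x.2) (by
        rintro y hy _ ⟨x, hx, rfl⟩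
        exact ⟨(⟨y, hy⟩ : M) * x * (⟨y, hy⟩ : M)⁻¹, (hK.comap _).conj_mem x hx _, rfl⟩) with h | h
      · refine Or.inl ((Subgroup.eq_bot_iff_forall _).2 fun q hq => ?_)
        obtain ⟨x, rfl⟩ := QuotientGroup.mk'_surjective _ q
        exact (QuotientGroup.eq_one_iff x).2 (h ⟨x, hq, rfl⟩)
      · refine Or.inr ((Subgroup.eq_top_iff' _).2 fun q => ?_)
        obtain ⟨⟨x, hx⟩, rfl⟩ := QuotientGroup.mk'_surjective _ q
        obtain ⟨y, hy, hyx⟩ := h.symm ▸ hx
        obtain rfl : y = ⟨x, hx⟩ := Subtype.ext hyx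
        exact hy
    · refine mem_scalars_of_commute hfull fun x hx => ?_
      rw [← hperf, Subgroup.commutator_def] at hx
      induction hx using Subgroup.closure_induction with
      | mem z hz =>
        obtain ⟨x, hx, y, hy, rfl⟩ := hz
        have hc1 := hcen x hx
        have hc2 := hcen y hy
        set c := a * x * a⁻¹ * x⁻¹
        set d := a * y * a⁻¹ * y⁻¹
        have e1 : a * ⁅x, y⁆ * a⁻¹ = ⁅c * x, d * y⁆ := by simp [c, d, commutatorElement_def, mul_assoc]
        have e2 : ⁅c * x, d * y⁆ = ⁅x, y⁆ := by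
          have k1 := commute_of_mem_scalars hc1
          have k2 := commute_of_mem_scalars hc2
          have k3 := commute_of_mem_scalars (inv_mem hc1)
          have k4 := commute_of_mem_scalars (inv_mem hc2)
          simp only [commutatorElement_def, _root_.mul_inv_rev]
          calc c * x * (d * y) * (x⁻¹ * c⁻¹) * (y⁻¹ * d⁻¹)
              = c * (x * d) * y * x⁻¹ * (c⁻¹ * y⁻¹) * d⁻¹ := by simp only [mul_assoc]
            _ = c * (d * x) * y * x⁻¹ * (y⁻¹ * c⁻¹) * d⁻¹ := by rw [k2 x, k3 y⁻¹]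
            _ = c * d * (x * y * x⁻¹ * y⁻¹) * c⁻¹ * d⁻¹ := by simp only [mul_assoc]
            _ = c * (d * (x * y * x⁻¹ * y⁻¹) * d⁻¹) * c⁻¹ := by rw [mul_assoc _ c⁻¹, k3 d⁻¹]; simp only [mul_assoc]
            _ = _ := by rw [k2, mul_inv_cancel_right, k1, mul_inv_cancel_right]
        exact mul_inv_eq_iff_eq_mul.1 (e1.trans e2)
      | one => simp
      | mul p q _ _ hp hq => rw [← mul_assoc, hp, mul_assoc, hq, ← mul_assoc]
      | inv p _ hp => exact Commute.inv_right (hp : Commute a p)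
  · refine Or.inr ?_
    push Not at hS1
    obtain ⟨K₀, hK₀, hK₀ne⟩ := hS1
    let Sf : Finset (Subgroup (GL ι F)) := (Set.toFinite S).toFinset
    obtain ⟨t, ⟨en⟩⟩ : ∃ t, Nonempty (Fin t ≃ Sf) := ⟨_, ⟨Sf.equivFin.symm⟩⟩
    let Ms : Fin t → Subgroup (GL ι F) := fun i => (en i).1
    have hMs : ∀ i, Ms i ∈ S := fun i => (Set.toFinite S).mem_toFinset.1 (en i).2
    have hidx : ∀ K ∈ S, ∃ i, Ms i = K := fun K hK =>
      ⟨en.symm ⟨K, (Set.toFinite S).mem_toFinset.2 hK⟩, by simp [Ms]⟩
    have ht : 2 ≤ t := by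
      obtain ⟨i, hi⟩ := hidx M hMS
      obtain ⟨j, hj⟩ := hidx K₀ hK₀
      by_contra hcon
      haveI : Subsingleton (Fin t) := Fin.subsingleton_iff_le_one.2 (by omega)
      exact hK₀ne (hj.symm.trans ((Subsingleton.elim j i) ▸ hi))
    choose hh hhH hhM using hMs
    -- distinct factors commute
    have hcent : ∀ i j, i ≠ j → ∀ X ∈ alg (Ms i), ∀ Y ∈ alg (Ms j), X * Y = Y * X := by
      intro i j hij
      have hne : Ms i ≠ Ms j := fun h => hij (en.injective (Subtype.ext h))
      have hbot := commutator_scalars_perfect (hperfS _ ⟨hh i, hhH i, hhM i⟩)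
        (hdistinct _ ⟨hh i, hhH i, hhM i⟩ _ ⟨hh j, hhH j, hhM j⟩ hne)
      intro X hX Y hY
      refine commute_alg (fun y hy => (commute_alg (fun x hx => ?_) hX).symm) hY
      have h1 : ⁅x, y⁆ = 1 := Subgroup.mem_bot.1 (hbot ▸ Subgroup.commutator_mem_commutator hx hy)
      exact (congrArg Units.val (commutatorElement_eq_one_iff_mul_comm.1 h1)).symm
    obtain ⟨i₀, hi₀⟩ := hidx M hMS
    -- the centre of `alg M` is trivial
    have hC : ∀ X ∈ centre (alg M), ∃ c : F, X = c • (1 : Matrix ι ι F) := by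
      intro X hX
      obtain ⟨hX1, hX2⟩ := mem_centre.1 hX
      refine hfull.commute_scalar fun x hx => ?_
      rw [← hgenN, sSup_eq_iSup'] at hx
      induction hx using Subgroup.iSup_induction' with
      | hp L x hx =>
        obtain ⟨j, hj⟩ := hidx L L.2
        by_cases hji : j = i₀
        · subst hji
          exact (hX2 _ (hi₀ ▸ hj.symm ▸ coe_mem_alg hx)).symm
        · exact hcent i₀ j (Ne.symm hji) X (hi₀.symm ▸ hX1) _ (hj.symm ▸ coe_mem_alg hx)
      | h1 => simp
      | hmul a b _ _ iha ihb => rw [Units.val_mul, ← mul_assoc, iha, mul_assoc, ihb, ← mul_assoc]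
    obtain ⟨m, hm0, ⟨ψ⟩⟩ := exists_matrixEquiv hfull.irr (invBy_alg hM.norm.conj) hC
    have hm : 2 ≤ m := by
      by_contra hcon
      obtain rfl : m = 1 := by omega
      refine hM.nonscalar fun x hx => mem_scalars_of_commute hfull fun y hy => ?_
      obtain ⟨X, hX⟩ := ψ.surjective ⟨_, coe_mem_alg hx⟩
      have hXs : X = X 0 0 • (1 : Matrix (Fin 1) (Fin 1) F) := by
        ext a b
        obtain rfl := Fin.eq_zero a
        obtain rfl := Fin.eq_zero b
        simp
      have hxv : (x : Matrix ι ι F) = X 0 0 • (1 : Matrix ι ι F) := by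
        rw [show (x : Matrix ι ι F) = (ψ X : Matrix ι ι F) from (congrArg Subtype.val hX).symm]
        conv_lhs => rw [hXs, map_smul, map_one, Subalgebra.coe_smul, OneMemClass.coe_one]
      exact Units.ext (by simp [hxv])
    have hmapalg : ∀ (a : GL ι F) (K : Subgroup (GL ι F)),
        alg (K.map (MulAut.conj a).toMonoidHom) = (alg K).map (cj a).toAlgHom := by
      intro a K
      rw [alg, alg, AlgHom.map_adjoin]
      congr 1
      rw [Geo.matrixSet, Geo.matrixSet, Subgroup.coe_map, Set.image_image, Set.image_image]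
      exact Set.image_congr fun x _ => (cj_coe a x).symm
    let φ : Fin t → Matrix (Fin m) (Fin m) F →ₐ[F] Matrix ι ι F := fun i =>
      (cj (hh i)).toAlgHom.comp ((alg M).val.comp ψ.toAlgHom)
    have hrange : ∀ i, (φ i).range = alg (Ms i) := by
      intro i
      rw [show Ms i = conjM (hh i) from (hhM i).symm, hmapalg]
      ext Z
      constructor
      · rintro ⟨X, rfl⟩
        exact ⟨_, (ψ X).2, rfl⟩
      · rintro ⟨Y, hY, rfl⟩
        exact ⟨ψ.symm ⟨Y, hY⟩, by simp [φ]⟩
    have hgen : (⨆ i, (φ i).range) = ⊤ := by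
      refine top_le_iff.1 ((hfull : alg N = ⊤) ▸ Algebra.adjoin_le ?_)
      rintro _ ⟨x, hx, rfl⟩
      rw [← hgenN, sSup_eq_iSup'] at hx
      induction hx using Subgroup.iSup_induction' with
      | hp L x hx =>
        obtain ⟨j, hj⟩ := hidx L L.2
        exact (le_iSup (fun i => (φ i).range) j) (hrange j ▸ hj.symm ▸ coe_mem_alg hx)
      | h1 => exact Subalgebra.one_mem _
      | hmul a b _ _ iha ihb => exact Subalgebra.mul_mem _ iha ihb
    obtain ⟨e, P, hφ⟩ := exists_tensorCoords (by omega) hm0 φ (fun i j hij X Y =>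
      hcent i j hij _ (hrange i ▸ ⟨X, rfl⟩) _ (hrange j ▸ ⟨Y, rfl⟩)) hgen
    have hfac : ∀ i X, X ∈ alg (Ms i) ↔ ∃ Y, X = cj P (Matrix.reindexAlgEquiv F F e.symm (slot i Y)) := by
      intro i X
      rw [← hrange]
      exact ⟨fun ⟨Y, hY⟩ => ⟨Y, hY.symm.trans (hφ i Y)⟩, fun ⟨Y, hY⟩ => ⟨Y, (hφ i Y).trans hY.symm⟩⟩
    refine ⟨m, t, e, P, Ms, hm, ht, by rw [Fintype.card_congr e]; simp, hperf, fun a ha => ?_, fun i => hle _ ⟨hh i, hhH i, hhM i⟩,
      fun i => hperfS _ ⟨hh i, hhH i, hhM i⟩, hfac, fun i j => ⟨hh j * (hh i)⁻¹, H.mul_mem (hhH j) (H.inv_mem (hhH i)), ?_⟩⟩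
    · -- membership in the wreath group
      have himg : ∀ i, ∃ j, conjM (a * hh i) = Ms j := fun i => by
        obtain ⟨j, hj⟩ := hidx _ ⟨a * hh i, H.mul_mem ha (hhH i), rfl⟩
        exact ⟨j, hj.symm⟩
      choose f hf using himg
      have hf' : ∀ i, (Ms i).map (MulAut.conj a).toMonoidHom = Ms (f i) := fun i => by
        rw [← hf, ← hcomp]; exact congrArg _ (hhM i).symm
      have hfinj : Function.Injective f := by
        intro i j hij
        have h1 : (Ms i).map (MulAut.conj a).toMonoidHom = (Ms j).map (MulAut.conj a).toMonoidHom := by rw [hf', hf', hij]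
        exact en.injective (Subtype.ext (Subgroup.map_injective (MulAut.conj a).injective h1))
      let σ : Equiv.Perm (Fin t) := Equiv.ofBijective f (Finite.injective_iff_bijective.1 hfinj)
      have hα : ∀ i X, ∃ Y, cj a (φ i X) = φ (f i) Y := by
        intro i X
        have h1 : cj a (φ i X) ∈ alg (Ms (f i)) := by
          rw [← hf' i, hmapalg]
          exact ⟨φ i X, hrange i ▸ ⟨X, rfl⟩, rfl⟩
        rw [← hrange] at h1
        exact ⟨h1.choose, h1.choose_spec.symm⟩
      choose α hα using hα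
      have hψinj : ∀ i, Function.Injective (φ i) := fun i =>
        (cj (hh i)).injective.comp (Subtype.val_injective.comp ψ.injective)
      have hg : ∀ i, ∃ g : GL (Fin m) F, ∀ X, α i X = cj g X := by
        intro i
        let A : Matrix (Fin m) (Fin m) F →ₐ[F] Matrix (Fin m) (Fin m) F := AlgHom.ofLinearMap
          { toFun := α i
            map_add' := fun X Y => hψinj (f i) (by rw [← hα, map_add, map_add, hα, hα, map_add])
            map_smul' := fun c X => hψinj (f i) (by rw [← hα, map_smul, map_smul, hα, RingHom.id_apply, map_smul]) }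
          (hψinj (f i) (show φ (f i) (α i 1) = φ (f i) 1 by rw [← hα, map_one, map_one, map_one]))
          (fun X Y => hψinj (f i) (show φ (f i) (α i (X * Y)) = φ (f i) (α i X * α i Y) by
            rw [← hα, map_mul, map_mul, hα, hα, map_mul]))
        have hAinj : Function.Injective A := fun X Y h => hψinj i ((cj a).injective (by
          rw [hα, hα]; exact congrArg (φ (f i)) h))
        exact algEquiv_inner (AlgEquiv.ofBijective A (Finite.injective_iff_bijective.1 hAinj))
      choose gs hgs using hg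
      set g' : GL (Fin t → Fin m) F := (Geo.glReindex (F := F) e.symm).symm (P⁻¹ * a * P) with hg'
      refine ⟨P⁻¹ * a * P, ⟨g', mem_tensorWreathStandard (by omega) hm0 σ gs fun i X => ?_,
        MulEquiv.apply_symm_apply _ _⟩, by simp [mul_assoc]⟩
      refine (Matrix.reindexAlgEquiv F F e.symm).injective ?_
      have h2 := MulEquiv.apply_symm_apply (Geo.glReindex (F := F) e.symm) (P⁻¹ * a * P)
      rw [cj_apply, map_mul, map_mul,
        show Matrix.reindexAlgEquiv F F e.symm (g' : Matrix _ _ F) = ((P⁻¹ * a * P : GL ι F) : Matrix ι ι F) from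
          congrArg Units.val h2,
        show Matrix.reindexAlgEquiv F F e.symm ((g'⁻¹ : GL _ F) : Matrix _ _ F) =
          (((P⁻¹ * a * P)⁻¹ : GL ι F) : Matrix ι ι F) from
          congrArg (fun u : GL ι F => ((u⁻¹ : GL ι F) : Matrix ι ι F)) h2]
      show cj (P⁻¹ * a * P) (Matrix.reindexAlgEquiv F F e.symm (slot i X)) = _
      rw [cj_mul, cj_mul, ← hφ, hα, hgs, hφ, cj_inv_self]
      rfl
    · rw [show Ms i = conjM (hh i) from (hhM i).symm, hcomp, inv_mul_cancel_right]
      exact hhM j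

end CfsgLib.Aschbacher
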