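import Cfsg.Agent.Lib.Aschbacher.Minimal
import Cfsg.Agent.Lib.Aschbacher.Rational
import Cfsg.Agent.Lib.PGroup.Basic

/-!
# Minimal normal subgroups with scalar commutators: groups of symplectic type
-/

set_option autoImplicit false

namespace CfsgLib.Aschbacher

open Matrix Module Cfsg
open scoped MatrixGroups commutatorElement

variable {ι : Type} [Fintype ι] [DecidableEq ι] {F : Type*} [Field F] [Fintype F]

/-- The properties of a minimal normal subgroup with scalar commutators. -/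
structure SympData (N : Subgroup (GL ι F)) (r k z : ℕ) : Prop where
  prime : r.Prime
  cast_ne : (r : F) ≠ 0
  dim : Fintype.card ι = r ^ k
  one_le : 1 ≤ k
  full : Full N
  symp : Geo.IsSymplecticTypeGroup r N
  card : Nat.card N = z * r ^ (2 * k)
  card_center : Nat.card (Subgroup.center N) = z
  card_eq : (Odd r ∧ z = r) ∨ (r = 2 ∧ (z = 2 ∨ z = 4))
  scalar_pow : ∀ x ∈ N, x ∈ Geo.scalars ι F → x ^ z = 1
  dvd_units : z ∣ Fintype.card F - 1
  realisable : ∀ K : Subfield F, z ∣ Nat.card K - 1 → Geo.RealisableOver K (Geo.matrixSet N)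
  invariant_gram : ∀ σ : F ≃+* F, (∀ c : F, c ^ z = 1 → σ c = c⁻¹) →
    ∃ G : Matrix ι ι F, IsUnit G ∧ ∀ x ∈ N, (x : Matrix ι ι F)ᵀ * G * (x : Matrix ι ι F).map σ = G

omit [Fintype F] in
theorem trace_eq_zero_of_conj {x y : GL ι F} {c : F} (hc : c ≠ 1)
    (h : ((y * x * y⁻¹ : GL ι F) : Matrix ι ι F) = c • (x : Matrix ι ι F)) : Matrix.trace (x : Matrix ι ι F) = 0 := by
  have h1 := congrArg Matrix.trace h
  rw [Units.val_mul, Units.val_mul, Matrix.trace_units_conj, Matrix.trace_smul, smul_eq_mul] at h1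
  have h2 : (c - 1) * Matrix.trace (x : Matrix ι ι F) = 0 := by linear_combination -h1
  exact (mul_eq_zero.1 h2).resolve_left (sub_ne_zero.2 hc)

/-- A minimal normal subgroup with scalar commutators is of symplectic type. -/
theorem sympData_of_minNS [Nonempty ι] {H N : Subgroup (GL ι F)} (hι : 2 ≤ Fintype.card ι) (hN : MinNS H N)
    (hfull : Full N) (hcomm : ⁅N, N⁆ ≤ Geo.scalars ι F) : ∃ r k z, SympData N r k z := by
  classical
  have hirr := hfull.irr
  have hsc : ∀ {g : GL ι F}, g ∈ Geo.scalars ι F → g ∈ Subgroup.center (GL ι F) := fun hg =>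
    Subgroup.mem_center_iff.2 fun x => (commute_of_mem_scalars hg x).symm
  have hc : ∀ {x y : GL ι F}, x ∈ N → y ∈ N → ⁅x, y⁆ ∈ Geo.scalars ι F := fun hx hy =>
    hcomm (Subgroup.commutator_mem_commutator hx hy)
  have hnc : ∀ x ∈ N, x ∉ Geo.scalars ι F → ∃ y ∈ N, ⁅y, x⁆ ≠ 1 := fun x _ hx => by
    by_contra! hcon
    exact hx (mem_scalars_of_commute hfull fun y hy => (commutatorElement_eq_one_iff_mul_comm.1 (hcon y hy)).symm)
  -- a prime order modulo scalars
  obtain ⟨x₀, hx₀N, hx₀⟩ := SetLike.not_le_iff_exists.1 hN.nonscalar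
  obtain ⟨r, hr, x₁, hx₁N, hx₁, hx₁r⟩ :
      ∃ r, r.Prime ∧ ∃ x ∈ N, x ∉ Geo.scalars ι F ∧ x ^ r ∈ Geo.scalars ι F := by
    have key : ∀ m, 0 < m → ∀ x ∈ N, x ∉ Geo.scalars ι F → x ^ m ∈ Geo.scalars ι F →
        ∃ r, r.Prime ∧ ∃ y ∈ N, y ∉ Geo.scalars ι F ∧ y ^ r ∈ Geo.scalars ι F := by
      intro m
      induction m using Nat.strong_induction_on with
      | _ m ih =>
        intro hm x hxN hx hxm
        by_cases h1 : m = 1
        · exact absurd (by simpa [h1] using hxm) hx
        obtain ⟨r, hr, u, rfl⟩ := Nat.exists_prime_and_dvd h1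
        have hu : 0 < u := Nat.pos_of_ne_zero fun h => by simp [h] at hm
        by_cases hxu : x ^ u ∈ Geo.scalars ι F
        · exact ih u (lt_mul_of_one_lt_left hu hr.one_lt) hu x hxN hx hxu
        · exact ⟨r, hr, x ^ u, N.pow_mem hxN u, hxu, by rw [← pow_mul, mul_comm]; exact hxm⟩
    exact key (orderOf x₀) (orderOf_pos x₀) x₀ hx₀N hx₀ (by rw [pow_orderOf_eq_one]; exact one_mem _)
  haveI : Fact r.Prime := ⟨hr⟩
  -- every element has its `r`-th power scalar
  have hpr : ∀ x ∈ N, x ^ r ∈ Geo.scalars ι F := by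
    let K : Subgroup (GL ι F) :=
      { carrier := {x | x ∈ N ∧ x ^ r ∈ Geo.scalars ι F}
        mul_mem' := fun {a b} ha hb => ⟨N.mul_mem ha.1 hb.1, by
          rw [CfsgLib.PGroup.mul_pow_of_comm_mem_center (hsc (hc hb.1 ha.1))]
          exact mul_mem (mul_mem ha.2 hb.2) (pow_mem (hc hb.1 ha.1) _)⟩
        one_mem' := ⟨N.one_mem, by simp⟩
        inv_mem' := fun {a} ha => ⟨N.inv_mem ha.1, by rw [inv_pow]; exact inv_mem ha.2⟩ }
    rcases hN.minimal K (fun x hx => hx.1) (fun h hh x hx => ⟨hN.norm.conj h hh x hx.1, by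
      rw [conj_pow]; exact Subgroup.Normal.conj_mem inferInstance _ hx.2 h⟩) with h | h
    · exact absurd (h ⟨hx₁N, hx₁r⟩) hx₁
    · exact fun x hx => (h.symm ▸ hx : x ∈ K).2
  have hcr : ∀ {x y : GL ι F}, x ∈ N → y ∈ N → ⁅x, y⁆ ^ r = 1 := fun {x y} hx hy => by
    rw [← CfsgLib.PGroup.comm_pow_left (hsc (hc hx hy))]
    exact commutatorElement_eq_one_iff_mul_comm.2 (commute_of_mem_scalars (hpr x hx) y)
  -- the scalars of `N`
  let φ : Fˣ →* GL ι F := Units.map (Matrix.scalar ι : F →+* Matrix ι ι F).toMonoidHom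
  have hφ : Function.Injective φ := fun a b hab => by
    obtain ⟨i⟩ := ‹Nonempty ι›
    exact Units.ext (by simpa [φ] using congrArg (fun g : GL ι F => (g : Matrix ι ι F) i i) hab)
  let Zf : Subgroup Fˣ := N.comap φ
  set z := Nat.card Zf with hz
  have hpowz : ∀ x ∈ N, x ∈ Geo.scalars ι F → x ^ z = 1 := by
    rintro _ hx ⟨c, rfl⟩
    have h1 : (⟨c, hx⟩ : Zf) ^ z = 1 := pow_card_eq_one'
    rw [← map_pow, show c ^ z = 1 by simpa using congrArg Subtype.val h1, map_one]
  have hexp : ∀ m, (∀ x ∈ N, x ∈ Geo.scalars ι F → x ^ m = 1) → z ∣ m := fun m hm => by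
    rw [hz, ← IsCyclic.exponent_eq_card (α := Zf)]
    refine Monoid.exponent_dvd_of_forall_pow_eq_one fun c => Subtype.ext (hφ ?_)
    rw [Subgroup.coe_pow, map_pow, hm _ c.2 ⟨c, rfl⟩, Subgroup.coe_one, map_one]
  have hcomm1 : ∃ a ∈ N, ∃ b ∈ N, ⁅a, b⁆ ≠ 1 := by
    obtain ⟨b, hb, hbx⟩ := hnc x₀ hx₀N hx₀
    exact ⟨b, hb, x₀, hx₀N, hbx⟩
  obtain ⟨a₁, ha₁, b₁, hb₁, hab⟩ := hcomm1
  have hordc : orderOf ⁅a₁, b₁⁆ = r := orderOf_eq_prime (hcr ha₁ hb₁) hab
  have hrz : r ∣ z := by
    rw [← hordc]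
    exact orderOf_dvd_of_pow_eq_one (hpowz _ (hN.norm.commutator_self_le (Subgroup.commutator_mem_commutator ha₁ hb₁))
      (hc ha₁ hb₁))
  -- the exponent of `N`
  obtain ⟨E, hEdef⟩ : ∃ E, E = r * Nat.gcd 2 r := ⟨_, rfl⟩
  have hEdvd : r ∣ E := hEdef ▸ Dvd.intro _ rfl
  have hEchoose : r ∣ E.choose 2 := by
    rcases hr.eq_two_or_odd' with h2 | hodd
    · subst h2; subst hEdef; decide
    · have : Nat.gcd 2 r = 1 := (Nat.coprime_two_left.2 hodd)
      rw [this, mul_one] at hEdef
      subst hEdef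
      exact hr.dvd_choose_self two_ne_zero (lt_of_le_of_ne hr.two_le fun h => by subst h; exact absurd hodd (by decide))
  have hpowE : ∀ {x y : GL ι F}, x ∈ N → y ∈ N → (x * y) ^ E = x ^ E * y ^ E := fun {x y} hx hy => by
    obtain ⟨d, hd⟩ := hEchoose
    rw [CfsgLib.PGroup.mul_pow_of_comm_mem_center (hsc (hc hy hx)), hd, pow_mul, hcr hy hx, one_pow, mul_one]
  have hexpE : ∀ x ∈ N, x ^ E = 1 := by
    let K : Subgroup (GL ι F) :=
      { carrier := {x | x ∈ N ∧ x ^ E = 1}
        mul_mem' := fun {a b} ha hb => ⟨N.mul_mem ha.1 hb.1, by rw [hpowE ha.1 hb.1, ha.2, hb.2, one_mul]⟩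
        one_mem' := ⟨N.one_mem, one_pow _⟩
        inv_mem' := fun {a} ha => ⟨N.inv_mem ha.1, by rw [inv_pow, ha.2, inv_one]⟩ }
    rcases hN.minimal K (fun x hx => hx.1) (fun h hh x hx => ⟨hN.norm.conj h hh x hx.1, by
      rw [conj_pow, hx.2, mul_one, mul_inv_cancel]⟩) with h | h
    · exfalso
      -- otherwise `N` modulo scalars would be cyclic
      obtain ⟨d, hd⟩ := hEdvd
      let f : N →* Fˣ :=
        { toFun := fun x => Classical.choose ((hpr x x.2 : (x : GL ι F) ^ r ∈ Geo.scalars ι F)) ^ d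
          map_one' := hφ (by
            rw [map_pow, Classical.choose_spec (hpr ((1 : N) : GL ι F) (1 : N).2), ← pow_mul, ← hd,
              OneMemClass.coe_one, one_pow, map_one])
          map_mul' := fun x y => hφ (by
            rw [map_mul φ, map_pow, map_pow, map_pow, Classical.choose_spec (hpr _ (x * y).2),
              Classical.choose_spec (hpr _ x.2), Classical.choose_spec (hpr _ y.2), ← pow_mul, ← pow_mul, ← pow_mul, ← hd,
              Subgroup.coe_mul, hpowE x.2 y.2]) }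
      have hf : ∀ x : N, φ (f x) = (x : GL ι F) ^ E := fun x => by
        show φ (_ ^ d) = _
        rw [map_pow, Classical.choose_spec (hpr _ x.2), ← pow_mul, ← hd]
      have hker : f.ker ≤ Subgroup.center N := fun x hx => Subgroup.mem_center_iff.2 fun y => Subtype.ext
        (commute_of_mem_scalars (h ⟨x.2, by rw [← hf, (MonoidHom.mem_ker.1 hx), map_one]⟩) y).symm
      haveI : IsCyclic (N ⧸ f.ker) := isCyclic_of_surjective _ (QuotientGroup.quotientKerEquivRange f).symm.surjective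
      have hc' : ∀ a b : N, a * b = b * a :=
        commutative_of_cyclic_center_quotient (QuotientGroup.mk' f.ker) (by rwa [QuotientGroup.ker_mk'])
      exact hab (commutatorElement_eq_one_iff_mul_comm.2 (congrArg Subtype.val (hc' ⟨a₁, ha₁⟩ ⟨b₁, hb₁⟩)))
    · exact fun x hx => (h.symm ▸ hx : x ∈ K).2
  have hzE : z ∣ E := hexp E fun x hx _ => hexpE x hx
  have hz_eq : (Odd r ∧ z = r) ∨ (r = 2 ∧ (z = 2 ∨ z = 4)) := by
    rcases hr.eq_two_or_odd' with h2 | hodd
    · refine Or.inr ⟨h2, ?_⟩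
      subst h2
      subst hEdef
      have h4 : z ≤ 4 := Nat.le_of_dvd (by norm_num) hzE
      have h2' : 2 ≤ z := Nat.le_of_dvd (Nat.pos_of_ne_zero fun h => by rw [h] at hzE; simp at hzE) hrz
      rcases (show z = 2 ∨ z = 3 ∨ z = 4 by omega) with h | h | h
      · exact Or.inl h
      · rw [h] at hrz; omega
      · exact Or.inr h
    · refine Or.inl ⟨hodd, Nat.dvd_antisymm ?_ hrz⟩
      have : Nat.gcd 2 r = 1 := Nat.coprime_two_left.2 hodd
      rwa [hEdef, this, mul_one] at hzE
  have hzq : z ∣ Fintype.card F - 1 := by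
    rw [hz, ← Fintype.card_units, ← Nat.card_eq_fintype_card]
    exact Subgroup.card_subgroup_dvd_card Zf
  have hr0 : (r : F) ≠ 0 := by
    obtain ⟨p, hp⟩ := CharP.exists F
    haveI : Fact p.Prime := ⟨CharP.char_is_prime F p⟩
    intro h
    obtain ⟨e, -, he⟩ := FiniteField.card F p
    obtain rfl : p = r := (Nat.prime_dvd_prime_iff_eq Fact.out hr).1 ((CharP.cast_eq_zero_iff F p r).1 h)
    have h1 : p ∣ p ^ (e : ℕ) := dvd_pow_self p e.pos.ne'
    have h2 : p ∣ p ^ (e : ℕ) - 1 := he ▸ hrz.trans hzq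
    have h3 := Nat.dvd_sub h1 h2
    rw [Nat.sub_sub_self (Nat.one_le_pow _ _ (Nat.pos_of_ne_zero (Fact.out : p.Prime).ne_zero))] at h3
    exact hr.ne_one (Nat.dvd_one.1 h3)
  -- traces
  have htr0 : ∀ x ∈ N, x ∉ Geo.scalars ι F → Matrix.trace (x : Matrix ι ι F) = 0 := by
    intro x hx hxs
    obtain ⟨y, hy, hyx⟩ := hnc x hx hxs
    obtain ⟨c, hcv⟩ := (Geo.mem_scalars_iff _).1 (hc hy hx)
    refine trace_eq_zero_of_conj (y := y) (c := (c : F)) (fun h => hyx (Units.ext ?_)) ?_
    · rw [hcv, h, one_smul, Units.val_one]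
    · rw [show y * x * y⁻¹ = ⁅y, x⁆ * x by rw [commutatorElement_def]; group, Units.val_mul, hcv, Matrix.smul_mul,
        one_mul]
  -- cosets of the scalars
  let Q := N ⧸ (Geo.scalars ι F).subgroupOf N
  let s : Q → GL ι F := fun u => ((Quotient.out u : N) : GL ι F)
  have hsN : ∀ u, s u ∈ N := fun u => (Quotient.out u : N).2
  have hdiv : ∀ u v, (s u)⁻¹ * s v ∈ Geo.scalars ι F → u = v := fun u v h => by
    rw [← QuotientGroup.out_eq' u, ← QuotientGroup.out_eq' v]
    exact QuotientGroup.eq.2 h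
  have hdec : ∀ x ∈ N, ∃ (u : Q) (c : Fˣ), φ c ∈ N ∧ x = φ c * s u := by
    intro x hx
    have h1 : (s (QuotientGroup.mk (⟨x, hx⟩ : N) : Q))⁻¹ * x ∈ Geo.scalars ι F :=
      (QuotientGroup.eq (s := (Geo.scalars ι F).subgroupOf N)).1
        (QuotientGroup.out_eq' (QuotientGroup.mk (⟨x, hx⟩ : N) : Q))
    obtain ⟨c, hcx⟩ := h1
    change φ c = _ at hcx
    refine ⟨(QuotientGroup.mk (⟨x, hx⟩ : N) : Q), c, hcx ▸ N.mul_mem (N.inv_mem (hsN _)) hx, ?_⟩
    rw [commute_of_mem_scalars (⟨c, rfl⟩ : φ c ∈ Geo.scalars ι F), hcx, mul_inv_cancel_left]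
  have hspan : ⊤ ≤ Submodule.span F (Set.range fun u => ((s u : GL ι F) : Matrix ι ι F)) := by
    rw [← Algebra.top_toSubmodule, ← show alg N = ⊤ from hfull, alg_toSubmodule]
    refine Submodule.span_le.2 ?_
    rintro _ ⟨x, hx, rfl⟩
    obtain ⟨u, c, -, rfl⟩ := hdec x hx
    show ((φ c * s u : GL ι F) : Matrix ι ι F) ∈ _
    rw [Units.val_mul]
    show Matrix.scalar ι (c : F) * (s u : Matrix ι ι F) ∈ _
    rw [Matrix.scalar_apply, ← Matrix.smul_one_eq_diagonal, Matrix.smul_mul, one_mul]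
    exact Submodule.smul_mem _ _ (Submodule.subset_span ⟨u, rfl⟩)
  have hn0 : (Fintype.card ι : F) ≠ 0 := by
    intro h0
    have key : ∀ X : Matrix ι ι F, X ∈ alg N → Matrix.trace X = 0 := by
      intro X hX
      rw [← Subalgebra.mem_toSubmodule, alg_toSubmodule] at hX
      induction hX using Submodule.span_induction with
      | mem Y hY =>
        obtain ⟨x, hx, rfl⟩ := hY
        by_cases hxs : x ∈ Geo.scalars ι F
        · obtain ⟨c, hcv⟩ := (Geo.mem_scalars_iff _).1 hxs
          simp [hcv, Matrix.trace_smul, Matrix.trace_one, h0]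
        · exact htr0 x hx hxs
      | zero => exact Matrix.trace_zero ..
      | add A B _ _ hA hB => rw [Matrix.trace_add, hA, hB, add_zero]
      | smul c A _ hA => rw [Matrix.trace_smul, hA, smul_zero]
    obtain ⟨i⟩ := ‹Nonempty ι›
    simpa using key (Matrix.single i i 1) (hfull ▸ Algebra.mem_top)
  have hli : LinearIndependent F fun u => ((s u : GL ι F) : Matrix ι ι F) := by
    rw [Fintype.linearIndependent_iff]
    intro a ha v
    have h1 := congrArg (fun X => Matrix.trace (((s v)⁻¹ : GL ι F).val * X)) ha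
    simp only [Finset.mul_sum, Matrix.trace_sum, mul_smul_comm, Matrix.trace_smul, mul_zero, Matrix.trace_zero,
      ← Units.val_mul] at h1
    rw [Finset.sum_eq_single v (fun u _ hu => by
        rw [htr0 _ (N.mul_mem (N.inv_mem (hsN v)) (hsN u)) fun h => hu (hdiv _ _ h).symm, smul_zero]) (by simp),
      inv_mul_cancel, Units.val_one, Matrix.trace_one, smul_eq_mul] at h1
    exact (mul_eq_zero.1 h1).resolve_right hn0
  let S : Basis Q F (Matrix ι ι F) := Basis.mk hli hspan
  have hQ : Nat.card Q = Fintype.card ι * Fintype.card ι := by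
    rw [Nat.card_eq_fintype_card, ← Fintype.card_prod, ← Module.finrank_eq_card_basis S,
      Module.finrank_eq_card_basis (Matrix.stdBasis F ι ι)]
  have hpg : IsPGroup r N := fun x => by
    rcases hr.eq_two_or_odd' with h2 | hodd
    · refine ⟨2, Subtype.ext ?_⟩
      subst h2; subst hEdef
      simpa using hexpE x x.2
    · refine ⟨1, Subtype.ext ?_⟩
      have : Nat.gcd 2 r = 1 := Nat.coprime_two_left.2 hodd
      rw [hEdef, this, mul_one] at hexpE
      simpa using hexpE x x.2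
  haveI : ((Geo.scalars ι F).subgroupOf N).Normal := Subgroup.normal_subgroupOf
  obtain ⟨j, hj⟩ : ∃ j, Nat.card Q = r ^ j := IsPGroup.iff_card.1 (hpg.to_quotient _)
  obtain ⟨k, -, hk⟩ : ∃ k ≤ j, Fintype.card ι = r ^ k :=
    (Nat.dvd_prime_pow hr).1 (hj ▸ hQ ▸ Dvd.intro _ rfl)
  have hcen : ∀ x : N, x ∈ Subgroup.center N ↔ (x : GL ι F) ∈ Geo.scalars ι F := fun x =>
    ⟨fun hx => mem_scalars_of_commute hfull fun y hy =>
        (congrArg Subtype.val (Subgroup.mem_center_iff.1 hx ⟨y, hy⟩)).symm,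
     fun hx => Subgroup.mem_center_iff.2 fun y => Subtype.ext (commute_of_mem_scalars hx y).symm⟩
  have hcenter : Subgroup.center N = (Geo.scalars ι F).subgroupOf N := by
    ext x
    exact hcen x
  have hZ : Nat.card ((Geo.scalars ι F).subgroupOf N) = z := by
    refine (Nat.card_eq_of_bijective (fun c : Zf => (⟨⟨φ c, c.2⟩, ⟨c, rfl⟩⟩ : (Geo.scalars ι F).subgroupOf N))
      ⟨fun a b hab => Subtype.ext (hφ (congrArg (fun u : (Geo.scalars ι F).subgroupOf N => (u.1 : GL ι F)) hab)), ?_⟩).symm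
    rintro ⟨⟨x, hx⟩, c, hcx⟩
    change φ c = x at hcx
    subst hcx
    exact ⟨⟨c, hx⟩, rfl⟩
  refine ⟨r, k, z, hr, hr0, hk, ?_, hfull, ⟨hr, hpg, ?_, ?_⟩, ?_, hcenter ▸ hZ, hz_eq, hpowz, hzq, ?_, ?_⟩
  · rcases Nat.eq_zero_or_pos k with h | h
    · rw [h, pow_zero] at hk; omega
    · exact h
  · intro A hA hAc
    let A' := A.map N.subtype
    rcases hN.minimal A' (by rintro _ ⟨x, -, rfl⟩; exact x.2) (by
      rintro h hh _ ⟨x, hx, rfl⟩
      let θ : MulAut N :=
        { toFun := fun y => ⟨h * y * h⁻¹, hN.norm.conj h hh y y.2⟩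
          invFun := fun y => ⟨h⁻¹ * y * h, by simpa using hN.norm.conj _ (H.inv_mem hh) y y.2⟩
          left_inv := fun y => Subtype.ext (by simp [mul_assoc])
          right_inv := fun y => Subtype.ext (by simp [mul_assoc])
          map_mul' := fun y w => Subtype.ext (by simp [mul_assoc]) }
      have h1 := hA.fixed θ
      rw [← h1] at hx
      exact ⟨θ x, hx, rfl⟩) with h | h
    · let g : A →* Fˣ :=
        { toFun := fun x => Classical.choose (h ⟨(x : N), x.2, rfl⟩ : ((x : N) : GL ι F) ∈ Geo.scalars ι F)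
          map_one' := hφ ((Classical.choose_spec (h ⟨((1 : A) : N), (1 : A).2, rfl⟩ : _ ∈ Geo.scalars ι F)).trans (by simp))
          map_mul' := fun x y => hφ ((Classical.choose_spec
            (h ⟨((x * y : A) : N), (x * y).2, rfl⟩ : _ ∈ Geo.scalars ι F)).trans ((congrArg₂ (· * ·)
              (Classical.choose_spec (h ⟨(x : N), x.2, rfl⟩ : _ ∈ Geo.scalars ι F))
              (Classical.choose_spec (h ⟨(y : N), y.2, rfl⟩ : _ ∈ Geo.scalars ι F))).symm.trans (map_mul φ _ _).symm)) }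
      refine isCyclic_of_injective g fun x y hxy => Subtype.ext (Subtype.ext ?_)
      have h2 := congrArg φ hxy
      exact (Classical.choose_spec (h ⟨(x : N), x.2, rfl⟩ : _ ∈ Geo.scalars ι F)).symm.trans
        (h2.trans (Classical.choose_spec (h ⟨(y : N), y.2, rfl⟩ : _ ∈ Geo.scalars ι F)))
    · exfalso
      obtain ⟨a', ha', ha''⟩ : a₁ ∈ A' := h.symm ▸ ha₁
      obtain ⟨b', hb', hb''⟩ : b₁ ∈ A' := h.symm ▸ hb₁
      subst ha'' hb''
      exact hab (commutatorElement_eq_one_iff_mul_comm.2 (congrArg (fun u : N => (u : GL ι F))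
        (congrArg Subtype.val (hAc.is_comm.comm ⟨a', ha'⟩ ⟨b', hb'⟩))))
  · refine Nat.dvd_antisymm ?_ ?_
    · rw [← hEdef]
      exact Monoid.exponent_dvd_of_forall_pow_eq_one fun x => Subtype.ext (by simpa using hexpE x x.2)
    · rcases hr.eq_two_or_odd' with h2 | hodd
      · subst h2
        by_contra hnd
        obtain ⟨i, hi, hi'⟩ := (Nat.dvd_prime_pow (m := 2) Nat.prime_two).1
          (show Monoid.exponent N ∣ 2 ^ 2 by
            refine Monoid.exponent_dvd_of_forall_pow_eq_one fun x => Subtype.ext ?_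
            simpa [hEdef] using hexpE x x.2)
        have hi2 : i ≤ 1 := by
          by_contra hh
          obtain rfl : i = 2 := by omega
          exact hnd (by rw [hi']; norm_num)
        have h2' : ∀ x ∈ N, x * x = 1 := fun x hx => by
          have h4 : Monoid.exponent N ∣ 2 := hi'.symm ▸ (Nat.pow_dvd_pow 2 hi2).trans (by norm_num)
          have := congrArg Subtype.val (Monoid.exponent_dvd_iff_forall_pow_eq_one.1 h4 ⟨x, hx⟩)
          simpa [pow_two] using this
        refine hab (commutatorElement_eq_one_iff_mul_comm.2 ?_)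
        have e1 := h2' _ (N.mul_mem ha₁ hb₁)
        have e2 := h2' _ ha₁
        have e3 := h2' _ hb₁
        calc a₁ * b₁ = a₁ * (a₁ * b₁ * (a₁ * b₁)) * b₁ := by rw [e1, mul_one]
          _ = a₁ * a₁ * (b₁ * a₁) * (b₁ * b₁) := by group
          _ = b₁ * a₁ := by rw [e2, e3, one_mul, mul_one]
      · have : Nat.gcd 2 r = 1 := Nat.coprime_two_left.2 hodd
        rw [this, mul_one]
        have h1 : orderOf (⟨⁅a₁, b₁⁆, hN.norm.commutator_self_le (Subgroup.commutator_mem_commutator ha₁ hb₁)⟩ : N) = r := by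
          rw [← Subgroup.orderOf_coe]; exact hordc
        exact h1 ▸ Monoid.order_dvd_exponent _
  · rw [Subgroup.card_eq_card_quotient_mul_card_subgroup ((Geo.scalars ι F).subgroupOf N), hZ, hQ, hk, ← pow_add, two_mul,
      mul_comm]
  · intro K hK
    haveI : Fintype K := Fintype.ofFinite K
    have hfix : ∀ c : Fˣ, φ c ∈ N → (c : F) ∈ K := by
      intro c hcN
      rw [mem_subfield_iff_pow]
      have h1 : c ^ z = 1 := by
        apply hφ
        rw [map_pow, hpowz _ hcN ⟨c, rfl⟩, map_one]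
      obtain ⟨d, hd⟩ := hK
      have h2 : c ^ (Nat.card K - 1) = 1 := by rw [hd, pow_mul, h1, one_pow]
      have h3 : c ^ (Nat.card K - 1 + 1) = c := by rw [pow_succ, h2, one_mul]
      rw [Nat.sub_add_cancel Nat.card_pos] at h3
      simpa using congrArg Units.val h3
    have hrepr : ∀ x ∈ N, ∀ u, S.repr ((x : GL ι F) : Matrix ι ι F) u ∈ K := by
      intro x hx u
      obtain ⟨v, c, hcN, rfl⟩ := hdec x hx
      have : ((φ c * s v : GL ι F) : Matrix ι ι F) = (c : F) • S v := by
        rw [Units.val_mul, Basis.mk_apply]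
        show Matrix.scalar ι (c : F) * (s v : Matrix ι ι F) = _
        rw [Matrix.scalar_apply, ← Matrix.smul_one_eq_diagonal, Matrix.smul_mul, one_mul]
      rw [this, map_smul, Basis.repr_self, Finsupp.smul_apply, smul_eq_mul, Finsupp.single_apply]
      refine K.mul_mem (hfix c hcN) ?_
      split
      exacts [K.one_mem, K.zero_mem]
    refine realisableOver_of_basis K S (fun u => by simpa using hrepr 1 N.one_mem u) (fun u v w => ?_) ?_
    · simp only [S, Basis.mk_apply, ← Units.val_mul]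
      exact hrepr _ (N.mul_mem (hsN u) (hsN v)) w
    · rintro _ ⟨x, hx, rfl⟩
      exact hrepr x hx
  · intro σ hσ
    let T : GL ι F → Matrix ι ι F := fun g => (((g⁻¹ : GL ι F) : Matrix ι ι F).map σ)ᵀ
    have hTmul : ∀ a b, T (a * b) = T a * T b := fun a b => by
      show ((((a * b)⁻¹ : GL ι F) : Matrix ι ι F).map σ)ᵀ = _
      rw [_root_.mul_inv_rev, Units.val_mul, Matrix.map_mul, Matrix.transpose_mul]
    have hTφ : ∀ c, φ c ∈ N → T (φ c) = (c : F) • (1 : Matrix ι ι F) := fun c hc => by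
      have h1 : c ^ z = 1 := hφ (by rw [map_pow, hpowz _ hc ⟨c, rfl⟩, map_one])
      have h2 : ((c : F)⁻¹) ^ z = 1 := by rw [inv_pow]; simpa using congrArg Units.val h1
      have h3 := hσ _ h2
      rw [inv_inv] at h3
      show (((φ c)⁻¹ : GL ι F).val.map σ)ᵀ = _
      rw [← map_inv]
      show ((Matrix.scalar ι ((c⁻¹ : Fˣ) : F)).map σ)ᵀ = _
      rw [Matrix.scalar_apply, Matrix.diagonal_map (map_zero σ), Matrix.diagonal_transpose,
        Matrix.smul_one_eq_diagonal, Units.val_inv_eq_inv_val]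
      exact congrArg _ (funext fun _ => h3)
    let L : Matrix ι ι F →ₗ[F] Matrix ι ι F := S.constr F fun u => T (s u)
    have hL : ∀ x ∈ N, L (x : Matrix ι ι F) = T x := by
      intro x hx
      obtain ⟨v, c, hcN, rfl⟩ := hdec x hx
      have h1 : ((φ c * s v : GL ι F) : Matrix ι ι F) = (c : F) • S v := by
        rw [Units.val_mul, Basis.mk_apply]
        show Matrix.scalar ι (c : F) * (s v : Matrix ι ι F) = _
        rw [Matrix.scalar_apply, ← Matrix.smul_one_eq_diagonal, Matrix.smul_mul, one_mul]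
      rw [h1, map_smul, Basis.constr_basis, hTmul, hTφ c hcN, Matrix.smul_mul, one_mul]
    have hLone : L 1 = 1 := by
      have := hL 1 N.one_mem
      rw [Units.val_one] at this
      rw [this]
      show ((((1 : GL ι F)⁻¹ : GL ι F) : Matrix ι ι F).map σ)ᵀ = 1
      rw [inv_one, Units.val_one, Matrix.map_one σ (map_zero σ) (map_one σ), Matrix.transpose_one]
    have hLmul : ∀ X Y, L (X * Y) = L X * L Y := by
      intro X Y
      conv_lhs => rw [← S.sum_repr X, ← S.sum_repr Y, Finset.sum_mul_sum]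
      conv_rhs => rw [← S.sum_repr X, ← S.sum_repr Y, map_sum, map_sum, Finset.sum_mul_sum]
      simp only [map_sum]
      refine Finset.sum_congr rfl fun u _ => Finset.sum_congr rfl fun v _ => ?_
      rw [smul_mul_assoc, mul_smul_comm, map_smul, map_smul, map_smul, map_smul, smul_mul_assoc, mul_smul_comm]
      congr 2
      simp only [S, Basis.mk_apply]
      rw [← Units.val_mul, hL _ (N.mul_mem (hsN u) (hsN v)), hTmul, hL _ (hsN u), hL _ (hsN v)]
    have hsurj : Function.Surjective L := by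
      intro Y
      let W : Submodule F (Matrix ι ι F) :=
        { carrier := {X | (X.map σ)ᵀ ∈ LinearMap.range L}
          add_mem' := fun {A B} hA hB => by
            simp only [Set.mem_ofPred_eq, Matrix.map_add σ (map_add σ), Matrix.transpose_add] at *
            exact add_mem hA hB
          zero_mem' := ⟨0, by rw [map_zero, Matrix.map_zero σ (map_zero σ), Matrix.transpose_zero]⟩
          smul_mem' := fun a A hA => by
            simp only [Set.mem_ofPred_eq] at *
            rw [show (a • A).map σ = σ a • A.map σ from Matrix.ext fun i j => map_mul σ a _, Matrix.transpose_smul]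
            exact Submodule.smul_mem _ _ hA }
      have htop : W = ⊤ := by
        rw [← top_le_iff, ← Algebra.top_toSubmodule, ← show alg N = ⊤ from hfull, alg_toSubmodule]
        refine Submodule.span_le.2 ?_
        rintro _ ⟨x, hx, rfl⟩
        exact ⟨((x⁻¹ : GL ι F) : Matrix ι ι F), (hL _ (N.inv_mem hx)).trans (by
          show ((((x⁻¹)⁻¹ : GL ι F) : Matrix ι ι F).map σ)ᵀ = _
          rw [inv_inv])⟩
      obtain ⟨X, hX⟩ := (htop ▸ Submodule.mem_top : Yᵀ.map σ.symm ∈ W)
      refine ⟨X, hX.trans ?_⟩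
      ext i j
      simp
    let La : Matrix ι ι F →ₐ[F] Matrix ι ι F := AlgHom.ofLinearMap L hLone hLmul
    obtain ⟨G, hG⟩ := algEquiv_inner
      (AlgEquiv.ofBijective La ⟨Finite.injective_iff_surjective.2 hsurj, hsurj⟩)
    refine ⟨(G : Matrix ι ι F)ᵀ, (Matrix.isUnit_transpose _).2 G.isUnit, fun x hx => ?_⟩
    have h1 : T x = cj G (x : Matrix ι ι F) := (hL x hx).symm.trans (hG _)
    have h2 : T x * (G : Matrix ι ι F) = (G : Matrix ι ι F) * x := by rw [h1, cj_mul_self]
    have h3 : ((x : Matrix ι ι F).map σ)ᵀ * T x = 1 := by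
      show ((x : Matrix ι ι F).map σ)ᵀ * ((((x⁻¹ : GL ι F) : Matrix ι ι F)).map σ)ᵀ = 1
      rw [← Matrix.transpose_mul, ← Matrix.map_mul, Units.inv_mul, Matrix.map_one σ (map_zero σ) (map_one σ),
        Matrix.transpose_one]
    have h4 : ((x : Matrix ι ι F).map σ)ᵀ * (G : Matrix ι ι F) * x = G := by
      rw [mul_assoc, ← h2, ← mul_assoc, h3, one_mul]
    have h5 := congrArg Matrix.transpose h4
    rwa [Matrix.transpose_mul, Matrix.transpose_mul, Matrix.transpose_transpose, ← mul_assoc] at h5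

end CfsgLib.Aschbacher
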