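import Cfsg.Agent.Lib.Aschbacher.LinearNormal
import Cfsg.Agent.Lib.Aschbacher.SympType
import Cfsg.Agent.Lib.Aschbacher.Socle
import Cfsg.Agent.Lib.Aschbacher.InvariantForms
import Cfsg.Agent.Lib.Aschbacher.MinimalField

/-!
# Aschbacher's theorem for the linear groups
-/

set_option autoImplicit false

namespace CfsgLib.Aschbacher

open Matrix Module Cfsg
open scoped MatrixGroups commutatorElement

variable {F : Type*} [Field F] [Fintype F] {n : ℕ}

theorem linearGeometric_of_symplectic (hn : 3 ≤ n) {H : Subgroup (GL (Fin n) F)} {f : (Fin n → F) → (Fin n → F) → F}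
    (hf : Geo.IsSymplecticForm f) (h : H ≤ Geo.similarityGroup f) : LinearGeometric H := by
  have he : Even n := by simpa using IsSymplecticForm.even_card hf
  refine ⟨_, ?_, h⟩
  iterate 9 right
  exact Or.inl ⟨f, hf, he, by obtain ⟨k, rfl⟩ := he; omega, rfl⟩

theorem linearGeometric_of_unitary (hn : 3 ≤ n) {H : Subgroup (GL (Fin n) F)} {σ : F ≃+* F}
    {f : (Fin n → F) → (Fin n → F) → F} (hf : Geo.IsUnitaryForm σ f) (h : H ≤ Geo.similarityGroup f) :
    LinearGeometric H := by
  refine ⟨_, ?_, h⟩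
  iterate 10 right
  exact Or.inl ⟨σ, f, hf, hn, rfl⟩

theorem linearGeometric_of_quadratic (hn : 3 ≤ n) {H : Subgroup (GL (Fin n) F)} {Q : (Fin n → F) → F}
    (hQ : Geo.IsNondegenerateQuadraticForm Q) (h2 : (2 : F) ≠ 0) (h : H ≤ Geo.quadSimilarityGroup Q) :
    LinearGeometric H := by
  refine ⟨_, ?_, h⟩
  iterate 11 right
  refine ⟨Q, hQ, Nat.odd_iff.2 (FiniteField.odd_card_of_char_ne_two fun h => h2 ?_), hn, rfl⟩
  exact (ringChar.spec F 2).2 (h ▸ dvd_rfl)

theorem linearGeometric_of_realisable {H N : Subgroup (GL (Fin n) F)} [Nonempty (Fin n)] (hN : NormIn H N)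
    (hfull : Full N) {K : Subfield F} (hK : K ≠ ⊤) (hR : Geo.RealisableOver K (Geo.matrixSet N)) :
    LinearGeometric H := by
  obtain ⟨L, r, P, hr, hcard, -, hle, -⟩ := subfield_of_realisable hN.conj hfull hK hR
  refine ⟨_, ?_, hle⟩
  iterate 6 right
  exact Or.inl ⟨L, r, P, hr, hcard, rfl⟩

theorem linearGeometric_of_sympData (hn : 3 ≤ n) {H N : Subgroup (GL (Fin n) F)} (hN : NormIn H N) {r k z : ℕ}
    (hd : SympData N r k z) : LinearGeometric H := by
  haveI : Nonempty (Fin n) := ⟨⟨0, by omega⟩⟩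
  rcases subfield_or_minimal hd.dvd_units with ⟨K, hK, hzK⟩ | ⟨p, e, hmin⟩
  · exact linearGeometric_of_realisable hN hd.full hK (hd.realisable K hzK)
  by_cases hz2 : z = 2
  · subst hz2
    obtain ⟨G, hG, hinv⟩ := hd.invariant_gram (RingEquiv.refl F) fun c hc => by
      rw [RingEquiv.refl_apply]
      exact eq_inv_of_mul_eq_one_left (by rw [← pow_two]; exact hc)
    have h2 : (2 : F) ≠ 0 := by
      rcases hd.card_eq with ⟨ho, hz⟩ | ⟨hr, -⟩
      · subst hz; exact absurd ho (by decide)
      · subst hr; exact_mod_cast hd.cast_ne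
    have hsim := le_similarity_of_invGram hN hd.full hG hinv
    have hid : ((RingEquiv.refl F : F ≃+* F).toRingHom) = RingHom.id F := RingHom.ext fun _ => rfl
    rw [hid] at hsim
    obtain ⟨c, hc⟩ := invGram_unique hd.full hG hinv (InvGram.adjoint (fun _ => rfl) hinv)
    have hid2 : G.map (RingEquiv.refl F) = G := Matrix.ext fun _ _ => rfl
    rw [hid2] at hc
    obtain ⟨i, j, hij⟩ : ∃ i j, G i j ≠ 0 := by
      by_contra! hcon
      exact not_isUnit_zero ((Matrix.ext hcon : G = 0) ▸ hG)
    have hcc : c * c = 1 := by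
      have h1 := congrFun (congrFun hc i) j
      have h2' := congrFun (congrFun hc j) i
      simp only [Matrix.transpose_apply, Matrix.smul_apply, smul_eq_mul] at h1 h2'
      rw [h1] at h2'
      exact mul_right_cancel₀ hij (by rw [one_mul, mul_assoc]; exact h2'.symm)
    rcases mul_self_eq_one_iff.1 hcc with rfl | rfl
    · rw [one_smul] at hc
      exact linearGeometric_of_quadratic hn (isNondegenerateQuadraticForm_gf hG hc h2) h2
        fun g hg => mem_quadSimilarityGroup_gf (hsim hg)
    · rw [neg_one_smul] at hc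
      refine linearGeometric_of_symplectic hn (isSymplecticForm_gf hG (fun l => ?_) hc) hsim
      have h1 := congrFun (congrFun hc l) l
      simp only [Matrix.transpose_apply, Matrix.neg_apply] at h1
      have : (2 : F) * G l l = 0 := by linear_combination h1
      exact (mul_eq_zero.1 this).resolve_left h2
  have he0 : 0 < e := by
    rcases Nat.eq_zero_or_pos e with h | h
    · have := hmin.2.2.1
      rw [h, pow_zero] at this
      exact absurd this Fintype.one_lt_card.ne'
    · exact h
  by_cases hee : Even e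
  · obtain ⟨σ, hne, hinvol, hσ⟩ := exists_inverting_involution hmin (by
      rcases hd.card_eq with ⟨-, hz⟩ | ⟨-, hz | hz⟩
      · exact Or.inl (hz ▸ hd.prime)
      · exact absurd hz hz2
      · exact Or.inr hz) hee he0
    obtain ⟨G, hG, hinv⟩ := hd.invariant_gram σ hσ
    obtain ⟨G', hG', hherm, hinv'⟩ := exists_hermitian_gram hne hinvol hd.full hG hinv
    exact linearGeometric_of_unitary hn (isUnitaryForm_gf hne hinvol hG' hherm)
      (le_similarity_of_invGram hN hd.full hG' hinv')
  have hnorm : H ≤ Geo.subgroupNormalizer N := fun g hg x =>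
    ⟨fun hx => hN.conj g hg x hx, fun hx => by simpa [mul_assoc] using hN.conj _ (H.inv_mem hg) _ hx⟩
  have hrp : r ≠ p := by
    rintro rfl
    haveI := hmin.2.1
    exact hd.cast_ne (CharP.cast_eq_zero F r)
  refine ⟨_, ?_, hnorm⟩
  iterate 7 right
  refine Or.inl ⟨r, N, ⟨hd.symp, hd.full.actsAbsolutelyIrreducibly, p, e, hrp, hd.card_center.symm ▸ hmin, ?_⟩, rfl⟩
  rcases hd.card_eq with ⟨ho, hz⟩ | ⟨hr, hz | hz⟩
  · exact Or.inl ⟨ho, Nat.not_even_iff_odd.1 hee, hd.card_center.trans hz, k, hd.one_le, by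
      rw [hd.card, hz, ← pow_succ', add_comm]⟩
  · exact absurd hz hz2
  · refine Or.inr (Or.inl ⟨hr, ?_, hd.card_center.trans hz, ?_, k, by rw [hd.card, hz, hr, pow_add]; norm_num⟩)
    · -- four divides `p ^ 2 - 1`
      subst hz
      by_contra he1
      have h2 : 2 < e := lt_of_le_of_ne (by omega) fun h => hee (h ▸ even_two)
      refine hmin.2.2.2.2 2 (by norm_num) h2 ?_
      have hpodd : p % 2 = 1 := by
        rcases hmin.1.eq_two_or_odd with rfl | h
        · exact absurd hr hrp
        · exact h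
      obtain ⟨a, rfl⟩ : ∃ a, p = 2 * a + 1 := ⟨p / 2, by omega⟩
      exact ⟨a * a + a, by
        rw [show (2 * a + 1) ^ 2 = 4 * (a * a + a) + 1 by ring, Nat.add_sub_cancel]⟩
    · have hn' := hd.dim
      rw [Fintype.card_fin, hr] at hn'
      have hk2 : 2 ≤ k := by
        by_contra h
        interval_cases k <;> omega
      have h4 : 2 ^ 2 ≤ 2 ^ k := Nat.pow_le_pow_right (by norm_num) hk2
      simp only [Fintype.card_fin]
      omega

/-- Aschbacher's theorem for the linear groups in dimension at least three. -/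
theorem linear_main (hn : 3 ≤ n) (H : Subgroup (GL (Fin n) F)) :
    LinearGeometric H ∨ Geo.InLinearResidualClass H := by
  classical
  by_cases hg : LinearGeometric H
  · exact Or.inl hg
  refine Or.inr ?_
  haveI : Nonempty (Fin n) := ⟨⟨0, by omega⟩⟩
  have hirr : Irr H := by
    by_contra h
    exact hg (linearGeometric_of_not_irr h)
  have hι : 2 ≤ Fintype.card (Fin n) := by simp; omega
  obtain ⟨N, hN⟩ := exists_minNS (not_le_scalars_of_irr hirr hι)
  have hfull : Full N := (linear_normal_cases hn hg hN.norm.conj).resolve_left hN.nonscalar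
  rcases hN.derived with hder | hperf
  · obtain ⟨r, k, z, hd⟩ := sympData_of_minNS hι hN hfull hder
    exact absurd (linearGeometric_of_sympData hn hN.norm hd) hg
  rcases perfect_cases hι hN hfull hperf with ⟨hsimple, hnab, hcen⟩ | ⟨m, t, e, P, Ms, hw⟩
  swap
  · refine absurd ?_ hg
    rcases Nat.lt_or_ge m 3 with h3 | h3
    · obtain rfl : m = 2 := by have := hw.two_le_m; omega
      obtain ⟨M, hM, hle⟩ := tensorWreath_two_le_class hn e P
      exact ⟨M, hM, hw.le.trans hle⟩
    · refine ⟨_, ?_, hw.le⟩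
      iterate 8 right
      exact Or.inl ⟨m, t, e, P, h3, hw.two_le_t, rfl⟩
  refine ⟨N, ⟨hN.norm.le, hN.norm.conj, hperf, hsimple, hnab, hcen, hfull.actsAbsolutelyIrreducibly,
    fun K hK hR => hg (linearGeometric_of_realisable hN.norm hfull hK hR)⟩, ?_, ?_, ?_⟩
  · rintro ⟨Q, hQ, hfix⟩
    have hpol := fixes_bilinear_le_similarity hN.norm hfull hQ.polar_bilinear hQ.nondegenerate (fixesForm_polar hfix)
    by_cases h2 : (2 : F) = 0
    · exact hg (linearGeometric_of_symplectic hn (isSymplecticForm_polar hQ h2) hpol)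
    · refine hg (linearGeometric_of_quadratic hn hQ h2 fun g hgH => ?_)
      obtain ⟨c, hc⟩ := hpol hgH
      refine ⟨c, fun v => mul_left_cancel₀ h2 ?_⟩
      rw [← polar_eq_two_mul hQ, hc, polar_eq_two_mul hQ]
      ring
  · rintro ⟨f, hf, hfix⟩
    exact hg (linearGeometric_of_symplectic hn hf
      (fixes_bilinear_le_similarity hN.norm hfull hf.bilinear hf.nondegenerate hfix))
  · rintro ⟨σ, f, hf, hfix⟩
    exact hg (linearGeometric_of_unitary hn hf (fixes_unitary_le_similarity hN.norm hfull hf hfix))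

end CfsgLib.Aschbacher
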