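import Cfsg.Agent.Lib.Aschbacher.Gram

/-!
# Tensor powers of matrices
-/

set_option autoImplicit false

namespace CfsgLib.Aschbacher

open Matrix Module Cfsg
open scoped MatrixGroups Kronecker

variable {ι : Type} [Fintype ι] [DecidableEq ι] {F : Type*} [Field F] {m t : ℕ}

/-- The pure tensor of `t` matrices. -/
def pw (As : Fin t → Matrix (Fin m) (Fin m) F) : Matrix (Fin t → Fin m) (Fin t → Fin m) F :=
  Matrix.of fun x y => ∏ i, As i (x i) (y i)

theorem pw_apply (As : Fin t → Matrix (Fin m) (Fin m) F) (x y : Fin t → Fin m) :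
    pw As x y = ∏ i, As i (x i) (y i) := rfl

theorem pw_mul (As Bs : Fin t → Matrix (Fin m) (Fin m) F) : pw As * pw Bs = pw (fun i => As i * Bs i) := by
  ext x z
  simp only [pw_apply, Matrix.mul_apply, ← Finset.prod_mul_distrib, Fintype.prod_sum]

theorem pw_one : pw (fun _ : Fin t => (1 : Matrix (Fin m) (Fin m) F)) = 1 := by
  ext x y
  by_cases h : x = y
  · subst h; simp [pw_apply]
  · obtain ⟨i, hi⟩ := Function.ne_iff.1 h
    rw [Matrix.one_apply_ne h, pw_apply]
    exact Finset.prod_eq_zero (Finset.mem_univ i) (Matrix.one_apply_ne hi)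

theorem pw_smul (c : Fin t → F) (As : Fin t → Matrix (Fin m) (Fin m) F) :
    pw (fun i => c i • As i) = (∏ i, c i) • pw As := by
  ext x y
  simp [pw_apply, Finset.prod_mul_distrib]

theorem pw_transpose (As : Fin t → Matrix (Fin m) (Fin m) F) : (pw As)ᵀ = pw (fun i => (As i)ᵀ) := rfl

theorem isUnit_pw {As : Fin t → Matrix (Fin m) (Fin m) F} (h : ∀ i, IsUnit (As i)) : IsUnit (pw As) := by
  choose u hu using h
  refine ⟨⟨pw As, pw (fun i => ((u i)⁻¹ : (Matrix (Fin m) (Fin m) F)ˣ).val), ?_, ?_⟩, rfl⟩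
  · rw [pw_mul]
    simp [← hu, pw_one]
  · rw [pw_mul]
    simp [← hu, pw_one]

theorem isPureTensor_iff {g : GL (Fin t → Fin m) F} :
    Geo.IsPureTensor m t g ↔ ∃ gs : Fin t → GL (Fin m) F,
      (g : Matrix (Fin t → Fin m) (Fin t → Fin m) F) = pw (fun i => (gs i : Matrix (Fin m) (Fin m) F)) :=
  ⟨fun ⟨gs, h⟩ => ⟨gs, Matrix.ext fun x y => h x y⟩, fun ⟨gs, h⟩ => ⟨gs, fun x y => by rw [h]; rfl⟩⟩

/-- The alternating matrix of size two. -/
def jTwo (F : Type*) [Field F] : Matrix (Fin 2) (Fin 2) F := !![0, 1; -1, 0]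

theorem jTwo_congr (A : Matrix (Fin 2) (Fin 2) F) : Aᵀ * jTwo F * A = A.det • jTwo F := by
  ext i j
  fin_cases i <;> fin_cases j <;>
    simp [jTwo, Matrix.mul_apply, Fin.sum_univ_two, Matrix.det_fin_two] <;> ring

/-- The `t`-th tensor power of the binary alternating form. -/
def jPow (F : Type*) [Field F] (t : ℕ) : Matrix (Fin t → Fin 2) (Fin t → Fin 2) F := pw fun _ => jTwo F

theorem jPow_diag (ht : 0 < t) (x : Fin t → Fin 2) : jPow F t x x = 0 := by
  refine Finset.prod_eq_zero (Finset.mem_univ (⟨0, ht⟩ : Fin t)) ?_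
  show jTwo F (x ⟨0, ht⟩) (x ⟨0, ht⟩) = 0
  generalize x ⟨0, ht⟩ = a
  fin_cases a <;> rfl

theorem jPow_transpose : (jPow F t)ᵀ = ((-1 : F) ^ t) • jPow F t := by
  have h : (fun _ : Fin t => (jTwo F)ᵀ) = fun _ : Fin t => (-1 : F) • jTwo F := by
    funext _
    ext i j
    fin_cases i <;> fin_cases j <;> simp [jTwo]
  rw [jPow, pw_transpose, h, pw_smul, Finset.prod_const, Finset.card_univ, Fintype.card_fin]

theorem isUnit_jPow : IsUnit (jPow F t) := by
  refine isUnit_pw fun _ => (Matrix.isUnit_iff_isUnit_det _).2 ?_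
  simp [jTwo, Matrix.det_fin_two]

theorem tensorWreathStandard_le_similarity :
    Geo.tensorWreathStandard 2 t F ≤ Geo.similarityGroup (gf (RingHom.id F) (jPow F t)) := by
  rw [Geo.tensorWreathStandard, Subgroup.closure_le]
  rintro g (hg | ⟨σ, hσ⟩)
  · obtain ⟨gs, hg⟩ := isPureTensor_iff.1 hg
    refine mem_similarityGroup_gf.2 ⟨∏ i, GeneralLinearGroup.det (gs i), ?_⟩
    have hid : (g : Matrix (Fin t → Fin 2) (Fin t → Fin 2) F).map (RingHom.id F) = g := Matrix.ext fun _ _ => rfl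
    rw [hid, hg, jPow, pw_transpose, pw_mul, pw_mul]
    simp only [jTwo_congr]
    rw [pw_smul, Units.coe_prod]
    rfl
  · refine mem_similarityGroup_gf.2 ⟨1, ?_⟩
    have hid : (g : Matrix (Fin t → Fin 2) (Fin t → Fin 2) F).map (RingHom.id F) = g := Matrix.ext fun _ _ => rfl
    rw [hid, Units.val_one, one_smul]
    ext x y
    simp only [Matrix.mul_apply, Matrix.transpose_apply, hσ]
    rw [Finset.sum_eq_single (y ∘ ⇑σ.symm) (fun b _ hb => ?_) (by simp)]
    · rw [if_pos (by rw [Function.comp_assoc, Equiv.symm_comp_self, Function.comp_id]),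
        Finset.sum_eq_single (x ∘ ⇑σ.symm) (fun b _ hb => ?_) (by simp)]
      · rw [if_pos (by rw [Function.comp_assoc, Equiv.symm_comp_self, Function.comp_id]), one_mul, mul_one]
        simp only [jPow, pw_apply, Function.comp_apply]
        exact Equiv.prod_comp σ.symm (fun i => jTwo F (x i) (y i))
      · rw [if_neg, zero_mul]
        intro h
        exact hb (by rw [h, Function.comp_assoc, Equiv.self_comp_symm, Function.comp_id])
    · rw [if_neg, mul_zero]
      intro h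
      exact hb (by rw [h, Function.comp_assoc, Equiv.self_comp_symm, Function.comp_id])

/-- The Gram matrix of the transported tensor power form. -/
def jGram (e : ι ≃ (Fin t → Fin 2)) (P : GL ι F) : Matrix ι ι F :=
  ((P⁻¹ : GL ι F) : Matrix ι ι F)ᵀ * (jPow F t).submatrix e e * ((P⁻¹ : GL ι F) : Matrix ι ι F)

theorem tensorWreath_two_le_similarity (e : ι ≃ (Fin t → Fin 2)) (P : GL ι F) :
    Geo.tensorWreathSubgroup 2 t e P ≤ Geo.similarityGroup (gf (RingHom.id F) (jGram e P)) := by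
  rintro _ ⟨_, ⟨g, hg, rfl⟩, rfl⟩
  have hid : ((P⁻¹ : GL ι F) : Matrix ι ι F).map (RingHom.id F) = ((P⁻¹ : GL ι F) : Matrix ι ι F) :=
    Matrix.ext fun _ _ => rfl
  have := mem_similarityGroup_transport e P (tensorWreathStandard_le_similarity hg)
  rw [hid] at this
  exact this

theorem isUnit_jGram (e : ι ≃ (Fin t → Fin 2)) (P : GL ι F) : IsUnit (jGram e P) :=
  ((((Matrix.isUnit_transpose _).2 P⁻¹.isUnit).mul ((Matrix.isUnit_submatrix_equiv e e).2 isUnit_jPow)).mul
    P⁻¹.isUnit)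

theorem jGram_transpose (e : ι ≃ (Fin t → Fin 2)) (P : GL ι F) :
    (jGram e P)ᵀ = ((-1 : F) ^ t) • jGram e P := by
  simp [jGram, Matrix.transpose_mul, Matrix.transpose_submatrix, jPow_transpose, Matrix.submatrix_smul,
    Matrix.mul_assoc]

theorem jGram_diag (ht : 0 < t) (hneg : (-1 : F) ^ t = -1) (e : ι ≃ (Fin t → Fin 2)) (P : GL ι F) (i : ι) :
    jGram e P i i = 0 := by
  have h1 : gf (RingHom.id F) ((jPow F t).submatrix e e) ((↑P⁻¹ : Matrix ι ι F) *ᵥ Pi.single i 1)
      ((↑P⁻¹ : Matrix ι ι F) *ᵥ Pi.single i 1) = 0 :=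
    gf_self_eq_zero (fun j => jPow_diag ht (e j))
      (by rw [Matrix.transpose_submatrix, jPow_transpose, hneg, neg_one_smul, Matrix.submatrix_neg]; rfl) _
  rw [gf_mulVec, gf_single] at h1
  exact h1

/-- A tensor power of two-dimensional spaces lies in a class 8 group. -/
theorem tensorWreath_two_le_class {n : ℕ} [Fintype F] (hn : 3 ≤ n) (e : Fin n ≃ (Fin t → Fin 2)) (P : GL (Fin n) F) :
    ∃ M, Geo.InLinearClass n F M ∧ Geo.tensorWreathSubgroup 2 t e P ≤ M := by
  have hcard : n = 2 ^ t := by simpa using Fintype.card_congr e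
  have ht : 2 ≤ t := by
    by_contra h
    interval_cases t <;> omega
  by_cases hneg : (-1 : F) ^ t = -1
  · refine ⟨_, ?_, tensorWreath_two_le_similarity e P⟩
    iterate 9 right
    left
    refine ⟨_, isSymplecticForm_gf (isUnit_jGram e P) (jGram_diag (by omega) hneg e P) ?_, ?_, ?_, rfl⟩
    · rw [jGram_transpose, hneg, neg_one_smul]
    · rw [hcard]; exact Nat.even_pow.2 ⟨even_two, by omega⟩
    · rw [hcard]; calc 4 = 2 ^ 2 := rfl
        _ ≤ 2 ^ t := Nat.pow_le_pow_right (by norm_num) ht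
  · have hpos : (-1 : F) ^ t = 1 := (neg_one_pow_eq_or F t).resolve_right hneg
    have h2 : (2 : F) ≠ 0 := fun h => hneg (by rw [hpos]; linear_combination h)
    refine ⟨Geo.quadSimilarityGroup (fun v => gf (RingHom.id F) (jGram e P) v v), ?_,
      fun g hg => mem_quadSimilarityGroup_gf (tensorWreath_two_le_similarity e P hg)⟩
    iterate 11 right
    refine ⟨_, isNondegenerateQuadraticForm_gf (isUnit_jGram e P) (by rw [jGram_transpose, hpos, one_smul]) h2, ?_, hn, rfl⟩
    refine Nat.odd_iff.2 (FiniteField.odd_card_of_char_ne_two fun h => h2 ?_)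
    exact (ringChar.spec F 2).2 (h ▸ dvd_rfl)

/-- A tensor product with equal factors sits in a tensor-wreath group. -/
theorem tensorProduct_le_wreath {a : ℕ} (e : ι ≃ Fin a × Fin a) (P : GL ι F) :
    Geo.tensorProductSubgroup a a e P ≤
      Geo.tensorWreathSubgroup a 2 (e.trans (finTwoArrowEquiv (Fin a)).symm) P := by
  rintro _ ⟨_, ⟨g, ⟨A, B, hg⟩, rfl⟩, rfl⟩
  refine ⟨_, ⟨Geo.glReindex (F := F) (finTwoArrowEquiv (Fin a)).symm g, Subgroup.subset_closure (Or.inl ?_), ?_⟩, rfl⟩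
  · refine ⟨![A, B], fun x y => ?_⟩
    show (g : Matrix _ _ F) (x 0, x 1) (y 0, y 1) = _
    rw [hg, Fin.prod_univ_two]
    rfl
  · refine Units.ext ?_
    ext i j
    show (g : Matrix _ _ F) ((finTwoArrowEquiv (Fin a)) ((finTwoArrowEquiv (Fin a)).symm (e i)))
        ((finTwoArrowEquiv (Fin a)) ((finTwoArrowEquiv (Fin a)).symm (e j))) = (g : Matrix _ _ F) (e i) (e j)
    rw [Equiv.apply_symm_apply, Equiv.apply_symm_apply]

/-- The two factors of a tensor product may be interchanged. -/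
theorem tensorProduct_le_swap {a b : ℕ} (e : ι ≃ Fin a × Fin b) (P : GL ι F) :
    Geo.tensorProductSubgroup a b e P ≤ Geo.tensorProductSubgroup b a (e.trans (Equiv.prodComm _ _)) P := by
  rintro _ ⟨_, ⟨g, ⟨A, B, hg⟩, rfl⟩, rfl⟩
  refine ⟨_, ⟨Geo.glReindex (F := F) (Equiv.prodComm (Fin a) (Fin b)) g, ⟨B, A, ?_⟩, ?_⟩, rfl⟩
  · ext ⟨i, j⟩ ⟨k, l⟩
    show (g : Matrix _ _ F) (j, i) (l, k) = _
    rw [hg]
    exact mul_comm _ _
  · exact Units.ext (Matrix.ext fun i j => rfl)

end CfsgLib.Aschbacher
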