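import Cfsg.Agent.Lib.Aschbacher.Simple
import Cfsg.Agent.Lib.Aschbacher.TensorPower

/-!
# Linear case: normal subgroups of a group outside the first classes
-/

set_option autoImplicit false

namespace CfsgLib.Aschbacher

open Matrix Module Cfsg
open scoped MatrixGroups

variable {F : Type*} [Field F] [Fintype F] {n : ℕ}

/-- `H` lies in a member of the geometric classes of the linear group. -/
def LinearGeometric (H : Subgroup (GL (Fin n) F)) : Prop := ∃ M, Geo.InLinearClass n F M ∧ H ≤ M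

theorem linearGeometric_of_not_irr {H : Subgroup (GL (Fin n) F)} (h : ¬ Irr H) : LinearGeometric H := by
  obtain ⟨W, h1, h2, -, hW⟩ := exists_invariant_of_not_irr h
  exact ⟨_, Or.inl ⟨W, h1, h2, rfl⟩, hW⟩

theorem linearGeometric_of_field {H : Subgroup (GL (Fin n) F)} [NeZero n] {C : Subalgebra F (Matrix (Fin n) (Fin n) F)}
    (hC : InvBy H C) {c : ℕ} (hc : 1 < c) (hf : Geo.IsFieldSubalgebra c C) : LinearGeometric H := by
  obtain ⟨K, -, hK, -, hinv⟩ := exists_subfield_degree hf (Nat.minFac_dvd c)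
  refine ⟨_, ?_, mem_subalgebraNormalizer (K := K) fun h hh X hX => hinv h (hC h hh) X hX⟩
  iterate 4 right
  exact Or.inl ⟨c.minFac, K, Nat.minFac_prime (by omega), hK, rfl⟩

theorem linearGeometric_of_tensor {H : Subgroup (GL (Fin n) F)} (hn : 3 ≤ n) {a b : ℕ} (ha : 2 ≤ a) (hb : 2 ≤ b)
    (e : Fin n ≃ Fin a × Fin b) (P : GL (Fin n) F) (hH : H ≤ Geo.tensorProductSubgroup a b e P) :
    LinearGeometric H := by
  rcases Nat.lt_trichotomy a b with h | h | h
  · refine ⟨_, ?_, hH⟩
    iterate 5 right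
    exact Or.inl ⟨a, b, e, P, ha, h, rfl⟩
  · subst h
    have hw := hH.trans (tensorProduct_le_wreath e P)
    rcases Nat.lt_or_ge a 3 with h3 | h3
    · obtain rfl : a = 2 := by omega
      obtain ⟨M, hM, hle⟩ := tensorWreath_two_le_class hn (e.trans (finTwoArrowEquiv (Fin 2)).symm) P
      exact ⟨M, hM, hw.trans hle⟩
    · refine ⟨_, ?_, hw⟩
      iterate 8 right
      exact Or.inl ⟨a, 2, _, P, h3, le_rfl, rfl⟩
  · refine ⟨_, ?_, hH.trans (tensorProduct_le_swap e P)⟩
    iterate 5 right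
    exact Or.inl ⟨b, a, _, P, hb, h, rfl⟩

/-- Outside the geometric classes a normal subgroup is scalar or spans the matrix algebra. -/
theorem linear_normal_cases {H : Subgroup (GL (Fin n) F)} (hn : 3 ≤ n) (hg : ¬ LinearGeometric H)
    {N : Subgroup (GL (Fin n) F)} (hN : ∀ h ∈ H, ∀ x ∈ N, h * x * h⁻¹ ∈ N) :
    N ≤ Geo.scalars (Fin n) F ∨ Full N := by
  haveI : NeZero n := ⟨by omega⟩
  have hirr : Irr H := by
    by_contra h
    exact hg (linearGeometric_of_not_irr h)
  have hA := invBy_alg hN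
  rcases alg_cases hirr hA with ⟨t, e, he⟩ | ⟨c, hc, hf⟩ | hbot | htop | ⟨a, b, e, P, ha, hb, hle, -⟩
  · refine absurd ⟨_, ?_, he.family.le_decompositionStabilizer⟩ hg
    iterate 3 right
    exact Or.inl ⟨t, _, _, he.family.isMDecomposition ⟨0, by have := he.two_le; omega⟩, rfl⟩
  · exact absurd (linearGeometric_of_field (invBy_centre hA) hc hf) hg
  · refine Or.inl fun x hx => ?_
    obtain ⟨c, hc⟩ := eq_smul_one_of_mem_bot (hbot ▸ coe_mem_alg hx)
    have hc0 : c ≠ 0 := fun h0 => x.ne_zero (by rw [hc, h0, zero_smul])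
    exact (Geo.mem_scalars_iff x).2 ⟨Units.mk0 c hc0, hc⟩
  · exact Or.inr htop
  · exact absurd (linearGeometric_of_tensor hn ha hb e P hle) hg

end CfsgLib.Aschbacher
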