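import Cfsg.Agent.Lib.Aschbacher.UnitarySetup
import Cfsg.Agent.Lib.Aschbacher.Simple

/-!
# Unitary case: reducible, imprimitive and extension field subgroups
-/

set_option autoImplicit false

namespace CfsgLib.Aschbacher

open Matrix Module Cfsg
open scoped MatrixGroups

variable {F : Type*} [Field F] [Fintype F] {q n : ℕ} {σ : F ≃+* F}

/-- `H` lies in a member of the geometric classes of the unitary group. -/
def UnitaryGeometric (q : ℕ) (H : Subgroup (GL (Fin n) F)) : Prop :=
  ∃ M, Geo.InUnitaryClass n F q M ∧ H ≤ M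

theorem unitaryGeometric_of_not_irr (hσ : QAut q σ) {H : Subgroup (GL (Fin n) F)} (hH : H ≤ GU n F q)
    (h : ¬ Irr H) : UnitaryGeometric q H := by
  classical
  obtain ⟨W, hW0, hWt, hinv, -⟩ := exists_invariant_of_not_irr h
  have hiso : H ≤ isoGroup σ := gu_eq_isoGroup hσ ▸ hH
  have hperp := perp_invariant hiso hinv
  have hstab : ∀ U : Submodule F (Fin n → F),
      (∀ a ∈ H, ∀ v ∈ U, (a : Matrix (Fin n) (Fin n) F) *ᵥ v ∈ U) → H ≤ Geo.subspaceStabilizer U ⊓ GU n F q :=
    fun U hU a ha => ⟨mem_subspaceStabilizer (hU a ha) (hU _ (H.inv_mem ha)), hH ha⟩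
  by_cases hR : W ⊓ perp σ W = ⊥
  swap
  · refine ⟨_, Or.inl (Or.inl ⟨W ⊓ perp σ W, hR, ?_, rfl⟩), hstab _ fun a ha v hv => ⟨hinv a ha v hv.1, hperp a ha v hv.2⟩⟩
    intro u hu v hv
    rw [hermForm_eq_gf hσ]
    exact hv.2 u hu.1
  have hc := isCompl_perp hR
  have hR' := gf_perp_perp_bot hσ hc
  have hP0 : perp σ W ≠ ⊥ := fun h0 => hWt (by
    have := hc.sup_eq_top
    rwa [h0, sup_bot_eq] at this)
  have hdim : finrank F W + finrank F (perp σ W) = n := by
    rw [Submodule.finrank_add_eq_of_isCompl hc, Module.finrank_fin_fun]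
  rcases Nat.lt_trichotomy (2 * finrank F W) n with h1 | h1 | h1
  · exact ⟨_, Or.inl (Or.inr (Or.inl ⟨W, hW0, nondegenerateOn_of_bot hσ hR, h1, rfl⟩)), hstab W hinv⟩
  · let D : Fin 2 → Submodule F (Fin n → F) := ![W, perp σ W]
    have hWpos : 0 < finrank F W := Nat.pos_of_ne_zero fun h0 => hW0 (Submodule.finrank_eq_zero.1 h0)
    refine ⟨_, Or.inl (Or.inr (Or.inr (Or.inl ⟨2, finrank F W, D, ⟨⟨le_rfl, hWpos, ?_, ?_, ?_⟩, ?_, ?_⟩, rfl⟩))),
      fun a ha => ⟨⟨1, fun i => ?_⟩, hH ha⟩⟩
    · intro i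
      fin_cases i
      · rfl
      · show finrank F (perp σ W) = _; omega
    · intro i
      fin_cases i
      · refine (hc.disjoint).mono_right (iSup₂_le fun j hj => ?_)
        fin_cases j
        · exact absurd rfl hj
        · exact le_rfl
      · refine (hc.disjoint.symm).mono_right (iSup₂_le fun j hj => ?_)
        fin_cases j
        · exact le_rfl
        · exact absurd rfl hj
    · exact top_le_iff.1 (hc.sup_eq_top ▸ sup_le (le_iSup D 0) (le_iSup D 1))
    · intro i
      fin_cases i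
      · exact nondegenerateOn_of_bot hσ hR
      · exact nondegenerateOn_of_bot hσ hR'
    · intro i j hij u hu v hv
      rw [hermForm_eq_gf hσ]
      fin_cases i <;> fin_cases j
      · exact absurd rfl hij
      · exact hv u hu
      · exact gf_one_flip hσ (hu v hv)
      · exact absurd rfl hij
    · have hmap : ∀ U : Submodule F (Fin n → F), (∀ b ∈ H, ∀ v ∈ U, (b : Matrix (Fin n) (Fin n) F) *ᵥ v ∈ U) →
          U.map (Matrix.toLin' (a : Matrix (Fin n) (Fin n) F)) = U := fun U hU => by
        refine le_antisymm ?_ fun v hv => ⟨_, hU _ (H.inv_mem ha) v hv, ?_⟩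
        · rintro _ ⟨v, hv, rfl⟩
          rw [Matrix.toLin'_apply]
          exact hU a ha v hv
        · rw [Matrix.toLin'_apply, Matrix.mulVec_mulVec, Units.mul_inv, Matrix.one_mulVec]
      fin_cases i
      · exact hmap W hinv
      · exact hmap _ hperp
  · refine ⟨_, Or.inl (Or.inr (Or.inl ⟨perp σ W, hP0, nondegenerateOn_of_bot hσ hR', by omega, rfl⟩)),
      hstab _ hperp⟩

theorem space_orthogonal (hσ : QAut q σ) {t : ℕ} {e : Fin t → Matrix (Fin n) (Fin n) F}
    (hmul : ∀ i j, e i * e j = if i = j then e i else 0) {i j : Fin t} (k : Fin t) (hk : sadj σ (e i) = e k)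
    (hkj : k ≠ j) {u v : Fin n → F} (hu : u ∈ IdemFamily.space e i) (hv : v ∈ IdemFamily.space e j) :
    hermForm n F q u v = 0 := by
  obtain ⟨u', rfl⟩ := hu
  obtain ⟨v', rfl⟩ := hv
  rw [hermForm_eq_gf hσ, Matrix.toLin'_apply, Matrix.toLin'_apply, gf_one_adjoint hσ, hk, Matrix.mulVec_mulVec,
    hmul, if_neg hkj, Matrix.zero_mulVec]
  simp [gf]

/-- Orthogonal self-adjoint idempotents give a non-degenerate decomposition. -/
theorem unitaryGeometric_of_selfAdjoint (hσ : QAut q σ) {H : Subgroup (GL (Fin n) F)} (hH : H ≤ GU n F q)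
    {t : ℕ} {e : Fin t → Matrix (Fin n) (Fin n) F} (he : IdemFamily H t e) (hs : ∀ i, sadj σ (e i) = e i) :
    UnitaryGeometric q H := by
  classical
  have h0 : Fin t := ⟨0, by have := he.two_le; omega⟩
  refine ⟨_, Or.inl (Or.inr (Or.inr (Or.inl ⟨t, _, _, ⟨he.isMDecomposition h0, fun i => ?_, fun i j hij u hu v hv => ?_⟩, rfl⟩))),
    le_inf he.le_decompositionStabilizer hH⟩
  · refine nondegenerateOn_of_bot hσ ((Submodule.eq_bot_iff _).2 ?_)
    rintro v ⟨hv, hv'⟩
    by_contra hv0
    obtain ⟨⟨x, hx⟩, -⟩ := gf_nondegenerate (σ := σ.toRingHom) (G := (1 : Matrix (Fin n) (Fin n) F)) isUnit_one v hv0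
    apply hx
    have hvi := (he.mem_space).1 hv
    rw [← hvi, show gf σ.toRingHom 1 x (e i *ᵥ v) = gf σ.toRingHom 1 (e i *ᵥ x) v by rw [gf_one_adjoint hσ, hs]]
    exact hv' _ ⟨x, Matrix.toLin'_apply _ _⟩
  · exact space_orthogonal hσ he.mul i (hs i) hij hu hv

/-- An adjoint-closed system of idempotents gives a class 2 member. -/
theorem unitaryGeometric_of_idemSystem (hσ : QAut q σ) {H : Subgroup (GL (Fin n) F)} (hH : H ≤ GU n F q)
    {C : Subalgebra F (Matrix (Fin n) (Fin n) F)} (hC : ∀ X ∈ C, sadj σ X ∈ C) {t : ℕ}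
    {e : Fin t → Matrix (Fin n) (Fin n) F} (he : IdemSystem H C t e)
    (hcomm : ∀ X ∈ C, ∀ Y ∈ C, X * Y = Y * X) : UnitaryGeometric q H := by
  classical
  have hiso : H ≤ isoGroup σ := gu_eq_isoGroup hσ ▸ hH
  have hex : ∀ i, ∃ j, e j = sadj σ (e i) := fun i => by
    refine he.complete _ (hC _ (he.mem i)) (by rw [← sadj_mul, he.mul, if_pos rfl])
      (fun h => he.ne_zero i (by rw [← sadj_sadj hσ (e i), h, sadj_zero])) fun f hf hff => ?_
    rcases he.atom i (sadj σ f) (hC f hf) (by rw [← sadj_mul, hff]) with h | h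
    · refine Or.inl ?_
      have h' := congrArg (sadj σ) h
      rwa [sadj_mul, sadj_sadj hσ, hcomm f hf _ (hC _ (he.mem i))] at h'
    · refine Or.inr ?_
      have h' := congrArg (sadj σ) h
      rwa [sadj_mul, sadj_sadj hσ, sadj_zero, hcomm f hf _ (hC _ (he.mem i))] at h'
  choose π hπ using hex
  have hπ2 : ∀ i, π (π i) = i := fun i => he.inj (by rw [hπ, hπ, sadj_sadj hσ])
  by_cases hfix : ∀ i, π i = i
  · exact unitaryGeometric_of_selfAdjoint hσ hH he.family fun i => by rw [← hπ, hfix]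
  push Not at hfix
  obtain ⟨i0, hi0⟩ := hfix
  have hnofix : ∀ i, π i ≠ i := by
    intro i hi
    obtain ⟨a, ha, hai⟩ := he.trans i i0
    refine hi0 (he.inj ?_)
    rw [hπ, ← hai, sadj_cj hσ (hiso ha), ← hπ, hi]
  by_cases ht : t = 2
  · subst ht
    have h0 := he.family.isMDecomposition (0 : Fin 2)
    refine ⟨_, Or.inl (Or.inr (Or.inr (Or.inr (Or.inl ⟨_, _, ?_, h0, fun i u hu v hv => ?_, rfl⟩)))),
      le_inf he.family.le_decompositionStabilizer hH⟩
    · have hc : IsCompl (IdemFamily.space e (0 : Fin 2)) (IdemFamily.space e (1 : Fin 2)) := by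
        refine ⟨(h0.indep 0).mono_right (le_iSup₂_of_le 1 (by decide) le_rfl), codisjoint_iff.2 ?_⟩
        rw [eq_top_iff, ← h0.iSup_eq_top]
        refine iSup_le fun i => ?_
        fin_cases i
        · exact le_sup_left
        · exact le_sup_right
      have h2 := Submodule.finrank_add_eq_of_isCompl hc
      rw [Module.finrank_fin_fun, h0.finrank_eq 1] at h2
      omega
    · exact space_orthogonal hσ he.mul (π i) (hπ i).symm (hnofix i) hu hv
  -- pairs
  let E : Fin t → Matrix (Fin n) (Fin n) F := fun i => e i + e (π i)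
  have hEmul : ∀ i j, E i * E j = if j = i ∨ j = π i then E i else 0 := by
    intro i j
    simp only [E, add_mul, mul_add, he.mul]
    by_cases h1 : j = i
    · subst h1
      simp [hnofix j, Ne.symm (hnofix j)]
    by_cases h2 : j = π i
    · subst h2
      simp [hπ2, hnofix i, Ne.symm (hnofix i), add_comm]
    have h3 : π j ≠ i := fun h => h2 (by rw [← h, hπ2])
    have h4 : π j ≠ π i := fun h => h1 (by rw [← hπ2 j, h, hπ2])
    simp [Ne.symm h1, Ne.symm h2, Ne.symm h3, Ne.symm h4, h1, h2]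
  have hEπ : ∀ i, E (π i) = E i := fun i => by simp [E, hπ2, add_comm]
  have hEcases : ∀ i j, E i = E j ↔ j = i ∨ j = π i := by
    refine fun i j => ⟨fun h => ?_, ?_⟩
    · by_contra hcon
      have h2 := hEmul i j
      rw [if_neg hcon, ← h, hEmul i i, if_pos (Or.inl rfl)] at h2
      refine he.ne_zero i ?_
      have h3 := congrArg (e i * ·) h2
      simp only [E, mul_add, he.mul, mul_zero] at h3
      simpa [Ne.symm (hnofix i)] using h3
    · rintro (rfl | rfl)
      · rfl
      · rw [hEπ]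
  let S : Finset (Matrix (Fin n) (Fin n) F) := Finset.univ.image E
  obtain ⟨t', ⟨en⟩⟩ : ∃ t', Nonempty (Fin t' ≃ S) := ⟨_, ⟨S.equivFin.symm⟩⟩
  let e' : Fin t' → Matrix (Fin n) (Fin n) F := fun k => (en k).1
  have hrep : ∀ k, ∃ i, E i = e' k := fun k => by
    obtain ⟨i, -, hi⟩ := Finset.mem_image.1 (en k).2
    exact ⟨i, hi⟩
  have hidx : ∀ i, ∃ k, e' k = E i := fun i =>
    ⟨en.symm ⟨E i, Finset.mem_image.2 ⟨i, Finset.mem_univ _, rfl⟩⟩, by simp [e']⟩
  have hinj' : Function.Injective e' := Subtype.val_injective.comp en.injective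
  have hcjE : ∀ a ∈ H, ∀ i j, cj a (e i) = e j → cj a (E i) = E j := fun a ha i j hij => by
    simp only [E, map_add, hij]
    rw [hπ, ← sadj_cj hσ (hiso ha), hij, ← hπ]
  have hfam : IdemFamily H t' e' := by
    refine ⟨?_, fun k => ?_, fun k l => ?_, ?_, fun a ha => ?_, fun k l => ?_⟩
    · obtain ⟨i1, hi1, hi1'⟩ : ∃ i, i ≠ i0 ∧ i ≠ π i0 := by
        by_contra! hcon
        have : (Finset.univ : Finset (Fin t)) ⊆ {i0, π i0} := fun i _ => by
          by_cases h : i = i0
          · simp [h]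
          · simp [hcon i h]
        have h1 := Finset.card_le_card this
        rw [Finset.card_univ, Fintype.card_fin] at h1
        have := Finset.card_le_two (a := i0) (b := π i0)
        have := he.two_le
        omega
      obtain ⟨k, hk⟩ := hidx i0
      obtain ⟨l, hl⟩ := hidx i1
      have hne : k ≠ l := fun h => by
        rcases (hEcases i0 i1).1 (by rw [← hk, ← hl, h]) with h | h
        exacts [hi1 h, hi1' h]
      by_contra hcon
      haveI : Subsingleton (Fin t') := Fin.subsingleton_iff_le_one.2 (by omega)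
      exact hne (Subsingleton.elim _ _)
    · obtain ⟨i, hi⟩ := hrep k
      rw [← hi]
      intro h0
      have h3 := congrArg (e i * ·) h0
      simp only [E, mul_add, he.mul, mul_zero] at h3
      exact he.ne_zero i (by simpa [Ne.symm (hnofix i)] using h3)
    · obtain ⟨i, hi⟩ := hrep k
      obtain ⟨j, hj⟩ := hrep l
      rw [← hi, ← hj, hEmul]
      by_cases hkl : k = l
      · subst hkl; rw [if_pos rfl, if_pos ((hEcases i j).1 (by rw [hi, hj]))]
      · rw [if_neg hkl, if_neg fun h => hkl (hinj' (by rw [← hi, ← hj]; exact (hEcases i j).2 h))]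
    · have hsum : ∑ k, e' k = ∑ X ∈ S, X := by
        rw [← Finset.sum_coe_sort S (fun X => X), ← Equiv.sum_comp en]
      obtain ⟨hR1, hR2⟩ : (∀ i, e i * ∑ X ∈ S, X = e i) ∧ True := ⟨fun i => by
        rw [Finset.mul_sum, Finset.sum_eq_single (E i) (fun X hX hne => ?_)
          (fun h => absurd (Finset.mem_image.2 ⟨i, Finset.mem_univ _, rfl⟩) h)]
        · simp only [E, mul_add, he.mul]
          simp [Ne.symm (hnofix i)]
        · obtain ⟨j, -, rfl⟩ := Finset.mem_image.1 hX
          simp only [E, mul_add, he.mul]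
          have h1 : i ≠ j := fun h => hne (by rw [h])
          have h2 : i ≠ π j := fun h => hne (by rw [h, hEπ])
          simp [h1, h2], trivial⟩
      rw [hsum]
      calc (∑ X ∈ S, X) = (∑ i, e i) * ∑ X ∈ S, X := by rw [he.sum, one_mul]
        _ = ∑ i, e i := by rw [Finset.sum_mul]; exact Finset.sum_congr rfl fun i _ => hR1 i
        _ = 1 := he.sum
    · obtain ⟨τ, hτ⟩ := he.perm a ha
      have himg : ∀ k, ∃ l, e' l = cj a (e' k) := fun k => by
        obtain ⟨i, hi⟩ := hrep k
        obtain ⟨l, hl⟩ := hidx (τ i)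
        exact ⟨l, by rw [hl, ← hi, hcjE a ha i (τ i) (hτ i)]⟩
      choose f hf using himg
      have hfinj : Function.Injective f := fun k l h => hinj' ((cj a).injective (by rw [← hf, ← hf, h]))
      exact ⟨Equiv.ofBijective f (Finite.injective_iff_bijective.1 hfinj), fun k => (hf k).symm⟩
    · obtain ⟨i, hi⟩ := hrep k
      obtain ⟨j, hj⟩ := hrep l
      obtain ⟨a, ha, haij⟩ := he.trans i j
      exact ⟨a, ha, by rw [← hi, ← hj, hcjE a ha i j haij]⟩
  refine unitaryGeometric_of_selfAdjoint hσ hH hfam fun k => ?_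
  obtain ⟨i, hi⟩ := hrep k
  rw [← hi]
  simp only [E, sadj_add, ← hπ, hπ2]
  exact add_comm _ _

/-- A field algebra closed under adjoints gives a class 3 member of odd prime degree. -/
theorem unitaryGeometric_of_field (hσ : QAut q σ) [NeZero n] {H : Subgroup (GL (Fin n) F)} (hH : H ≤ GU n F q)
    {C : Subalgebra F (Matrix (Fin n) (Fin n) F)} (hinv : InvBy H C) (hC : ∀ X ∈ C, sadj σ X ∈ C) {c : ℕ}
    (hc : 1 < c) (hf : Geo.IsFieldSubalgebra c C) : UnitaryGeometric q H := by
  classical
  obtain ⟨K, -, hK, hKmem, hKinv⟩ := exists_subfield_degree hf (Nat.minFac_dvd c)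
  have hKs : ∀ X ∈ K, sadj σ X ∈ K := fun X hX => by
    obtain ⟨h1, h2⟩ := (hKmem X).1 hX
    exact (hKmem _).2 ⟨hC X h1, by rw [← sadj_pow, h2]⟩
  have hr := Nat.minFac_prime (show c ≠ 1 by omega)
  rcases hr.eq_two_or_odd' with h2 | hodd
  · exfalso
    rw [h2] at hK
    -- the fixed ring of the adjoint would be the scalars
    let S : Subring (Matrix (Fin n) (Fin n) F) :=
      { carrier := {X | X ∈ K ∧ sadj σ X = X}
        one_mem' := ⟨K.one_mem, sadj_one σ⟩
        mul_mem' := fun {a b} ha hb => ⟨K.mul_mem ha.1 hb.1, by rw [sadj_mul, ha.2, hb.2, hK.comm _ hb.1 _ ha.1]⟩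
        add_mem' := fun {a b} ha hb => ⟨K.add_mem ha.1 hb.1, by rw [sadj_add, ha.2, hb.2]⟩
        zero_mem' := ⟨K.zero_mem, sadj_zero σ⟩
        neg_mem' := fun {a} ha => ⟨K.neg_mem ha.1, by
          rw [show -a = (-1 : F) • a from (neg_one_smul F a).symm, sadj_smul, map_neg, map_one, ha.2]⟩ }
    have hcardK : Nat.card K = (q ^ 2) ^ 2 := by
      rw [Module.natCard_eq_pow_finrank (K := F) (V := K), Nat.card_eq_fintype_card, hσ.card, hK.finrank_eq]
    obtain ⟨a, ha⟩ := hσ.exists_ne
    have hne : a - σ a ≠ 0 := sub_ne_zero.2 (Ne.symm ha)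
    let φ : K → S × S := fun X =>
      (⟨X.1 + sadj σ X.1, K.add_mem X.2 (hKs _ X.2), by rw [sadj_add, sadj_sadj hσ, add_comm]⟩,
       ⟨a • X.1 + σ a • sadj σ X.1, K.add_mem (K.smul_mem X.2 _) (K.smul_mem (hKs _ X.2) _),
        by rw [sadj_add, sadj_smul, sadj_smul, sadj_sadj hσ, hσ.invol, add_comm]⟩)
    have hφ : Function.Bijective φ := by
      constructor
      · intro X Y h
        have h1 : X.1 + sadj σ X.1 = Y.1 + sadj σ Y.1 := congrArg (fun p : S × S => (p.1 : Matrix (Fin n) (Fin n) F)) h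
        have h2 : a • X.1 + σ a • sadj σ X.1 = a • Y.1 + σ a • sadj σ Y.1 :=
          congrArg (fun p : S × S => (p.2 : Matrix (Fin n) (Fin n) F)) h
        refine Subtype.ext ?_
        have h3 : (a - σ a) • X.1 = (a - σ a) • Y.1 := by
          calc (a - σ a) • X.1 = (a • X.1 + σ a • sadj σ X.1) - σ a • (X.1 + sadj σ X.1) := by module
            _ = (a • Y.1 + σ a • sadj σ Y.1) - σ a • (Y.1 + sadj σ Y.1) := by rw [h2, h1]
            _ = _ := by module
        exact smul_right_injective _ hne h3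
      · rintro ⟨⟨s, hs, hs'⟩, ⟨u, hu, hu'⟩⟩
        have hX : (a - σ a)⁻¹ • (u - σ a • s) ∈ K := K.smul_mem (K.sub_mem hu (K.smul_mem hs _)) _
        have hadj : sadj σ ((a - σ a)⁻¹ • (u - σ a • s)) = (σ a - a)⁻¹ • (u - a • s) := by
          rw [sadj_smul, map_inv₀, map_sub, hσ.invol,
            show u - σ a • s = u + (-σ a) • s by module, sadj_add, sadj_smul, map_neg, hσ.invol, hs', hu']
          module
        have hne' : σ a - a ≠ 0 := sub_ne_zero.2 ha
        refine ⟨⟨_, hX⟩, Prod.ext (Subtype.ext ?_) (Subtype.ext ?_)⟩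
        · show (a - σ a)⁻¹ • (u - σ a • s) + sadj σ _ = s
          rw [hadj]
          match_scalars <;> field_simp <;> ring
        · show a • ((a - σ a)⁻¹ • (u - σ a • s)) + σ a • sadj σ _ = u
          rw [hadj]
          match_scalars <;> field_simp <;> ring
    have hcardS : Nat.card S = q ^ 2 := by
      have h1 := Nat.card_eq_of_bijective φ hφ
      rw [hcardK, Nat.card_prod, ← pow_two] at h1
      exact (Nat.pow_left_injective two_ne_zero h1).symm
    have hscal : ∀ X ∈ S, ∃ d : F, X = d • (1 : Matrix (Fin n) (Fin n) F) := by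
      obtain ⟨K1, -, hK1, hK1mem, -⟩ := exists_subfield_degree hK (one_dvd 2)
      intro X hX
      haveI : NoZeroDivisors S := ⟨fun {x y} hxy => by
        by_contra! hne2
        obtain ⟨z, -, hz⟩ := hK.inv _ y.2.1 fun h => hne2.2 (Subtype.ext h)
        apply hne2.1
        refine Subtype.ext ?_
        have h1 : (x : Matrix (Fin n) (Fin n) F) * y = 0 := congrArg Subtype.val hxy
        have h2 := congrArg (· * z) h1
        simpa [mul_assoc, hz] using h2⟩
      haveI : Nontrivial S := ⟨0, 1, fun h => zero_ne_one (congrArg Subtype.val h)⟩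
      haveI : IsDomain S := NoZeroDivisors.to_isDomain S
      haveI : Fintype S := Fintype.ofFinite S
      let iC : CommRing S := { (inferInstance : Ring S) with mul_comm := fun x y => Subtype.ext (hK.comm _ x.2.1 _ y.2.1) }
      letI : Field S := (Finite.isDomain_to_isField S).toField
      have h1 : (⟨X, hX⟩ : S) ^ (q ^ 2) = ⟨X, hX⟩ := by
        rw [← hcardS, Nat.card_eq_fintype_card]
        exact FiniteField.pow_card _
      have h2 : X ^ (Fintype.card F ^ 1) = X := by
        rw [pow_one, hσ.card]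
        simpa using congrArg Subtype.val h1
      have h3 : X ∈ K1 := (hK1mem X).2 ⟨hX.1, h2⟩
      rw [Subalgebra.eq_bot_of_finrank_one hK1.finrank_eq] at h3
      exact eq_smul_one_of_mem_bot h3
    have hbig : Nat.card S ≤ q := by
      haveI : Nontrivial (Matrix (Fin n) (Fin n) F) := inferInstance
      choose d hd using fun X : S => hscal X.1 X.2
      have hfix : ∀ X, σ (d X) = d X := fun X => by
        have h1 := X.2.2
        rw [hd X, sadj_smul, sadj_one] at h1
        exact smul_left_injective F (one_ne_zero (α := Matrix (Fin n) (Fin n) F)) h1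
      let ψ : S → {x : F // x ^ q = x} := fun X => ⟨d X, by rw [← hσ.apply, hfix]⟩
      have hψ : Function.Injective ψ := fun X Y h => Subtype.ext (by
        rw [hd X, hd Y, show d X = d Y from congrArg Subtype.val h])
      refine (Nat.card_le_card_of_injective ψ hψ).trans ?_
      have hq : 1 < q := CfsgLib.Classical.two_le_q hσ.card
      rw [Nat.card_eq_fintype_card, Fintype.card_subtype]
      refine le_trans ?_ (le_of_eq (FiniteField.X_pow_card_sub_X_natDegree_eq F hq))
      refine le_trans ?_ (Polynomial.card_roots' _)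
      refine le_trans (Finset.card_le_card fun x hx => ?_) (Multiset.toFinset_card_le _)
      rw [Finset.mem_filter] at hx
      rw [Multiset.mem_toFinset, Polynomial.mem_roots (FiniteField.X_pow_card_sub_X_ne_zero F hq)]
      simp [hx.2]
    have hq2 := CfsgLib.Classical.two_le_q hσ.card
    rw [hcardS] at hbig
    nlinarith
  refine ⟨_, Or.inr (Or.inl ⟨c.minFac, K, hr, hodd, hK, fun k hk => ⟨sadj σ k, hKs k hk, fun u v => ?_⟩, rfl⟩),
    le_inf (mem_subalgebraNormalizer fun a ha X hX => hKinv a (hinv a ha) X hX) hH⟩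
  rw [hermForm_eq_gf hσ, hermForm_eq_gf hσ]
  exact gf_one_adjoint hσ k u v

end CfsgLib.Aschbacher
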