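import Cfsg.Agent.Lib.Aschbacher.UnitaryTwoThree
import Cfsg.Agent.Lib.Aschbacher.SympType
import Cfsg.Agent.Lib.Aschbacher.MinimalField
import Cfsg.Agent.Lib.Char.Burnside

/-!
# Aschbacher's theorem for the unitary groups
-/

set_option autoImplicit false

namespace CfsgLib.Aschbacher

open Matrix Module Cfsg
open scoped MatrixGroups Kronecker

variable {F : Type*} [Field F] [Fintype F] {q n : ℕ} {σ : F ≃+* F}

/-- A normal subgroup is scalar or spans the matrix algebra. -/
theorem unitary_normal_cases (hσ : QAut q σ) (hn : 3 ≤ n) {H : Subgroup (GL (Fin n) F)} (hH : H ≤ GU n F q)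
    (hg : ¬ UnitaryGeometric q H) {N : Subgroup (GL (Fin n) F)} (hNH : N ≤ H)
    (hN : ∀ h ∈ H, ∀ x ∈ N, h * x * h⁻¹ ∈ N) : N ≤ Geo.scalars (Fin n) F ∨ Full N := by
  haveI : NeZero n := ⟨by omega⟩
  have hiso : H ≤ isoGroup σ := gu_eq_isoGroup hσ ▸ hH
  have hirr : Irr H := by
    by_contra h
    exact hg (unitaryGeometric_of_not_irr hσ hH h)
  have hA := invBy_alg hN
  have hadj : ∀ X ∈ alg N, sadj σ X ∈ alg N := fun X hX => sadj_mem_alg hσ (hNH.trans hiso) hX
  have hC : ∀ X ∈ centre (alg N), sadj σ X ∈ centre (alg N) := by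
    intro X hX
    obtain ⟨h1, h2⟩ := mem_centre.1 hX
    refine mem_centre.2 ⟨hadj X h1, fun Y hY => ?_⟩
    have h3 := congrArg (sadj σ) (h2 _ (hadj Y hY))
    rw [sadj_mul, sadj_mul, sadj_sadj hσ] at h3
    exact h3.symm
  rcases alg_cases hirr hA with ⟨t, e, he⟩ | ⟨c, hc, hf⟩ | hbot | htop | ⟨a, b, e, P, ha, hb, hle, hmem⟩
  · exact absurd (unitaryGeometric_of_idemSystem hσ hH hC he centre_comm) hg
  · exact absurd (unitaryGeometric_of_field hσ hH (invBy_centre hA) hC hc hf) hg
  · refine Or.inl fun x hx => ?_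
    obtain ⟨c, hc⟩ := eq_smul_one_of_mem_bot (hbot ▸ coe_mem_alg hx)
    have hc0 : c ≠ 0 := fun h0 => x.ne_zero (by rw [hc, h0, zero_smul])
    exact (Geo.mem_scalars_iff x).2 ⟨Units.mk0 c hc0, hc⟩
  · exact Or.inr htop
  · refine absurd ?_ hg
    obtain ⟨P', hP', hle'⟩ := exists_iso_coords hσ (by omega : 0 < a) (by omega : 0 < b) (e := e) (P := P) fun X =>
      (hmem _).1 (hadj _ ((hmem _).2 ⟨X, rfl⟩))
    by_cases h233 : q = 2 ∧ a = 3 ∧ b = 3
    · obtain ⟨rfl, rfl, rfl⟩ := h233
      exact unitaryGeometric_of_tensorTwoThree hσ (by omega) hH hP' (hle.trans hle')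
    · exact unitaryGeometric_of_tensorIso hσ (by omega) hH ha hb h233 hP' (hle.trans hle')

/-- The three-dimensional unitary group over four elements has no non-trivial perfect subgroup. -/
theorem eq_one_of_perfect_iso_three (hσ : QAut 2 σ) (K : Subgroup (GL (Fin 3) F)) (hK : ⁅K, K⁆ = K)
    (hiso : K ≤ isoGroup σ) : K = ⊥ := by
  classical
  haveI := CfsgLib.Char.isSolvable_of_card_eq_pow_mul_pow (G := GU 3 F 2) (p := 2) (q := 3) (by norm_num) (by norm_num)
    (a := 3) (b := 4) (by rw [CfsgLib.Classical.card_gu (show Fintype.card F = 2 ^ 2 from hσ.card)]; rfl)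
  have hle : K ≤ GU 3 F 2 := gu_eq_isoGroup hσ ▸ hiso
  haveI : Group.IsSolvable ↥K := solvable_of_solvable_injective (Subgroup.inclusion_injective hle)
  obtain ⟨k, hk⟩ := Group.IsSolvable.solvable (G := K)
  have h : ∀ j, derivedSeries K j = ⊤ := fun j => by
    induction j with
    | zero => rfl
    | succ j ih =>
      rw [derivedSeries_succ, ih]
      refine Subgroup.map_injective K.subtype_injective ?_
      rw [Subgroup.map_commutator, ← MonoidHom.range_eq_map, Subgroup.range_subtype, hK]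
  rw [h] at hk
  rw [Subgroup.eq_bot_iff_forall]
  intro x hx
  have h2 : (⟨x, hx⟩ : K) = (1 : K) := Subgroup.mem_bot.1 (hk ▸ Subgroup.mem_top (⟨x, hx⟩ : K))
  simpa using congrArg (fun y : K => (y : GL (Fin 3) F)) h2

omit [Fintype F] in
theorem slot_injective {m t : ℕ} (hm : 0 < m) (i : Fin t) : Function.Injective (slot (F := F) (m := m) i) :=
  fun X Y hXY => by
    ext u v
    have h1 := congrFun (congrFun hXY (Function.update (fun _ => (⟨0, hm⟩ : Fin m)) i u))
      (Function.update (fun _ => (⟨0, hm⟩ : Fin m)) i v)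
    simp only [slot, pw_apply] at h1
    rwa [Finset.prod_eq_single i (fun j _ hj => by simp [Function.update_of_ne hj]) (by simp),
      Finset.prod_eq_single i (fun j _ hj => by simp [Function.update_of_ne hj]) (by simp),
      Function.update_self, Function.update_self, Function.update_self, Function.update_self] at h1

omit [Fintype F] in
theorem slot_mul {m t : ℕ} (i : Fin t) (X Y : Matrix (Fin m) (Fin m) F) : slot i (X * Y) = slot i X * slot i Y := by
  rw [slot, slot, slot, pw_mul]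
  refine congrArg pw (funext fun j => ?_)
  by_cases hj : j = i
  · subst hj; simp
  · simp [Function.update_of_ne hj]

omit [Fintype F] in
theorem slot_one {m t : ℕ} (i : Fin t) : slot (F := F) (m := m) i 1 = 1 := by
  rw [slot, ← pw_one]
  exact congrArg pw (Function.update_eq_self i _)

/-- A perfect tensor factor rules out the exceptional dimension. -/
theorem wreath_not_two_three (hσ : QAut q σ) {m t : ℕ} (ht : 0 < t)
    {e : Fin n ≃ (Fin t → Fin m)} {P : GL (Fin n) F} (hP : P ∈ isoGroup σ) {Ms : Fin t → Subgroup (GL (Fin n) F)}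
    (hN : ∀ i, Ms i ≤ isoGroup σ) (hperfM : ∀ i, ⁅Ms i, Ms i⁆ = Ms i)
    (hfac : ∀ i X, X ∈ alg (Ms i) → ∃ Y, X = cj P (Matrix.reindexAlgEquiv F F e.symm (slot i Y)))
    (hbig : ∀ i, ¬ Ms i ≤ ⊥) : ¬ (q = 2 ∧ m = 3) := by
  classical
  rintro ⟨rfl, rfl⟩
  set i : Fin t := ⟨0, ht⟩
  have hex : ∀ x : Ms i, ∃ Y : Matrix (Fin 3) (Fin 3) F,
      ((x : GL (Fin n) F) : Matrix (Fin n) (Fin n) F) = cj P (Matrix.reindexAlgEquiv F F e.symm (slot i Y)) :=
    fun x => hfac i _ (coe_mem_alg x.2)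
  choose f hf using hex
  have hinj : ∀ Y Y', cj P (Matrix.reindexAlgEquiv F F e.symm (slot i Y)) =
      cj P (Matrix.reindexAlgEquiv F F e.symm (slot i Y')) → Y = Y' := fun Y Y' h =>
    slot_injective (by norm_num) i ((Matrix.reindexAlgEquiv F F e.symm).injective ((cj P).injective h))
  have hmul : ∀ x y, f (x * y) = f x * f y := fun x y => hinj _ _ (by
    rw [← hf, slot_mul, map_mul, map_mul, ← hf, ← hf]; rfl)
  have hone : f 1 = 1 := hinj _ _ (by rw [← hf, slot_one, map_one, map_one]; rfl)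
  let θ : Ms i →* GL (Fin 3) F := MonoidHom.toHomUnits
    { toFun := f, map_one' := hone, map_mul' := hmul }
  have hθ : ∀ x, ((θ x : GL (Fin 3) F) : Matrix (Fin 3) (Fin 3) F) = f x := fun _ => rfl
  have hiso : θ.range ≤ isoGroup σ := by
    rintro _ ⟨x, rfl⟩
    refine mem_isoGroup_of_sadj ?_ hσ
    have hx := hN i x.2
    refine slot_injective (by norm_num) i ?_
    refine (Matrix.reindexAlgEquiv F F e.symm).injective ((cj P).injective ?_)
    rw [slot_one, map_one, map_one, slot_mul, map_mul, map_mul, hθ, ← hf,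
      ← sadj_slot, ← sadj_reindex, ← sadj_cj hσ hP, ← hf, sadj_coe hσ hx, Units.inv_mul]
  have hperf : ⁅θ.range, θ.range⁆ = θ.range := by
    have h1 : ⁅(⊤ : Subgroup (Ms i)), (⊤ : Subgroup (Ms i))⁆ = (⊤ : Subgroup (Ms i)) := by
      refine Subgroup.map_injective (Ms i).subtype_injective ?_
      rw [Subgroup.map_commutator, ← MonoidHom.range_eq_map, Subgroup.range_subtype, hperfM]
    rw [MonoidHom.range_eq_map, ← Subgroup.map_commutator, h1]
  have hbot := eq_one_of_perfect_iso_three hσ _ hperf hiso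
  refine hbig i fun x hx => Subgroup.mem_bot.2 ?_
  have h1 : θ ⟨x, hx⟩ = 1 := Subgroup.mem_bot.1 (hbot ▸ ⟨⟨x, hx⟩, rfl⟩)
  refine Units.ext ?_
  rw [show (x : Matrix (Fin n) (Fin n) F) = ((⟨x, hx⟩ : Ms i) : GL (Fin n) F).val from rfl, hf,
    show f ⟨x, hx⟩ = 1 from congrArg Units.val h1, slot_one, map_one, map_one]
  rfl

theorem tensorWreath_coords {m t : ℕ} {e : Fin n ≃ (Fin t → Fin m)} {P P' : GL (Fin n) F}
    {Ms : Fin t → Subgroup (GL (Fin n) F)} {k : GL (Fin t → Fin m) F}
    (hk : ∀ i X, ∃ Y, cj k (slot i X) = slot i Y) (hP : P' = P * Geo.glReindex (F := F) e.symm k)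
    (hfac : ∀ i X, X ∈ alg (Ms i) → ∃ Y, X = cj P (Matrix.reindexAlgEquiv F F e.symm (slot i Y))) :
    ∀ i X, X ∈ alg (Ms i) → ∃ Y, X = cj P' (Matrix.reindexAlgEquiv F F e.symm (slot i Y)) := by
  intro i X hX
  obtain ⟨Y, rfl⟩ := hfac i X hX
  have hk' : ∀ X, ∃ Y, cj k⁻¹ (slot i X) = slot i Y := by
    let f : Matrix (Fin m) (Fin m) F → Matrix (Fin m) (Fin m) F := fun X => (hk i X).choose
    have hf : ∀ X, cj k (slot i X) = slot i (f X) := fun X => (hk i X).choose_spec
    intro X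
    obtain ⟨Z, hZ⟩ : ∃ Z, f Z = X := by
      rcases Nat.eq_zero_or_pos m with rfl | hm
      · exact ⟨X, Subsingleton.elim _ _⟩
      have : Function.Injective f := fun A B hAB => slot_injective hm i ((cj k).injective (by rw [hf, hf, hAB]))
      exact (Finite.injective_iff_surjective.1 this) X
    exact ⟨Z, by rw [← hZ, ← hf, cj_inv_self]⟩
  obtain ⟨Z, hZ⟩ := hk' Y
  refine ⟨Z, ?_⟩
  rw [hP, cj_mul, ← hZ]
  refine congrArg (cj P) ?_
  rw [cj_apply, cj_apply, map_mul, map_mul]
  show _ = (Geo.glReindex (F := F) e.symm k).val * (_ * _ * _) * _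
  rw [show ((Geo.glReindex (F := F) e.symm k)⁻¹ : GL (Fin n) F).val =
      Matrix.reindexAlgEquiv F F e.symm (k⁻¹ : GL _ F).val from rfl,
    show (Geo.glReindex (F := F) e.symm k).val = Matrix.reindexAlgEquiv F F e.symm k.val from rfl]
  simp only [← map_mul]
  simp [mul_assoc]

/-- A symplectic-type normal subgroup gives a member. -/
theorem unitaryGeometric_of_sympData (hσ : QAut q σ) (hn : 3 ≤ n) {H N : Subgroup (GL (Fin n) F)}
    (hH : H ≤ GU n F q) (hN : NormIn H N) {r k z : ℕ} (hd : SympData N r k z) : UnitaryGeometric q H := by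
  haveI : Nonempty (Fin n) := ⟨⟨0, by omega⟩⟩
  rcases subfield_or_minimal hd.dvd_units with ⟨K, hK, hzK⟩ | ⟨p, e, hmin⟩
  · exact unitaryGeometric_of_realisable hσ (by omega) hH hN hd.full hK (hd.realisable K hzK)
  have hiso : H ≤ isoGroup σ := gu_eq_isoGroup hσ ▸ hH
  haveI := hmin.2.1
  haveI : Fact p.Prime := ⟨hmin.1⟩
  have hq : 2 ≤ q := CfsgLib.Classical.two_le_q hσ.card
  obtain ⟨j, rfl⟩ : ∃ j, e = 2 * j := by
    have h1 : q ^ 2 = p ^ e := hσ.card ▸ hmin.2.2.1
    obtain ⟨j, -, hqj⟩ := (Nat.dvd_prime_pow hmin.1).1 (h1 ▸ dvd_pow_self q two_ne_zero : q ∣ p ^ e)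
    exact ⟨j, (Nat.pow_right_injective hmin.1.two_le (by
      show p ^ e = p ^ (2 * j)
      rw [← h1, hqj, ← pow_mul, mul_comm])).symm ▸ rfl⟩
  have hj : 0 < j := by
    rcases Nat.eq_zero_or_pos j with rfl | h
    · exact absurd hmin.2.2.1 Fintype.one_lt_card.ne'
    · exact h
  have hrp : r ≠ p := by
    rintro rfl
    exact hd.cast_ne (CharP.cast_eq_zero F r)
  have hz2 : z ≠ 2 := by
    rintro rfl
    have hr : r = 2 := by
      rcases hd.card_eq with ⟨ho, hz⟩ | ⟨hr, -⟩
      · subst hz; exact absurd ho (by decide)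
      · exact hr
    refine hmin.2.2.2.2 1 one_pos (by omega) ?_
    rw [pow_one]
    rcases hmin.1.eq_two_or_odd with rfl | h
    · exact absurd hr hrp
    · omega
  have hnorm : H ≤ Geo.subgroupNormalizer N := fun g hg x =>
    ⟨fun hx => hN.conj g hg x hx, fun hx => by simpa [mul_assoc] using hN.conj _ (H.inv_mem hg) _ hx⟩
  refine ⟨_, Or.inl (Or.inr (Or.inr (Or.inr (Or.inr (Or.inr (Or.inr (Or.inr ⟨r, N, p, 2 * j, k, hd.symp,
    hd.full.actsAbsolutelyIrreducibly, le_similarity_hermForm hσ (hN.le.trans hiso), hrp,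
    hd.card_center.symm ▸ hmin, ?_, rfl⟩))))))), le_inf hnorm hH⟩
  rcases hd.card_eq with ⟨ho, hz⟩ | ⟨hr, hz | hz⟩
  · exact Or.inl ⟨ho, hd.card_center.trans hz, hd.one_le, by rw [hd.card, hz, ← pow_succ', add_comm]⟩
  · exact absurd hz hz2
  · subst hr hz
    refine Or.inr ⟨rfl, ?_, hd.card_center, by rw [hd.card, pow_add]; norm_num⟩
    by_contra hj2
    refine hmin.2.2.2.2 2 (by norm_num) (by omega) ?_
    obtain ⟨a, rfl⟩ : ∃ a, p = 2 * a + 1 := ⟨p / 2, by
      rcases hmin.1.eq_two_or_odd with rfl | h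
      · exact absurd rfl hrp
      · omega⟩
    exact ⟨a * a + a, by rw [show (2 * a + 1) ^ 2 = 4 * (a * a + a) + 1 by ring, Nat.add_sub_cancel]⟩

/-- Aschbacher's theorem for the unitary groups. -/
theorem unitary_main (hσ : QAut q σ) (hn : 3 ≤ n) (H : Subgroup (GL (Fin n) F)) (hH : H ≤ GU n F q) :
    UnitaryGeometric q H ∨ Geo.InUnitaryResidualClass H := by
  classical
  by_cases hg : UnitaryGeometric q H
  · exact Or.inl hg
  refine Or.inr ?_
  haveI : Nonempty (Fin n) := ⟨⟨0, by omega⟩⟩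
  have hiso : H ≤ isoGroup σ := gu_eq_isoGroup hσ ▸ hH
  have hirr : Irr H := by
    by_contra h
    exact hg (unitaryGeometric_of_not_irr hσ hH h)
  have hι : 2 ≤ Fintype.card (Fin n) := by simp; omega
  obtain ⟨N, hN⟩ := exists_minNS (not_le_scalars_of_irr hirr hι)
  have hfull : Full N := (unitary_normal_cases hσ hn hH hg hN.norm.le hN.norm.conj).resolve_left hN.nonscalar
  rcases hN.derived with hder | hperf
  · obtain ⟨r, k, z, hd⟩ := sympData_of_minNS hι hN hfull hder
    exact absurd (unitaryGeometric_of_sympData hσ hn hH hN.norm hd) hg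
  rcases perfect_cases hι hN hfull hperf with ⟨hsimple, hnab, hcen⟩ | ⟨m, t, e, P, Ms, hw⟩
  swap
  · refine absurd ?_ hg
    have hMi : ∀ i, Ms i ≤ isoGroup σ := fun i => (hw.factor_le i).trans (hN.norm.le.trans hiso)
    obtain ⟨P', k, hP', hkn, hks, hPk⟩ := exists_iso_wreath_coords hσ (by have := hw.two_le_m; omega : 0 < m)
      (by have := hw.two_le_t; omega : 0 < t) (e := e) (P := P) fun i X =>
        (hw.factor i _).1 (sadj_mem_alg hσ (hMi i) ((hw.factor i _).2 ⟨X, rfl⟩))
    have hle' : Geo.tensorWreathSubgroup m t e P ≤ Geo.tensorWreathSubgroup m t e P' := by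
      rw [hPk]
      exact conj_mem_map_conj ⟨k, hkn, rfl⟩
    have hex : ¬ (q = 2 ∧ m = 3) := by
      refine wreath_not_two_three hσ (by have := hw.two_le_t; omega) hP' hMi hw.factor_perfect
        (tensorWreath_coords hks hPk fun i X => (hw.factor i X).1) fun i hi => ?_
      have hbot : Ms i = ⊥ := le_bot_iff.1 hi
      have h1 : alg (Ms i) = ⊥ := le_bot_iff.1 (Algebra.adjoin_le (by
        rintro _ ⟨x, hx, rfl⟩
        rw [show x = 1 from Subgroup.mem_bot.1 (hi hx)]
        show ((1 : GL (Fin n) F) : Matrix (Fin n) (Fin n) F) ∈ _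
        rw [Units.val_one]
        exact one_mem _))
      have hm := hw.two_le_m
      let z : Fin m := ⟨0, by omega⟩
      let o : Fin m := ⟨1, by omega⟩
      obtain ⟨c, hc⟩ := eq_smul_one_of_mem_bot (h1 ▸ (hw.factor i _).2 ⟨Matrix.single z o 1, rfl⟩)
      rw [← map_one (cj P), ← map_smul (cj P), (cj P).injective.eq_iff,
        ← map_one (Matrix.reindexAlgEquiv F F e.symm), ← map_smul, (Matrix.reindexAlgEquiv F F e.symm).injective.eq_iff] at hc
      have h2 := congrFun (congrFun hc (Function.update (fun _ => z) i z)) (Function.update (fun _ => z) i o)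
      have hne : Function.update (fun _ : Fin t => z) i z ≠ Function.update (fun _ => z) i o := fun h => by
        have := congrFun h i
        simp [z, o] at this
      rw [Matrix.smul_apply, Matrix.one_apply_ne hne, smul_zero, slot, pw_apply,
        Finset.prod_eq_single i (fun j _ hj => by simp [Function.update_of_ne hj]) (by simp)] at h2
      simp at h2
    exact unitaryGeometric_of_wreathIso hσ (by omega) hH hw.two_le_m hw.two_le_t hex hP' (hw.le.trans hle')
  refine ⟨N, ⟨hN.norm.le, hN.norm.conj, hperf, hsimple, hnab, hcen, hfull.actsAbsolutelyIrreducibly,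
    fun K hK hR => hg (unitaryGeometric_of_realisable hσ (by omega) hH hN.norm hfull hK hR)⟩, ?_, ?_⟩
  · rintro ⟨Q, hQ, hfix⟩
    have h1 := isBilinearForm_eq_gf hQ.polar_bilinear
    rw [← (RingHom.ext fun _ => rfl : (RingEquiv.refl F).toRingHom = RingHom.id F)] at h1
    have h2 : Geo.IsNondegenerateForm (gf (RingEquiv.refl F).toRingHom (Geo.gramMatrix (QuadraticMap.polar Q))) :=
      h1 ▸ hQ.nondegenerate
    exact hg (unitaryGeometric_of_invBilinear hσ (by omega) hH hN.norm hfull (isUnit_gram h2)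
      (invGram_of_fixes (h1 ▸ fixesForm_polar hfix)))
  · rintro ⟨f, hf, hfix⟩
    have h1 := isBilinearForm_eq_gf hf.bilinear
    rw [← (RingHom.ext fun _ => rfl : (RingEquiv.refl F).toRingHom = RingHom.id F)] at h1
    have h2 : Geo.IsNondegenerateForm (gf (RingEquiv.refl F).toRingHom (Geo.gramMatrix f)) :=
      h1 ▸ hf.nondegenerate
    exact hg (unitaryGeometric_of_invBilinear hσ (by omega) hH hN.norm hfull (isUnit_gram h2)
      (invGram_of_fixes (h1 ▸ hfix)))

end CfsgLib.Aschbacher
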