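import Cfsg.Agent.Lib.Aschbacher.Gram
import Cfsg.Agent.Lib.Aschbacher.InvariantForms
import Cfsg.Agent.Lib.Aschbacher.Subfield
import Cfsg.Agent.Lib.Classical.HermBilin
import Cfsg.Agent.S0755

/-!
# The standard unitary form: adjoints, perpendiculars, orthonormal bases
-/

set_option autoImplicit false

namespace CfsgLib.Aschbacher

open Matrix Module Cfsg
open scoped MatrixGroups

/-- `σ` is the involutive automorphism `x ↦ x ^ q` of the field with `q ^ 2` elements. -/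
structure QAut {F : Type*} [Field F] [Fintype F] (q : ℕ) (σ : F ≃+* F) : Prop where
  card : Fintype.card F = q ^ 2
  apply : ∀ x, σ x = x ^ q
  invol : ∀ x, σ (σ x) = x
  ne : σ ≠ RingEquiv.refl F

variable {F : Type*} [Field F] [Fintype F] {q : ℕ}

theorem exists_qAut (hF : Fintype.card F = q ^ 2) : ∃ σ : F ≃+* F, QAut q σ := by
  obtain ⟨σ, hσ, hσ2, hne⟩ := CfsgLib.Classical.exists_qPow hF
  refine ⟨RingEquiv.ofBijective σ ⟨σ.injective, fun a => ⟨σ a, hσ2 a⟩⟩, hF, hσ, hσ2, fun h => hne ?_⟩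
  exact RingHom.ext fun a => congrFun (congrArg DFunLike.coe h) a

variable {σ : F ≃+* F}

theorem QAut.exists_norm (hσ : QAut q σ) {μ : F} (hμ : σ μ = μ) : ∃ x, x * σ x = μ := by
  obtain ⟨x, hx⟩ := CfsgLib.Classical.exists_norm_eq hσ.card (μ := μ) (by rw [← hσ.apply, hμ])
  exact ⟨x, by rw [hσ.apply, ← hx, pow_succ, mul_comm]⟩

theorem QAut.exists_ne (hσ : QAut q σ) : ∃ a, σ a ≠ a := by
  by_contra! h
  exact hσ.ne (RingEquiv.ext h)

/-- Hilbert 90 for an involution. -/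
theorem QAut.exists_conj_eq (hσ : QAut q σ) {c : F} (hc : σ c * c = 1) : ∃ a, a ≠ 0 ∧ c * σ a = a := by
  obtain ⟨b, hb⟩ : ∃ b, b + c * σ b ≠ 0 := by
    by_contra! hcon
    obtain ⟨a, ha⟩ := hσ.exists_ne
    have h1 := hcon 1
    rw [map_one, mul_one] at h1
    have h3 := hcon a
    rw [show c = -1 by linear_combination h1] at h3
    exact ha (by linear_combination -h3)
  refine ⟨b + c * σ b, hb, ?_⟩
  rw [map_add, map_mul, hσ.invol]
  linear_combination b * hc

theorem hermForm_eq_gf (hσ : QAut q σ) {n : ℕ} (u v : Fin n → F) :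
    hermForm n F q u v = gf σ.toRingHom 1 u v := by
  simp [hermForm, gf, dotProduct, hσ.apply]

theorem gf_apply_q (hσ : QAut q σ) {ι : Type} [Fintype ι] (G : Matrix ι ι F) (x y : ι → F) :
    gf σ.toRingHom G x y = Geo.formOfGram (fun a : F => a ^ q) G x y := by
  simp [gf, Geo.formOfGram, dotProduct, Matrix.mulVec, Finset.mul_sum, hσ.apply, mul_assoc]

variable {ι : Type} [Fintype ι] [DecidableEq ι]

/-- The adjoint for the standard form. -/
def sadj (σ : F ≃+* F) (X : Matrix ι ι F) : Matrix ι ι F := (X.map σ)ᵀ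

theorem sadj_mul (σ : F ≃+* F) (X Y : Matrix ι ι F) : sadj σ (X * Y) = sadj σ Y * sadj σ X := by
  rw [sadj, Matrix.map_mul, Matrix.transpose_mul]; rfl

theorem sadj_one (σ : F ≃+* F) : sadj σ (1 : Matrix ι ι F) = 1 := by
  rw [sadj, Matrix.map_one σ (map_zero σ) (map_one σ), Matrix.transpose_one]

theorem sadj_zero (σ : F ≃+* F) : sadj σ (0 : Matrix ι ι F) = 0 := by
  rw [sadj, Matrix.map_zero σ (map_zero σ), Matrix.transpose_zero]

theorem sadj_add (σ : F ≃+* F) (X Y : Matrix ι ι F) : sadj σ (X + Y) = sadj σ X + sadj σ Y := by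
  rw [sadj, Matrix.map_add σ (map_add σ), Matrix.transpose_add]; rfl

theorem sadj_smul (σ : F ≃+* F) (c : F) (X : Matrix ι ι F) : sadj σ (c • X) = σ c • sadj σ X := by
  ext i j
  simp [sadj]

theorem sadj_sadj (hσ : QAut q σ) (X : Matrix ι ι F) : sadj σ (sadj σ X) = X :=
  transpose_map_involutive hσ.invol X

theorem sadj_sum (σ : F ≃+* F) {κ : Type*} (s : Finset κ) (X : κ → Matrix ι ι F) :
    sadj σ (∑ i ∈ s, X i) = ∑ i ∈ s, sadj σ (X i) :=
  map_sum (AddMonoidHom.mk' (sadj σ) (sadj_add σ)) X s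

theorem sadj_pow (σ : F ≃+* F) (X : Matrix ι ι F) (k : ℕ) : sadj σ (X ^ k) = sadj σ X ^ k := by
  induction k with
  | zero => rw [pow_zero, pow_zero, sadj_one]
  | succ k ih => rw [pow_succ, sadj_mul, ih, ← pow_succ']

theorem gf_one_adjoint (hσ : QAut q σ) (X : Matrix ι ι F) (u v : ι → F) :
    gf σ.toRingHom 1 (X *ᵥ u) v = gf σ.toRingHom 1 u (sadj σ X *ᵥ v) := by
  conv_lhs => rw [← Matrix.one_mulVec v]
  conv_rhs => rw [← Matrix.one_mulVec u]
  rw [gf_mulVec, gf_mulVec, Matrix.map_one _ (map_zero _) (map_one _), Matrix.transpose_one, mul_one, mul_one, one_mul]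
  congr 1
  ext i j
  simp [sadj, hσ.invol]

/-- The elements of `GL` preserving the standard form. -/
def isoGroup (σ : F ≃+* F) : Subgroup (GL ι F) where
  carrier := {g | (g : Matrix ι ι F)ᵀ * (g : Matrix ι ι F).map σ = 1}
  mul_mem' {a b} ha hb := by
    simp only [Set.mem_ofPred_eq, Units.val_mul, Matrix.transpose_mul, Matrix.map_mul] at *
    rw [mul_assoc, ← mul_assoc (a : Matrix ι ι F)ᵀ, ha, one_mul, hb]
  one_mem' := by simp [Matrix.map_one σ (map_zero σ) (map_one σ)]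
  inv_mem' {a} ha := by
    simp only [Set.mem_ofPred_eq] at *
    have h1 : ((a : Matrix ι ι F).map σ) * ((a⁻¹ : GL ι F) : Matrix ι ι F).map σ = 1 := by
      rw [← Matrix.map_mul, Units.mul_inv, Matrix.map_one σ (map_zero σ) (map_one σ)]
    have h2 : ((a⁻¹ : GL ι F) : Matrix ι ι F)ᵀ * (a : Matrix ι ι F)ᵀ = 1 := by
      rw [← Matrix.transpose_mul, Units.mul_inv, Matrix.transpose_one]
    calc ((a⁻¹ : GL ι F) : Matrix ι ι F)ᵀ * ((a⁻¹ : GL ι F) : Matrix ι ι F).map σ
        = ((a⁻¹ : GL ι F) : Matrix ι ι F)ᵀ * ((a : Matrix ι ι F)ᵀ * (a : Matrix ι ι F).map σ) *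
            ((a⁻¹ : GL ι F) : Matrix ι ι F).map σ := by rw [ha, mul_one]
      _ = 1 := by rw [← mul_assoc, h2, one_mul, h1]

theorem mem_isoGroup {g : GL ι F} : g ∈ isoGroup σ ↔ (g : Matrix ι ι F)ᵀ * (g : Matrix ι ι F).map σ = 1 := Iff.rfl

theorem gu_eq_isoGroup (hσ : QAut q σ) {n : ℕ} : GU n F q = isoGroup σ := by
  ext g
  constructor
  · intro h
    refine gf_ext (σ := σ.toRingHom) fun u v => ?_
    have h' : hermForm n F q ((g : Matrix (Fin n) (Fin n) F) *ᵥ u) ((g : Matrix (Fin n) (Fin n) F) *ᵥ v) =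
        hermForm n F q u v := h u v
    rw [hermForm_eq_gf hσ, hermForm_eq_gf hσ, gf_mulVec, mul_one] at h'
    exact h'
  · intro h u v
    show hermForm n F q ((g : Matrix (Fin n) (Fin n) F) *ᵥ u) ((g : Matrix (Fin n) (Fin n) F) *ᵥ v) =
      hermForm n F q u v
    rw [hermForm_eq_gf hσ, hermForm_eq_gf hσ, gf_mulVec, mul_one,
      show (g : Matrix (Fin n) (Fin n) F).map σ.toRingHom = (g : Matrix (Fin n) (Fin n) F).map σ from rfl, h]

theorem le_similarity_hermForm (hσ : QAut q σ) {n : ℕ} {R : Subgroup (GL (Fin n) F)} (hR : R ≤ isoGroup σ) :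
    R ≤ Geo.similarityGroup (hermForm n F q) := fun g hg => ⟨1, fun u v => by
  rw [hermForm_eq_gf hσ, hermForm_eq_gf hσ, gf_mulVec, mul_one, Units.val_one, one_mul,
    show (g : Matrix (Fin n) (Fin n) F).map σ.toRingHom = (g : Matrix (Fin n) (Fin n) F).map σ from rfl, hR hg]⟩

theorem gf_isometry {g : GL ι F} (hg : g ∈ isoGroup σ) (u v : ι → F) :
    gf σ.toRingHom 1 ((g : Matrix ι ι F) *ᵥ u) ((g : Matrix ι ι F) *ᵥ v) = gf σ.toRingHom 1 u v := by
  rw [gf_mulVec, mul_one, show (g : Matrix ι ι F).map σ.toRingHom = (g : Matrix ι ι F).map σ from rfl, hg]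

theorem sadj_coe (hσ : QAut q σ) {g : GL ι F} (hg : g ∈ isoGroup σ) :
    sadj σ (g : Matrix ι ι F) = ((g⁻¹ : GL ι F) : Matrix ι ι F) := by
  have h1 : sadj σ (g : Matrix ι ι F) * (g : Matrix ι ι F) = 1 := by
    have h := congrArg (fun M : Matrix ι ι F => M.map σ) hg
    simp only [Matrix.map_mul, Matrix.map_one σ (map_zero σ) (map_one σ)] at h
    have h2 : ((g : Matrix ι ι F).map σ).map σ = (g : Matrix ι ι F) := by ext; simp [hσ.invol]
    rw [h2] at h
    exact h
  exact g.mul_eq_one_iff_eq_inv.1 h1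

theorem sadj_cj (hσ : QAut q σ) {g : GL ι F} (hg : g ∈ isoGroup σ) (X : Matrix ι ι F) :
    sadj σ (cj g X) = cj g (sadj σ X) := by
  rw [cj_apply, sadj_mul, sadj_mul, sadj_coe hσ hg, sadj_coe hσ ((isoGroup σ).inv_mem hg), inv_inv, cj_apply,
    mul_assoc]

theorem sadj_mem_alg (hσ : QAut q σ) {N : Subgroup (GL ι F)} (hN : N ≤ isoGroup σ) {X : Matrix ι ι F}
    (hX : X ∈ alg N) : sadj σ X ∈ alg N := by
  rw [← Subalgebra.mem_toSubmodule, alg_toSubmodule] at hX
  induction hX using Submodule.span_induction with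
  | mem Y hY =>
    obtain ⟨x, hx, rfl⟩ := hY
    show sadj σ (x : Matrix ι ι F) ∈ alg N
    rw [sadj_coe hσ (hN hx)]
    exact coe_mem_alg (N.inv_mem hx)
  | zero => rw [sadj_zero]; exact zero_mem _
  | add A B _ _ hA hB => rw [sadj_add]; exact add_mem hA hB
  | smul c A _ hA => rw [sadj_smul]; exact Subalgebra.smul_mem _ hA _

/-- The perpendicular of a subspace. -/
def perp (σ : F ≃+* F) (W : Submodule F (ι → F)) : Submodule F (ι → F) where
  carrier := {v | ∀ w ∈ W, gf σ.toRingHom 1 w v = 0}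
  add_mem' {a b} ha hb := fun w hw => by rw [gf_add_right, ha w hw, hb w hw, add_zero]
  zero_mem' := fun w _ => by simp [gf]
  smul_mem' c a ha := fun w hw => by rw [gf_smul_right, ha w hw, mul_zero]

theorem mem_perp {W : Submodule F (ι → F)} {v : ι → F} : v ∈ perp σ W ↔ ∀ w ∈ W, gf σ.toRingHom 1 w v = 0 := Iff.rfl

theorem gf_one_symm (hσ : QAut q σ) (u v : ι → F) : gf σ.toRingHom 1 u v = σ (gf σ.toRingHom 1 v u) :=
  (isUnitaryForm_gf hσ.ne hσ.invol (G := (1 : Matrix ι ι F)) isUnit_one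
    (by rw [Matrix.map_one σ (map_zero σ) (map_one σ), Matrix.transpose_one])).herm u v

theorem gf_one_flip (hσ : QAut q σ) {u v : ι → F} (h : gf σ.toRingHom 1 u v = 0) : gf σ.toRingHom 1 v u = 0 := by
  rw [gf_one_symm hσ, h, map_zero]

theorem perp_invariant {H : Subgroup (GL ι F)} (hH : H ≤ isoGroup σ) {W : Submodule F (ι → F)}
    (hW : ∀ h ∈ H, ∀ v ∈ W, (h : Matrix ι ι F) *ᵥ v ∈ W) :
    ∀ h ∈ H, ∀ v ∈ perp σ W, (h : Matrix ι ι F) *ᵥ v ∈ perp σ W := by
  intro h hh v hv w hw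
  have h1 : (h : Matrix ι ι F) *ᵥ (((h⁻¹ : GL ι F) : Matrix ι ι F) *ᵥ w) = w := by
    rw [Matrix.mulVec_mulVec, Units.mul_inv, Matrix.one_mulVec]
  rw [← h1, gf_isometry (hH hh)]
  exact hv _ (hW _ (H.inv_mem hh) w hw)

/-- A subspace without radical has the perpendicular as a complement. -/
theorem isCompl_perp {W : Submodule F (ι → F)} (hW : W ⊓ perp σ W = ⊥) : IsCompl W (perp σ W) := by
  classical
  refine ⟨disjoint_iff.2 hW, codisjoint_iff.2 (Submodule.eq_top_iff'.2 fun v => ?_)⟩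
  let Φ : W → Module.Dual F W := fun w =>
    { toFun := fun u => gf σ.toRingHom 1 (u : ι → F) w
      map_add' := fun a b => gf_add_left _ _ _ _ _
      map_smul' := fun c a => gf_smul_left _ _ _ _ _ }
  have hΦ : ∀ w u, Φ w u = gf σ.toRingHom 1 (u : ι → F) w := fun _ _ => rfl
  have hinj : Function.Injective Φ := by
    intro a b hab
    have h1 : ((a - b : W) : ι → F) ∈ W ⊓ perp σ W := ⟨(a - b).2, fun u hu => by
      have := LinearMap.congr_fun hab ⟨u, hu⟩
      rw [hΦ, hΦ] at this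
      have e : gf σ.toRingHom 1 u ((a - b : W) : ι → F) + gf σ.toRingHom 1 u b = gf σ.toRingHom 1 u a := by
        rw [← gf_add_right, Submodule.coe_sub, sub_add_cancel]
      rw [this] at e
      linear_combination e⟩
    rw [hW, Submodule.mem_bot] at h1
    exact sub_eq_zero.1 (Subtype.ext h1)
  haveI : Finite (Module.Dual F W) := Module.finite_of_finite F
  have hcard : Nat.card W = Nat.card (Module.Dual F W) := by
    rw [Module.natCard_eq_pow_finrank (K := F), Module.natCard_eq_pow_finrank (K := F) (V := Module.Dual F W),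
      Subspace.dual_finrank_eq]
  obtain ⟨w, hw⟩ := ((Nat.bijective_iff_injective_and_card Φ).2 ⟨hinj, hcard⟩).2
    { toFun := fun u => gf σ.toRingHom 1 (u : ι → F) v
      map_add' := fun a b => gf_add_left _ _ _ _ _
      map_smul' := fun c a => gf_smul_left _ _ _ _ _ }
  refine Submodule.mem_sup.2 ⟨w, w.2, v - w, fun u hu => ?_, add_sub_cancel _ _⟩
  have := LinearMap.congr_fun hw ⟨u, hu⟩
  rw [hΦ] at this
  have e : gf σ.toRingHom 1 u (v - w) + gf σ.toRingHom 1 u w = gf σ.toRingHom 1 u v := by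
    rw [← gf_add_right, sub_add_cancel]
  rw [this] at e
  exact add_eq_right.1 e

theorem gf_perp_perp_bot (hσ : QAut q σ) {W : Submodule F (ι → F)} (h : IsCompl W (perp σ W)) :
    perp σ W ⊓ perp σ (perp σ W) = ⊥ := by
  rw [Submodule.eq_bot_iff]
  rintro v ⟨hv, hv'⟩
  by_contra hv0
  obtain ⟨⟨x, hx⟩, -⟩ := gf_nondegenerate (σ := σ.toRingHom) (G := (1 : Matrix ι ι F)) isUnit_one v hv0
  obtain ⟨a, ha, b, hb, rfl⟩ := Submodule.mem_sup.1 (h.sup_eq_top ▸ Submodule.mem_top : x ∈ W ⊔ perp σ W)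
  exact hx (by rw [gf_add_left, hv a ha, hv' b hb, add_zero])

theorem nondegenerateOn_of_bot (hσ : QAut q σ) {n : ℕ} {W : Submodule F (Fin n → F)} (h : W ⊓ perp σ W = ⊥) :
    Geo.IsNondegenerateOn (hermForm n F q) W := by
  intro w hw hw0
  obtain ⟨x, hx, hxw⟩ : ∃ x ∈ W, gf σ.toRingHom 1 x w ≠ 0 := by
    by_contra! hcon
    exact hw0 ((Submodule.mem_bot F).1 (h ▸ (⟨hw, hcon⟩ : w ∈ W ⊓ perp σ W)))
  exact ⟨⟨x, hx, by rwa [hermForm_eq_gf hσ]⟩,
    ⟨x, hx, by rw [hermForm_eq_gf hσ]; exact fun h0 => hxw (gf_one_flip hσ h0)⟩⟩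

/-- Every invertible hermitian matrix has the shape `Aᵀ σ(A)`. -/
theorem exists_hermitian_factor (hσ : QAut q σ) {k : ℕ} {G : Matrix (Fin k) (Fin k) F} (hG : IsUnit G)
    (hh : (G.map σ)ᵀ = G) :
    ∃ A : GL (Fin k) F, (A : Matrix (Fin k) (Fin k) F)ᵀ * (A : Matrix (Fin k) (Fin k) F).map σ = G := by
  classical
  have hU := isUnitaryForm_gf hσ.ne hσ.invol hG hh
  let B : (Fin k → F) →ₛₗ[σ.toRingHom] (Fin k → F) →ₗ[F] F :=
    LinearMap.mk₂'ₛₗ σ.toRingHom (RingHom.id F) (fun u v => gf σ.toRingHom G v u)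
      (fun a b c => gf_add_right _ _ _ _ _) (fun c a b => gf_smul_right _ _ _ _ _)
      (fun a b c => gf_add_left _ _ _ _ _) (fun c a b => gf_smul_left _ _ _ _ _)
  have hB : ∀ u v, B u v = gf σ.toRingHom G v u := fun _ _ => rfl
  have hne : σ.toRingHom ≠ RingHom.id F := fun h => hσ.ne (RingEquiv.ext fun a => RingHom.congr_fun h a)
  obtain ⟨b, hb⟩ := Cfsg.Agent.S0755.result σ.toRingHom hne hσ.invol B
    ⟨fun u v => (hU.herm u v).symm⟩
    ⟨fun u hu => by
        by_contra h0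
        obtain ⟨⟨x, hx⟩, -⟩ := hU.nondegenerate u h0
        exact hx (hu x),
      fun v hv => by
        by_contra h0
        obtain ⟨-, ⟨x, hx⟩⟩ := hU.nondegenerate v h0
        exact hx (hv x)⟩
  let e : Fin k ≃ Fin (finrank F (Fin k → F)) := finCongr (Module.finrank_fin_fun F).symm
  let S : Matrix (Fin k) (Fin k) F := Matrix.of fun i j => b (e j) i
  have hS : IsUnit S := by
    rw [← Matrix.linearIndependent_cols_iff_isUnit]
    exact b.linearIndependent.comp e e.injective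
  have h1 : Sᵀ * G * S.map σ = 1 := by
    refine gf_ext (σ := σ.toRingHom) fun u v => ?_
    have hext : ∀ i j, gf σ.toRingHom G (b (e i)) (b (e j)) = (1 : Matrix (Fin k) (Fin k) F) i j := fun i j => by
      rw [← hB, hb, Matrix.one_apply]
      simp [e.injective.eq_iff, eq_comm]
    rw [show S.map σ = S.map σ.toRingHom from rfl, ← gf_mulVec]
    have hSu : ∀ w : Fin k → F, S *ᵥ w = ∑ i, w i • b (e i) := fun w => by
      funext x
      simp [S, Matrix.mulVec, dotProduct, Finset.sum_apply, mul_comm]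
    rw [hSu, hSu]
    have hl : ∀ (y : Fin k → F), gf σ.toRingHom G (∑ i, u i • b (e i)) y = ∑ i, u i * gf σ.toRingHom G (b (e i)) y := by
      intro y
      rw [← hB y, map_sum]
      exact Finset.sum_congr rfl fun x _ => by rw [map_smul, smul_eq_mul, hB]
    rw [hl]
    have hr : ∀ i, gf σ.toRingHom G (b (e i)) (∑ j, v j • b (e j)) =
        ∑ j, σ (v j) * gf σ.toRingHom G (b (e i)) (b (e j)) := by
      intro i
      rw [← hB, map_sum, LinearMap.sum_apply]
      exact Finset.sum_congr rfl fun x _ => by rw [map_smulₛₗ, LinearMap.smul_apply, smul_eq_mul, hB]; rfl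
    simp only [hr, hext]
    simp [gf, dotProduct, Matrix.mulVec, Matrix.one_apply, mul_ite, ite_mul]
  refine ⟨hS.unit⁻¹, ?_⟩
  set T : Matrix (Fin k) (Fin k) F := ((hS.unit⁻¹ : GL (Fin k) F) : Matrix (Fin k) (Fin k) F)
  have hTS : S * T = 1 := hS.mul_val_inv
  calc Tᵀ * T.map σ = Tᵀ * (Sᵀ * G * S.map σ) * T.map σ := by rw [h1, mul_one]
    _ = (S * T)ᵀ * G * (S * T).map σ := by rw [Matrix.transpose_mul, Matrix.map_mul]; simp only [mul_assoc]
    _ = G := by rw [hTS, Matrix.transpose_one, one_mul, Matrix.map_one σ (map_zero σ) (map_one σ), mul_one]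

end CfsgLib.Aschbacher
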