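import Cfsg.Agent.Lib.Aschbacher.UnitarySubfield
import Cfsg.Agent.Lib.Aschbacher.Socle
import Cfsg.Agent.Lib.Classical22.Asch.Gram

/-!
# Unitary case: tensor decompositions compatible with the form
-/

set_option autoImplicit false

namespace CfsgLib.Aschbacher

open Matrix Module Cfsg
open scoped MatrixGroups Kronecker

variable {F : Type*} [Field F] [Fintype F] {q n : ℕ} {σ : F ≃+* F}
variable {ι : Type} [Fintype ι] [DecidableEq ι]

theorem sadj_kronecker (σ : F ≃+* F) {a b : ℕ} (A : Matrix (Fin a) (Fin a) F) (B : Matrix (Fin b) (Fin b) F) :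
    sadj σ (A ⊗ₖ B) = sadj σ A ⊗ₖ sadj σ B := by
  ext i j
  simp [sadj, map_mul]

theorem sadj_reindex (σ : F ≃+* F) {κ : Type} [Fintype κ] [DecidableEq κ] (e : κ ≃ ι) (X : Matrix κ κ F) :
    sadj σ (Matrix.reindexAlgEquiv F F e X) = Matrix.reindexAlgEquiv F F e (sadj σ X) := rfl

theorem sadj_pw (σ : F ≃+* F) {m t : ℕ} (As : Fin t → Matrix (Fin m) (Fin m) F) :
    sadj σ (pw As) = pw fun i => sadj σ (As i) := by
  ext x y
  simp [sadj, pw_apply, map_prod]

theorem sadj_slot (σ : F ≃+* F) {m t : ℕ} (i : Fin t) (X : Matrix (Fin m) (Fin m) F) :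
    sadj σ (slot i X) = slot i (sadj σ X) := by
  rw [slot, slot, sadj_pw]
  refine congrArg pw (funext fun j => ?_)
  by_cases h : j = i
  · subst h; simp
  · rw [Function.update_of_ne h, Function.update_of_ne h, sadj_one]

theorem mem_isoGroup_of_sadj {g : GL ι F} (h : sadj σ (g : Matrix ι ι F) * (g : Matrix ι ι F) = 1)
    (hσ : QAut q σ) : g ∈ isoGroup σ := by
  have h2 := congrArg (fun M : Matrix ι ι F => M.map σ) h
  simp only [sadj, Matrix.map_mul, Matrix.map_one σ (map_zero σ) (map_one σ), Matrix.transpose_map] at h2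
  have h3 : ((g : Matrix ι ι F).map σ).map σ = (g : Matrix ι ι F) := by ext; simp [hσ.invol]
  rw [h3] at h2
  exact h2

/-- The Gram matrix of the standard form in the coordinates given by `P`. -/
def coordGram (hσ : QAut q σ) (P : GL ι F) : GL ι F :=
  ⟨sadj σ (P : Matrix ι ι F) * (P : Matrix ι ι F), ((P⁻¹ : GL ι F) : Matrix ι ι F) * sadj σ ((P⁻¹ : GL ι F) : Matrix ι ι F),
    by rw [mul_assoc, Units.mul_inv_cancel_left, ← sadj_mul, Units.inv_mul, sadj_one],
    by rw [mul_assoc, ← mul_assoc _ (sadj σ (P : Matrix ι ι F)), ← sadj_mul, Units.mul_inv, sadj_one, one_mul,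
      Units.inv_mul]⟩

theorem sadj_coordGram (hσ : QAut q σ) (P : GL ι F) :
    sadj σ (coordGram hσ P : Matrix ι ι F) = coordGram hσ P := by
  show sadj σ (sadj σ (P : Matrix ι ι F) * (P : Matrix ι ι F)) = sadj σ (P : Matrix ι ι F) * (P : Matrix ι ι F)
  rw [sadj_mul, sadj_sadj hσ]

theorem cj_sadj_eq (hσ : QAut q σ) (P : GL ι F) (Y : Matrix ι ι F) :
    cj P⁻¹ (sadj σ (cj P Y)) = cj (coordGram hσ P)⁻¹ (sadj σ Y) := by
  rw [cj_apply, cj_apply, cj_apply, inv_inv, inv_inv, sadj_mul, sadj_mul]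
  show _ = ((P⁻¹ : GL ι F) : Matrix ι ι F) * sadj σ ((P⁻¹ : GL ι F) : Matrix ι ι F) * sadj σ Y *
    (sadj σ (P : Matrix ι ι F) * (P : Matrix ι ι F))
  simp only [mul_assoc]

/-- The factorisation of a hermitian matrix in the adjoint convention. -/
theorem exists_sadj_factor (hσ : QAut q σ) {k : ℕ} {G : Matrix (Fin k) (Fin k) F} (hG : IsUnit G)
    (hh : sadj σ G = G) :
    ∃ A : GL (Fin k) F, sadj σ (A : Matrix (Fin k) (Fin k) F) * (A : Matrix (Fin k) (Fin k) F) = G := by
  obtain ⟨A, hA⟩ := exists_hermitian_factor hσ (G := G.map σ) (hG.map σ.toRingHom.mapMatrix) (by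
    show sadj σ (G.map σ) = G.map σ
    conv_rhs => rw [← hh]
    rw [sadj, sadj, Matrix.transpose_map])
  refine ⟨A, ?_⟩
  have h2 := congrArg (fun M : Matrix (Fin k) (Fin k) F => M.map σ) hA
  simp only [Matrix.map_mul, Matrix.map_map] at h2
  have e : (σ ∘ σ : F → F) = id := funext hσ.invol
  rw [e, Matrix.map_id, Matrix.map_id] at h2
  rw [← h2]
  simp [sadj, Matrix.transpose_map]

theorem conj_mem_map_conj {S : Subgroup (GL ι F)} {P k : GL ι F} (hk : k ∈ S) :
    S.map (MulAut.conj P).toMonoidHom ≤ S.map (MulAut.conj (P * k)).toMonoidHom := by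
  rintro _ ⟨x, hx, rfl⟩
  exact ⟨k⁻¹ * x * k, S.mul_mem (S.mul_mem (S.inv_mem hk) hx) hk, by simp [mul_assoc]⟩

/-- An adjoint-closed tensor algebra has coordinates in which the form is the standard one. -/
theorem exists_iso_coords (hσ : QAut q σ) {a b : ℕ} (ha : 0 < a) (hb : 0 < b) {e : ι ≃ Fin a × Fin b} {P : GL ι F}
    (hA : ∀ X, ∃ Y, sadj σ (cj P (kl e X)) = cj P (kl e Y)) :
    ∃ P' : GL ι F, P' ∈ isoGroup σ ∧
      Geo.tensorProductSubgroup a b e P ≤ Geo.tensorProductSubgroup a b e P' := by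
  classical
  have hg : ∀ X, ∃ Y, cj (coordGram hσ P)⁻¹ (cj 1 (kl e X)) = cj 1 (kl e Y) := by
    intro X
    obtain ⟨Y, hY⟩ := hA (sadj σ X)
    refine ⟨Y, ?_⟩
    have h1 : kl e X = sadj σ (kl e (sadj σ X)) := by
      rw [kl, kl, sadj_reindex, sadj_kronecker, sadj_sadj hσ, sadj_one]
    rw [cj_one, cj_one, h1, ← cj_sadj_eq, hY, cj_inv_self]
  have hmem := (Geo.tensorProductSubgroup a b e 1).inv_mem (mem_tensor_of_normalizes ha hb hg)
  rw [inv_inv] at hmem
  obtain ⟨g0, ⟨z, ⟨A, B, hz⟩, hg0⟩, hAB⟩ := hmem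
  have hM : (coordGram hσ P : Matrix ι ι F) =
      Matrix.reindexAlgEquiv F F e.symm ((A : Matrix (Fin a) (Fin a) F) ⊗ₖ (B : Matrix (Fin b) (Fin b) F)) := by
    rw [← hAB, ← hg0, ← hz]
    simp [Geo.glReindex]
  haveI : NeZero a := ⟨by omega⟩
  haveI : NeZero b := ⟨by omega⟩
  have hs := sadj_coordGram hσ P
  rw [hM, sadj_reindex, (Matrix.reindexAlgEquiv F F e.symm).injective.eq_iff, sadj_kronecker] at hs
  obtain ⟨l, m, hlm, hl, hm, hll⟩ := Classical22.Asch.split_symmetry (σ := σ) (ε := 1) A.ne_zero B.ne_zero one_ne_zero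
    hσ.invol (by
      refine Eq.trans ?_ ((one_smul F _).trans rfl).symm
      refine Eq.trans ?_ hs
      ext i j
      simp [sadj, map_mul])
  obtain ⟨ν, hν0, hν⟩ := Classical22.Asch.exists_hermitian_scale hσ.ne hσ.invol hll
  obtain ⟨A0, hA0⟩ := exists_sadj_factor hσ (G := ν • (A : Matrix (Fin a) (Fin a) F))
    (A.isUnit.smul (Units.mk0 ν hν0))
    (by rw [sadj_smul, show sadj σ (A : Matrix (Fin a) (Fin a) F) = l • (A : Matrix (Fin a) (Fin a) F) by
      rw [sadj, ← Matrix.transpose_map]; exact hl, smul_smul, hν])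
  obtain ⟨B0, hB0⟩ := exists_sadj_factor hσ (G := ν⁻¹ • (B : Matrix (Fin b) (Fin b) F))
    (B.isUnit.smul (Units.mk0 _ (inv_ne_zero hν0)))
    (by rw [sadj_smul, show sadj σ (B : Matrix (Fin b) (Fin b) F) = m • (B : Matrix (Fin b) (Fin b) F) by
      rw [sadj, ← Matrix.transpose_map]; exact hm, smul_smul, map_inv₀]
        congr 1
        have hσν : σ ν ≠ 0 := (map_ne_zero σ).2 hν0
        field_simp
        linear_combination (σ ν) * hlm - m * hν)
  let z0 : GL (Fin a × Fin b) F :=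
    ⟨(A0 : Matrix (Fin a) (Fin a) F) ⊗ₖ (B0 : Matrix (Fin b) (Fin b) F),
      ((A0⁻¹ : GL (Fin a) F) : Matrix (Fin a) (Fin a) F) ⊗ₖ ((B0⁻¹ : GL (Fin b) F) : Matrix (Fin b) (Fin b) F),
      by simp [← Matrix.mul_kronecker_mul], by simp [← Matrix.mul_kronecker_mul]⟩
  let k : GL ι F := Geo.glReindex (F := F) e.symm z0
  have hk : sadj σ (k : Matrix ι ι F) * (k : Matrix ι ι F) = coordGram hσ P := by
    rw [hM, show (k : Matrix ι ι F) = Matrix.reindexAlgEquiv F F e.symm (z0 : Matrix _ _ F) from rfl, sadj_reindex,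
      ← map_mul]
    congr 1
    show sadj σ (_ ⊗ₖ _) * (_ ⊗ₖ _) = _
    rw [sadj_kronecker, ← Matrix.mul_kronecker_mul, hA0, hB0, Matrix.smul_kronecker, Matrix.kronecker_smul, smul_smul,
      mul_inv_cancel₀ hν0, one_smul]
  refine ⟨P * k⁻¹, mem_isoGroup_of_sadj ?_ hσ, conj_mem_map_conj ?_⟩
  · rw [Units.val_mul, sadj_mul, mul_assoc, ← mul_assoc (sadj σ (P : Matrix ι ι F)),
      show sadj σ (P : Matrix ι ι F) * (P : Matrix ι ι F) = (coordGram hσ P : Matrix ι ι F) from rfl, ← hk, mul_assoc,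
      Units.mul_inv, mul_one, ← sadj_mul, Units.mul_inv, sadj_one]
  · exact Subgroup.inv_mem _ ⟨z0, ⟨A0, B0, rfl⟩, rfl⟩

omit [Fintype F] in
theorem exists_prop_of_pw_eq {m t : ℕ} {As Bs : Fin t → Matrix (Fin m) (Fin m) F} {c : F}
    (hA : ∀ i, As i ≠ 0) (h : pw Bs = c • pw As) (hc : c ≠ 0) (i : Fin t) : ∃ l : F, Bs i = l • As i := by
  classical
  have : ∀ j, ∃ p : Fin m × Fin m, As j p.1 p.2 ≠ 0 := fun j => by
    by_contra! hcon
    exact hA j (Matrix.ext fun a b => hcon (a, b))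
  choose p hp using this
  have key : ∀ u v, Bs i u v * ∏ j ∈ Finset.univ.erase i, Bs j (p j).1 (p j).2 =
      c * (As i u v * ∏ j ∈ Finset.univ.erase i, As j (p j).1 (p j).2) := by
    intro u v
    have h1 := congrFun (congrFun h (Function.update (fun j => (p j).1) i u)) (Function.update (fun j => (p j).2) i v)
    simp only [Matrix.smul_apply, smul_eq_mul, pw_apply] at h1
    rw [← Finset.mul_prod_erase Finset.univ _ (Finset.mem_univ i),
      ← Finset.mul_prod_erase Finset.univ _ (Finset.mem_univ i)] at h1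
    simp only [Function.update_self] at h1
    have hu : ∀ X : Fin t → Matrix (Fin m) (Fin m) F, ∏ j ∈ Finset.univ.erase i,
        X j (Function.update (fun j => (p j).1) i u j) (Function.update (fun j => (p j).2) i v j) =
        ∏ j ∈ Finset.univ.erase i, X j (p j).1 (p j).2 := fun X => Finset.prod_congr rfl fun j hj => by
      rw [Function.update_of_ne (Finset.ne_of_mem_erase hj), Function.update_of_ne (Finset.ne_of_mem_erase hj)]
    rw [hu As, hu Bs] at h1
    exact h1
  set βB := ∏ j ∈ Finset.univ.erase i, Bs j (p j).1 (p j).2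
  set βA := ∏ j ∈ Finset.univ.erase i, As j (p j).1 (p j).2
  have hβA : βA ≠ 0 := Finset.prod_ne_zero_iff.2 fun j _ => hp j
  have hβB : βB ≠ 0 := fun h0 => by
    have h2 := key (p i).1 (p i).2
    rw [h0, mul_zero] at h2
    exact mul_ne_zero hc (mul_ne_zero (hp i) hβA) h2.symm
  refine ⟨c * βA / βB, Matrix.ext fun u v => ?_⟩
  rw [Matrix.smul_apply, smul_eq_mul, div_mul_eq_mul_div, eq_div_iff hβB]
  linear_combination key u v

omit [Fintype F] in
theorem eq_smul_pw [Finite F] {m t : ℕ} {g : GL (Fin t → Fin m) F}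
    (h : ∀ i X, ∃ Y, cj g (slot i X) = slot i Y) (hm : 0 < m) :
    ∃ (c : F) (gs : Fin t → GL (Fin m) F), c ≠ 0 ∧
      (g : Matrix (Fin t → Fin m) (Fin t → Fin m) F) = c • pw fun i => (gs i : Matrix (Fin m) (Fin m) F) := by
  classical
  choose α hα using h
  have hinj : ∀ i : Fin t, Function.Injective (slot (F := F) (m := m) i) := fun i X Y hXY => by
    ext u v
    have h1 := congrFun (congrFun hXY (Function.update (fun _ => (⟨0, hm⟩ : Fin m)) i u))
      (Function.update (fun _ => (⟨0, hm⟩ : Fin m)) i v)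
    simp only [slot, pw_apply] at h1
    rwa [Finset.prod_eq_single i (fun j _ hj => by simp [Function.update_of_ne hj]) (by simp),
      Finset.prod_eq_single i (fun j _ hj => by simp [Function.update_of_ne hj]) (by simp),
      Function.update_self, Function.update_self, Function.update_self, Function.update_self] at h1
  have hadd : ∀ (i : Fin t) (X Y : Matrix (Fin m) (Fin m) F), slot i (X + Y) = slot i X + slot i Y := fun i X Y => by
    ext a b
    simp only [slot, pw_apply, Matrix.add_apply]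
    rw [← Finset.mul_prod_erase _ _ (Finset.mem_univ i), ← Finset.mul_prod_erase _ _ (Finset.mem_univ i),
      ← Finset.mul_prod_erase _ _ (Finset.mem_univ i), Function.update_self, Function.update_self, Function.update_self,
      Matrix.add_apply, add_mul]
    congr 1 <;> refine congrArg _ (Finset.prod_congr rfl fun j hj => ?_) <;>
      rw [Function.update_of_ne (Finset.ne_of_mem_erase hj), Function.update_of_ne (Finset.ne_of_mem_erase hj)]
  have hsmul : ∀ (i : Fin t) (c : F) (X : Matrix (Fin m) (Fin m) F), slot i (c • X) = c • slot i X := fun i c X => by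
    rw [slot, slot, ← Fintype.prod_ite_eq' (ι := Fin t) i (fun _ => c), ← pw_smul]
    refine congrArg pw (funext fun j => ?_)
    by_cases hj : j = i
    · subst hj; simp
    · simp [Function.update_of_ne hj, hj]
  have hmul : ∀ (i : Fin t) (X Y : Matrix (Fin m) (Fin m) F), slot i (X * Y) = slot i X * slot i Y := fun i X Y => by
    rw [slot, slot, slot, pw_mul]
    refine congrArg pw (funext fun j => ?_)
    by_cases hj : j = i
    · subst hj; simp
    · simp [Function.update_of_ne hj]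
  have hone : ∀ i : Fin t, slot (F := F) (m := m) (t := t) i 1 = 1 := fun i => by
    rw [slot, ← pw_one]
    exact congrArg pw (Function.update_eq_self i _)
  have hg : ∀ i, ∃ gi : GL (Fin m) F, ∀ X, α i X = cj gi X := by
    intro i
    let A : Matrix (Fin m) (Fin m) F →ₐ[F] Matrix (Fin m) (Fin m) F := AlgHom.ofLinearMap
      { toFun := α i
        map_add' := fun X Y => hinj i (by rw [← hα, hadd, map_add, hα, hα, hadd])
        map_smul' := fun c X => hinj i (by rw [← hα, hsmul, map_smul, hα, RingHom.id_apply, hsmul]) }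
      (hinj i (show slot i (α i 1) = slot i 1 by rw [← hα, hone, map_one]))
      (fun X Y => hinj i (show slot i (α i (X * Y)) = slot i (α i X * α i Y) by
        rw [← hα, hmul, map_mul, hα, hα, hmul]))
    have hAinj : Function.Injective A := fun X Y hXY => hinj i ((cj g).injective (by
      rw [hα, hα]; exact congrArg (slot i) hXY))
    exact algEquiv_inner (AlgEquiv.ofBijective A (Finite.injective_iff_bijective.1 hAinj))
  choose gs hgs using hg
  obtain ⟨c, hc⟩ := exists_smul_of_commute_slot (D := (((pwGL gs)⁻¹ * g : GL _ F) : Matrix _ _ F)) fun i X =>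
    ((cj_mul_self ((pwGL gs)⁻¹ * g) (slot i X)).symm.trans (by
      rw [cj_mul, hα, hgs, ← pwGL_slot, cj_inv_self]))
  haveI : Nonempty (Fin t → Fin m) := ⟨fun _ => ⟨0, hm⟩⟩
  refine ⟨c, gs, fun h0 => ((pwGL gs)⁻¹ * g).ne_zero (by rw [hc, h0, zero_smul]), ?_⟩
  have h1 : (g : Matrix (Fin t → Fin m) (Fin t → Fin m) F) =
      (pwGL gs : Matrix _ _ F) * (((pwGL gs)⁻¹ * g : GL _ F) : Matrix _ _ F) := by
    rw [← Units.val_mul, mul_inv_cancel_left]
  rw [h1, hc, Matrix.mul_smul, mul_one]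
  rfl

/-- Adjoint-closed tensor power factors have coordinates in which the form is the standard one. -/
theorem exists_iso_wreath_coords (hσ : QAut q σ) {m t : ℕ} (hm : 0 < m) (ht : 0 < t) {e : ι ≃ (Fin t → Fin m)}
    {P : GL ι F}
    (hA : ∀ i X, ∃ Y, sadj σ (cj P (Matrix.reindexAlgEquiv F F e.symm (slot i X))) =
      cj P (Matrix.reindexAlgEquiv F F e.symm (slot i Y))) :
    ∃ (P' : GL ι F) (k : GL (Fin t → Fin m) F), P' ∈ isoGroup σ ∧ k ∈ Geo.tensorWreathStandard m t F ∧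
      (∀ i X, ∃ Y, cj k (slot i X) = slot i Y) ∧ P' = P * Geo.glReindex (F := F) e.symm k := by
  classical
  let ρ := Geo.glReindex (F := F) e.symm
  set M : GL (Fin t → Fin m) F := ρ.symm (coordGram hσ P) with hMdef
  have hρ : ∀ x : GL (Fin t → Fin m) F, (ρ x : Matrix ι ι F) = Matrix.reindexAlgEquiv F F e.symm (x : Matrix _ _ F) :=
    fun _ => rfl
  have hρM : ρ M = coordGram hσ P := ρ.apply_symm_apply _
  have hnorm : ∀ i X, ∃ Y, cj M⁻¹ (slot i X) = slot i Y := by
    intro i X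
    obtain ⟨Y, hY⟩ := hA i (sadj σ X)
    refine ⟨Y, (Matrix.reindexAlgEquiv F F e.symm).injective ?_⟩
    have h1 : Matrix.reindexAlgEquiv F F e.symm (slot i X) =
        sadj σ (Matrix.reindexAlgEquiv F F e.symm (slot i (sadj σ X))) := by
      rw [sadj_reindex, sadj_slot, sadj_sadj hσ]
    calc Matrix.reindexAlgEquiv F F e.symm (cj M⁻¹ (slot i X))
        = cj (ρ M)⁻¹ (Matrix.reindexAlgEquiv F F e.symm (slot i X)) := by
          rw [cj_apply, cj_apply, map_mul, map_mul, ← hρ, ← hρ, map_inv, map_inv, map_inv]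
      _ = _ := by rw [hρM, h1, ← cj_sadj_eq, hY, cj_inv_self]
  obtain ⟨c, gs, hc0, hgs⟩ := eq_smul_pw hnorm hm
  obtain ⟨c, gs, hc0, hgs⟩ : ∃ (c : F) (G : Fin t → GL (Fin m) F), c ≠ 0 ∧
      (M : Matrix _ _ F) = c • pw fun i => (G i : Matrix (Fin m) (Fin m) F) := by
    refine ⟨c⁻¹, fun i => (gs i)⁻¹, inv_ne_zero hc0, ?_⟩
    have h1 : ((M⁻¹ : GL _ F) : Matrix _ _ F) * (c⁻¹ • pw fun i => (((gs i)⁻¹ : GL (Fin m) F) : Matrix (Fin m) (Fin m) F)) = 1 := by
      rw [hgs, Matrix.smul_mul, Matrix.mul_smul, smul_smul, mul_inv_cancel₀ hc0, one_smul, pw_mul]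
      simp [pw_one]
    have h2 := congrArg ((M : Matrix _ _ F) * ·) h1
    simp only [← mul_assoc, Units.mul_inv, one_mul, mul_one] at h2
    exact h2.symm
  have hMs : sadj σ (M : Matrix _ _ F) = M := (Matrix.reindexAlgEquiv F F e.symm).injective (by
    rw [← sadj_reindex, ← hρ, hρM, sadj_coordGram])
  haveI : NeZero m := ⟨by omega⟩
  have hpw : pw (fun i => sadj σ (gs i : Matrix (Fin m) (Fin m) F)) =
      ((σ c)⁻¹ * c) • pw fun i => (gs i : Matrix (Fin m) (Fin m) F) := by
    rw [hgs, sadj_smul, sadj_pw] at hMs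
    rw [← smul_smul, ← hMs, inv_smul_smul₀ ((map_ne_zero σ).2 hc0)]
  have hl : ∀ i, ∃ l : F, sadj σ (gs i : Matrix (Fin m) (Fin m) F) = l • (gs i : Matrix (Fin m) (Fin m) F) :=
    exists_prop_of_pw_eq (fun i => (gs i).ne_zero) hpw (mul_ne_zero (inv_ne_zero ((map_ne_zero σ).2 hc0)) hc0)
  choose l hl using hl
  have hll : ∀ i, σ (l i) * l i = 1 := fun i => by
    have h1 := congrArg (sadj σ) (hl i)
    rw [sadj_sadj hσ, sadj_smul, hl, smul_smul] at h1
    exact (smul_left_injective F (gs i).ne_zero (by show (1 : F) • _ = _; rw [one_smul]; exact h1)).symm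
  choose ν hν0 hν using fun i => Classical22.Asch.exists_hermitian_scale hσ.ne hσ.invol (hll i)
  have hherm : ∀ i, sadj σ (ν i • (gs i : Matrix (Fin m) (Fin m) F)) = ν i • (gs i : Matrix (Fin m) (Fin m) F) :=
    fun i => by rw [sadj_smul, hl, smul_smul, hν]
  choose A0 hA0 using fun i =>
    exists_sadj_factor hσ (G := ν i • (gs i : Matrix (Fin m) (Fin m) F)) ((gs i).isUnit.smul (Units.mk0 _ (hν0 i))) (hherm i)
  set d : F := c * (∏ i, ν i)⁻¹ with hd
  have hν' : (∏ i, ν i) ≠ 0 := Finset.prod_ne_zero_iff.2 fun i _ => hν0 i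
  have hMd : (M : Matrix _ _ F) = d • pw fun i => ν i • (gs i : Matrix (Fin m) (Fin m) F) := by
    rw [pw_smul, smul_smul, hd, mul_assoc, inv_mul_cancel₀ hν', mul_one, hgs]
  have hσd : σ d = d := by
    have h1 := hMs
    rw [hMd, sadj_smul, sadj_pw] at h1
    simp only [hherm] at h1
    refine smul_left_injective F ?_ h1
    haveI : Nonempty (Fin t → Fin m) := ⟨fun _ => 0⟩
    exact (isUnit_pw fun i => (gs i).isUnit.smul (Units.mk0 _ (hν0 i))).ne_zero
  obtain ⟨x, hx⟩ := hσ.exists_norm hσd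
  have hx0 : x ≠ 0 := fun h0 => by
    rw [h0, zero_mul] at hx
    exact mul_ne_zero hc0 (inv_ne_zero hν') (hd ▸ hx.symm)
  let As : Fin t → GL (Fin m) F := Function.update A0 ⟨0, ht⟩
    (Units.map (Matrix.scalar (Fin m) : F →+* Matrix (Fin m) (Fin m) F).toMonoidHom (Units.mk0 x hx0) * A0 ⟨0, ht⟩)
  have hAs : ∀ i, sadj σ (As i : Matrix (Fin m) (Fin m) F) * (As i : Matrix (Fin m) (Fin m) F) =
      (if i = (⟨0, ht⟩ : Fin t) then d else 1) • (ν i • (gs i : Matrix (Fin m) (Fin m) F)) := by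
    intro i
    by_cases hi : i = ⟨0, ht⟩
    · subst hi
      simp only [As, Function.update_self, Units.val_mul, if_true]
      have hsc : ((Units.map (Matrix.scalar (Fin m) : F →+* Matrix (Fin m) (Fin m) F).toMonoidHom (Units.mk0 x hx0) :
          GL (Fin m) F) : Matrix (Fin m) (Fin m) F) = x • 1 := by simp [Matrix.smul_one_eq_diagonal]
      rw [hsc, Matrix.smul_mul, one_mul, sadj_smul, Matrix.smul_mul, Matrix.mul_smul, hA0, smul_smul, ← hx,
        mul_comm (σ x)]
    · simp only [As, Function.update_of_ne hi, if_neg hi, one_smul, hA0]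
  let k : GL ι F := ρ (pwGL As)
  have hk : sadj σ (k : Matrix ι ι F) * (k : Matrix ι ι F) = coordGram hσ P := by
    rw [← hρM, hρ, hρ, sadj_reindex, ← map_mul]
    congr 1
    show sadj σ (pw _) * pw _ = _
    rw [sadj_pw, pw_mul, hMd, show (fun i => sadj σ (As i : Matrix (Fin m) (Fin m) F) * (As i : Matrix (Fin m) (Fin m) F)) =
      fun i => (if i = (⟨0, ht⟩ : Fin t) then d else 1) • (ν i • (gs i : Matrix (Fin m) (Fin m) F)) from funext hAs,
      pw_smul, Finset.prod_ite_eq' Finset.univ, if_pos (Finset.mem_univ _)]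
  refine ⟨P * k⁻¹, (pwGL As)⁻¹, mem_isoGroup_of_sadj ?_ hσ,
    Subgroup.inv_mem _ (Subgroup.subset_closure (Or.inl (isPureTensor_iff.2 ⟨As, rfl⟩))), fun i X => ?_, ?_⟩
  · rw [Units.val_mul, sadj_mul, mul_assoc, ← mul_assoc (sadj σ (P : Matrix ι ι F)),
      show sadj σ (P : Matrix ι ι F) * (P : Matrix ι ι F) = (coordGram hσ P : Matrix ι ι F) from rfl, ← hk, mul_assoc,
      Units.mul_inv, mul_one, ← sadj_mul, Units.mul_inv, sadj_one]
  · exact ⟨_, (show (pwGL As)⁻¹ = pwGL (fun j => (As j)⁻¹) from Units.ext rfl) ▸ pwGL_slot (fun j => (As j)⁻¹) i X⟩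
  · rw [map_inv]

theorem isUnitaryFormPow_gf_one (hσ : QAut q σ) (k : ℕ) :
    Geo.IsUnitaryFormPow q (gf σ.toRingHom (1 : Matrix (Fin k) (Fin k) F)) := by
  have h := isUnitaryForm_gf hσ.ne hσ.invol (G := (1 : Matrix (Fin k) (Fin k) F)) isUnit_one
    (by rw [Matrix.map_one σ (map_zero σ) (map_one σ), Matrix.transpose_one])
  exact ⟨h.add_left, h.smul_left, fun v w => by rw [← hσ.apply]; exact h.herm v w, h.nondegenerate⟩

theorem gramMatrix_gf (σ : F →+* F) (G : Matrix ι ι F) : Geo.gramMatrix (gf σ G) = G :=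
  Matrix.ext fun i j => gf_single σ G i j

theorem hermForm_coord (hσ : QAut q σ) {κ : Type} [Fintype κ] [DecidableEq κ] (e : Fin n ≃ κ) {P : GL (Fin n) F}
    (hP : P ∈ isoGroup σ) (x y : κ → F) :
    hermForm n F q ((P : Matrix (Fin n) (Fin n) F) *ᵥ (x ∘ e)) ((P : Matrix (Fin n) (Fin n) F) *ᵥ (y ∘ e)) =
      ∑ a, ∑ b, x a * (1 : Matrix κ κ F) a b * (y b) ^ q := by
  rw [hermForm_eq_gf hσ, gf_isometry hP, gf, Matrix.one_mulVec]
  simp only [Matrix.one_apply, mul_ite, mul_one, mul_zero, ite_mul, zero_mul, Finset.sum_ite_eq, Finset.mem_univ,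
    if_true, dotProduct, Function.comp_apply]
  rw [← e.sum_comp]
  simp [hσ.apply]

theorem unitaryGeometric_of_wreathTwo (hσ : QAut q σ) (hn : 0 < n) {H : Subgroup (GL (Fin n) F)} (hH : H ≤ GU n F q)
    {t : ℕ} (ht : 0 < t) {e : Fin n ≃ (Fin t → Fin 2)} {P : GL (Fin n) F} (hP : P ∈ isoGroup σ)
    (hle : H ≤ Geo.tensorWreathSubgroup 2 t e P) : UnitaryGeometric q H := by
  classical
  refine unitaryGeometric_of_bilinear hσ hn hH (isUnit_jGram e P) (jGram_transpose e P) (neg_one_pow_eq_or F t)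
    (fun h => jGram_diag ht ?_ e P) (δ := (-1 : F) ^ t) ?_ (hle.trans (tensorWreath_two_le_similarity e P))
  · rcases h with h | h
    · rcases neg_one_pow_eq_or F t with h1 | h1
      · rw [h1]; linear_combination h
      · exact h1
    · exact h
  · set Q : Matrix (Fin n) (Fin n) F := ((P⁻¹ : GL (Fin n) F) : Matrix (Fin n) (Fin n) F)
    set J : Matrix (Fin n) (Fin n) F := (jPow F t).submatrix e e
    have hQ : Qᵀ * Q.map σ = 1 := (isoGroup σ).inv_mem hP
    have hQQ : ((Q.map σ)).map σ = Q := by ext; simp [hσ.invol]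
    have hQ2 : Q * (Q.map σ)ᵀ = 1 := by
      have h1 := congrArg (fun M : Matrix (Fin n) (Fin n) F => M.map σ) (mul_eq_one_comm.1 hQ)
      simp only [Matrix.map_mul, hQQ, Matrix.map_one σ (map_zero σ) (map_one σ), Matrix.transpose_map] at h1
      exact h1
    have hJσ : J.map σ = J := by
      ext a b
      simp only [J, Matrix.map_apply, Matrix.submatrix_apply, jPow, pw_apply, map_prod]
      refine Finset.prod_congr rfl fun i _ => ?_
      generalize e a i = u
      generalize e b i = v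
      fin_cases u <;> fin_cases v <;> simp [jTwo]
    have hJJ : J * J = ((-1 : F) ^ t) • 1 := by
      have h2 : (fun _ : Fin t => jTwo F * jTwo F) = fun _ : Fin t => (-1 : F) • (1 : Matrix (Fin 2) (Fin 2) F) := by
        funext _
        ext a b
        fin_cases a <;> fin_cases b <;> simp [jTwo]
      rw [Matrix.submatrix_mul_equiv, jPow, pw_mul, h2, pw_smul, pw_one, Finset.prod_const, Finset.card_univ,
        Fintype.card_fin, Matrix.submatrix_smul]
      simp
    show Qᵀ * J * Q * (Qᵀ * J * Q).map σ = _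
    rw [Matrix.map_mul, Matrix.map_mul, hJσ, Matrix.transpose_map]
    calc Qᵀ * J * Q * ((Q.map σ)ᵀ * J * Q.map σ) = Qᵀ * (J * (Q * (Q.map σ)ᵀ) * J) * Q.map σ := by
          simp only [mul_assoc]
      _ = _ := by rw [hQ2, mul_one, hJJ, Matrix.mul_smul, Matrix.smul_mul, mul_one, hQ]

/-- A tensor power structure compatible with the form gives a member. -/
theorem unitaryGeometric_of_wreathIso (hσ : QAut q σ) (hn : 0 < n) {H : Subgroup (GL (Fin n) F)} (hH : H ≤ GU n F q)
    {m t : ℕ} (hm : 2 ≤ m) (ht : 2 ≤ t) (hex : ¬ (q = 2 ∧ m = 3)) {e : Fin n ≃ (Fin t → Fin m)} {P : GL (Fin n) F}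
    (hP : P ∈ isoGroup σ) (hle : H ≤ Geo.tensorWreathSubgroup m t e P) : UnitaryGeometric q H := by
  rcases eq_or_lt_of_le hm with rfl | hm3
  · exact unitaryGeometric_of_wreathTwo hσ hn hH (by omega) hP hle
  · refine ⟨_, Or.inr (Or.inr (Or.inr ⟨m, t, e, P, _, hm3, ht, hex, isUnitaryFormPow_gf_one hσ m,
      ⟨1, one_ne_zero, fun x y => ?_⟩, rfl⟩)), le_inf hle hH⟩
    rw [one_mul, hermForm_coord hσ e hP, gramMatrix_gf, ← pw_one]
    rfl

/-- A tensor product structure compatible with the form gives a member. -/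
theorem unitaryGeometric_of_tensorIso (hσ : QAut q σ) (hn : 0 < n) {H : Subgroup (GL (Fin n) F)} (hH : H ≤ GU n F q)
    {a b : ℕ} (ha : 2 ≤ a) (hb : 2 ≤ b) (hex : ¬ (q = 2 ∧ a = 3 ∧ b = 3)) {e : Fin n ≃ Fin a × Fin b}
    {P : GL (Fin n) F} (hP : P ∈ isoGroup σ) (hle : H ≤ Geo.tensorProductSubgroup a b e P) :
    UnitaryGeometric q H := by
  have c4 : ∀ (a b : ℕ), 2 ≤ a → a < b → ∀ e : Fin n ≃ Fin a × Fin b,
      H ≤ Geo.tensorProductSubgroup a b e P → UnitaryGeometric q H := by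
    intro a b ha hab e hle
    refine ⟨_, Or.inr (Or.inr (Or.inl ⟨a, b, e, P, _, _, ha, hab, isUnitaryFormPow_gf_one hσ a,
      isUnitaryFormPow_gf_one hσ b, ⟨1, one_ne_zero, fun x y => ?_⟩, rfl⟩)), le_inf hle hH⟩
    rw [one_mul, hermForm_coord hσ e hP, gramMatrix_gf, gramMatrix_gf, Matrix.one_kronecker_one]
    rfl
  rcases lt_trichotomy a b with h | rfl | h
  · exact c4 a b ha h e hle
  · exact unitaryGeometric_of_wreathIso hσ hn hH ha le_rfl (fun h => hex ⟨h.1, h.2, h.2⟩) hP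
      (hle.trans (tensorProduct_le_wreath e P))
  · exact c4 b a hb h _ (hle.trans (tensorProduct_le_swap e P))

end CfsgLib.Aschbacher
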