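import Cfsg.Agent.Lib.Classical.SmallIso.SUThreeTwo

/-!
# The extraspecial group of order 27 in the three-dimensional unitary group over four elements
-/

set_option autoImplicit false

namespace CfsgLib.Aschbacher.TwoThree

open Matrix CfsgLib.Classical.SmallIso

/-- The elements of the group of order 27. -/
def elt (a : ZMod 3 × ZMod 3 × ZMod 3) : Matrix (Fin 3) (Fin 3) W4 := sc3 a.1 * heis a.2

/-- The adjoint. -/
def adj (Y : Matrix (Fin 3) (Fin 3) W4) : Matrix (Fin 3) (Fin 3) W4 := (Y.map W4.sq)ᵀ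

theorem elt_one : elt 0 = 1 := by decide +kernel

theorem elt_gens : ∀ a : ZMod 3 × ZMod 3 × ZMod 3,
    elt a = elt (1, 0, 0) ^ a.1.val * elt (0, 1, 0) ^ a.2.1.val * elt (0, 0, 1) ^ a.2.2.val := by decide +kernel

theorem heis_zero : heis (0 : ZMod 3 × ZMod 3) = 1 := by decide +kernel

theorem sc3_add : ∀ k l : ZMod 3, sc3 k * sc3 l = sc3 (k + l) := by decide +kernel

theorem sc3_comm (k : ZMod 3) (Z : Matrix (Fin 3) (Fin 3) W4) : sc3 k * Z = Z * sc3 k := by
  rw [sc3]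
  exact (Matrix.scalar_commute _ (fun r => Commute.all _ r) Z).eq

theorem elt_mul (a b : ZMod 3 × ZMod 3 × ZMod 3) : ∃ c, elt a * elt b = elt c := by
  obtain ⟨k, hk⟩ := heis_mul a.2 b.2
  refine ⟨(a.1 + b.1 + k, a.2 + b.2), ?_⟩
  calc elt a * elt b = sc3 a.1 * (heis a.2 * sc3 b.1) * heis b.2 := by simp only [elt, mul_assoc]
    _ = sc3 a.1 * sc3 b.1 * (heis a.2 * heis b.2) := by rw [← sc3_comm]; simp only [mul_assoc]
    _ = _ := by rw [hk, ← mul_assoc, sc3_add, sc3_add]; rfl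

theorem elt_cube : ∀ a, elt a * elt a * elt a = 1 := by decide +kernel

theorem elt_unitary : ∀ a, adj (elt a) * elt a = 1 := by decide +kernel

theorem elt_sep : ∀ (x y : ZMod 3 × ZMod 3) (k : ZMod 3), heis x = sc3 k * heis y → x = y ∧ k = 0 := by
  decide +kernel

theorem elt_single : ∀ i j : Fin 3, (Matrix.single i j 1 : Matrix (Fin 3) (Fin 3) W4) =
    elt (0, 0, (i.val : ZMod 3)) * (elt 0 + elt (0, 1, 0) + elt (0, 2, 0)) * elt (0, 0, -(j.val : ZMod 3)) := by
  decide +kernel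

theorem qA_unitary : adj qA * qA = 1 ∧ qA * adj qA = 1 := by decide +kernel

theorem elt_noncomm : ∀ a : ZMod 3 × ZMod 3 × ZMod 3, a.2 ≠ 0 →
    qA * elt a * adj qA * elt a ≠ elt a * (qA * elt a * adj qA) := by decide +kernel

/-- The matrix normalises the group. -/
def Norm (Y : Matrix (Fin 3) (Fin 3) W4) : Prop := ∀ a, ∃ c, Y * elt a * adj Y = elt c

theorem adj_mul (X Y : Matrix (Fin 3) (Fin 3) W4) : adj (X * Y) = adj Y * adj X := by
  simp [adj, Matrix.map_mul, Matrix.transpose_mul]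

theorem Norm.mul {X Y : Matrix (Fin 3) (Fin 3) W4} (hX : Norm X) (hY : Norm Y) : Norm (X * Y) := by
  intro a
  obtain ⟨b, hb⟩ := hY a
  obtain ⟨c, hc⟩ := hX b
  exact ⟨c, by rw [← hc, ← hb, adj_mul]; simp only [mul_assoc]⟩

theorem elt_scalar (k : ZMod 3) (Z : Matrix (Fin 3) (Fin 3) W4) : elt (k, 0) * Z = Z * elt (k, 0) := by
  rw [elt, show heis 0 = 1 by decide +kernel, mul_one, sc3_comm]

theorem norm_of_gens {Y : Matrix (Fin 3) (Fin 3) W4} (hY : adj Y * Y = 1)
    (hD : ∃ c, Y * elt (0, 1, 0) * adj Y = elt c) (hC : ∃ c, Y * elt (0, 0, 1) * adj Y = elt c) : Norm Y := by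
  have hY' : Y * adj Y = 1 := mul_eq_one_comm.1 hY
  let S : Matrix (Fin 3) (Fin 3) W4 → Prop := fun M => ∃ c, Y * M * adj Y = elt c
  have hmul : ∀ M N, S M → S N → S (M * N) := by
    rintro M N ⟨c, hc⟩ ⟨d, hd⟩
    obtain ⟨e, he⟩ := elt_mul c d
    refine ⟨e, ?_⟩
    rw [← he, ← hc, ← hd]
    calc Y * (M * N) * adj Y = Y * M * 1 * (N * adj Y) := by simp only [mul_assoc, one_mul]
      _ = _ := by rw [← hY]; simp only [mul_assoc]
  have hpow : ∀ M, S M → ∀ k : ℕ, S (M ^ k) := by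
    intro M hM k
    induction k with
    | zero => exact ⟨0, by rw [pow_zero, mul_one, hY', elt_one]⟩
    | succ k ih => rw [pow_succ]; exact hmul _ _ ih hM
  intro a
  rw [elt_gens a]
  refine hmul _ _ (hmul _ _ (hpow _ ⟨(1, 0, 0), ?_⟩ _) (hpow _ hD _)) (hpow _ hC _)
  have hz := elt_scalar 1 Y
  rw [show ((1, 0) : ZMod 3 × ZMod 3 × ZMod 3) = (1, 0, 0) from rfl] at hz
  rw [← hz, mul_assoc, hY', mul_one]

/-- A column. -/
abbrev V := W4 × W4 × W4

/-- The hermitian product of columns. -/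
def ip (a b : V) : W4 := a.1 * W4.sq b.1 + a.2.1 * W4.sq b.2.1 + a.2.2 * W4.sq b.2.2

/-- The matrix with given columns. -/
def mat (a b c : V) : Matrix (Fin 3) (Fin 3) W4 := !![a.1, b.1, c.1; a.2.1, b.2.1, c.2.1; a.2.2, b.2.2, c.2.2]

/-- A column with one non-zero entry. -/
def cv (i : Fin 3) (k : ZMod 3) : V :=
  (if i = 0 then W4.w ^ k.val else 0, if i = 1 then W4.w ^ k.val else 0, if i = 2 then W4.w ^ k.val else 0)

theorem col_cases : ∀ a : V, ip a a = 1 → (∃ i k, a = cv i k) ∨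
    ∃ k l m : ZMod 3, a = (W4.w ^ k.val, W4.w ^ l.val, W4.w ^ m.val) := by decide +kernel

theorem col_single_check : ∀ (b : V), ∀ i : Fin 3, ∀ k : ZMod 3, ¬ (ip b b = 1) ∨ ¬ (ip (cv i k) b = 0) ∨
    ∃ j l, (¬ j = i) ∧ b = cv j l := by decide +kernel

theorem col_single (i : Fin 3) (k : ZMod 3) (b : V) (h : ip (cv i k) b = 0) (hb : ip b b = 1) :
    ∃ j l, j ≠ i ∧ b = cv j l :=
  ((col_single_check b i k).resolve_left (not_not.2 hb)).resolve_left (not_not.2 h)

theorem single_orth : ∀ (i j : Fin 3) (k l : ZMod 3), ip (cv i k) (cv j l) = 0 → i ≠ j := by decide +kernel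

theorem single_unit : ∀ (i j m : Fin 3) (k l o : ZMod 3), i ≠ j → i ≠ m → j ≠ m →
    adj (mat (cv i k) (cv j l) (cv m o)) * mat (cv i k) (cv j l) (cv m o) = 1 := by decide +kernel

theorem single_gens : ∀ (i j m : Fin 3) (k l o : ZMod 3), i ≠ j → i ≠ m → j ≠ m →
    (∃ c, mat (cv i k) (cv j l) (cv m o) * elt (0, 1, 0) * adj (mat (cv i k) (cv j l) (cv m o)) = elt c) ∧
      ∃ c, mat (cv i k) (cv j l) (cv m o) * elt (0, 0, 1) * adj (mat (cv i k) (cv j l) (cv m o)) = elt c := by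
  decide +kernel

theorem qA_gens : (∃ c, qA * elt (0, 1, 0) * adj qA = elt c) ∧ ∃ c, qA * elt (0, 0, 1) * adj qA = elt c := by
  decide +kernel

theorem first_col : ∀ k l m : ZMod 3, (adj qA * mat (cv 0 (-k)) (cv 1 (-l)) (cv 2 (-m))).mulVec
    ![W4.w ^ k.val, W4.w ^ l.val, W4.w ^ m.val] = ![1, 0, 0] := by decide +kernel

theorem norm_mono {a b c : V} (ha : ∃ i k, a = cv i k) (hb1 : ip b b = 1) (hab : ip a b = 0) (hc1 : ip c c = 1)
    (hac : ip a c = 0) (hbc : ip b c = 0) : Norm (mat a b c) := by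
  obtain ⟨i, k, rfl⟩ := ha
  obtain ⟨j, l, hji, rfl⟩ := col_single i k b hab hb1
  obtain ⟨m, o, hmi, rfl⟩ := col_single i k c hac hc1
  have hjm := single_orth j m l o hbc
  have h := single_gens i j m k l o hji.symm hmi.symm hjm
  exact norm_of_gens (single_unit i j m k l o hji.symm hmi.symm hjm) h.1 h.2

/-- Every unitary matrix normalises the group. -/
theorem norm_of_unitary {Y : Matrix (Fin 3) (Fin 3) W4} (hY : Yᵀ * Y.map W4.sq = 1) : Norm Y := by
  have hcases : ∀ Z : Matrix (Fin 3) (Fin 3) W4, Zᵀ * Z.map W4.sq = 1 →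
      (∃ i k, ((Z 0 0, Z 1 0, Z 2 0) : V) = cv i k) → Norm Z := by
    intro Z hZ h
    have hip : ∀ i j, ip (Z 0 i, Z 1 i, Z 2 i) (Z 0 j, Z 1 j, Z 2 j) = (1 : Matrix (Fin 3) (Fin 3) W4) i j :=
      fun i j => by rw [← hZ, Matrix.mul_apply, Fin.sum_univ_three]; rfl
    have hm : mat (Z 0 0, Z 1 0, Z 2 0) (Z 0 1, Z 1 1, Z 2 1) (Z 0 2, Z 1 2, Z 2 2) = Z := by
      ext i j; fin_cases i <;> fin_cases j <;> rfl
    rw [← hm]
    exact norm_mono h (hip 1 1) (hip 0 1) (hip 2 2) (hip 0 2) (hip 1 2)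
  rcases col_cases (Y 0 0, Y 1 0, Y 2 0) (by
      show _ = (1 : Matrix (Fin 3) (Fin 3) W4) 0 0
      rw [← hY, Matrix.mul_apply, Fin.sum_univ_three]; rfl) with h | ⟨k, l, m, h⟩
  · exact hcases Y hY h
  obtain ⟨D, hD⟩ : ∃ D, D = mat (cv 0 (-k)) (cv 1 (-l)) (cv 2 (-m)) := ⟨_, rfl⟩
  have hDu : adj D * D = 1 := hD ▸ single_unit 0 1 2 _ _ _ (by decide) (by decide) (by decide)
  have hDi : adj D = mat (cv 0 k) (cv 1 l) (cv 2 m) := by
    rw [hD]
    revert k l m
    intro k l m _ _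
    have : ∀ k l m : ZMod 3, adj (mat (cv 0 (-k)) (cv 1 (-l)) (cv 2 (-m))) = mat (cv 0 k) (cv 1 l) (cv 2 m) := by
      decide +kernel
    exact this k l m
  have hND : Norm (adj D) := by
    rw [hDi]
    have h' := single_gens 0 1 2 k l m (by decide) (by decide) (by decide)
    exact norm_of_gens (single_unit 0 1 2 k l m (by decide) (by decide) (by decide)) h'.1 h'.2
  have hNq : Norm qA := norm_of_gens qA_unitary.1 qA_gens.1 qA_gens.2
  have hZ : Norm (adj qA * D * Y) := by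
    refine hcases _ ?_ ?_
    · have hu : ∀ X : Matrix (Fin 3) (Fin 3) W4, adj X * X = 1 → Xᵀ * X.map W4.sq = 1 := by
        intro X hX
        have h1 := congrArg (fun M : Matrix (Fin 3) (Fin 3) W4 => M.map W4.sq) hX
        have hsq : ∀ M : Matrix (Fin 3) (Fin 3) W4, (M.map W4.sq).map W4.sq = M := fun M => by
          ext i j
          exact (by decide +kernel : ∀ x : W4, W4.sq (W4.sq x) = x) _
        simp only [adj, Matrix.map_mul, Matrix.map_one W4.sq (map_zero _) (map_one _), Matrix.transpose_map,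
          hsq] at h1
        exact h1
      have h1 := hu (adj qA) (by
        have : adj (adj qA) = qA := by decide +kernel
        rw [this]; exact qA_unitary.2)
      have h2 := hu D hDu
      simp only [Matrix.transpose_mul, Matrix.map_mul]
      calc Yᵀ * (Dᵀ * (adj qA)ᵀ) * ((adj qA).map W4.sq * D.map W4.sq * Y.map W4.sq)
          = Yᵀ * (Dᵀ * ((adj qA)ᵀ * (adj qA).map W4.sq) * D.map W4.sq) * Y.map W4.sq := by simp only [mul_assoc]
        _ = _ := by rw [h1, mul_one, h2, mul_one, hY]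
    · refine ⟨0, 0, ?_⟩
      have h1 := first_col k l m
      simp only [Prod.mk.injEq] at h
      have hvec : (fun i => Y i 0) = ![W4.w ^ k.val, W4.w ^ l.val, W4.w ^ m.val] := by
        funext i; fin_cases i
        exacts [h.1, h.2.1, h.2.2]
      rw [← hvec, ← hD] at h1
      have h2 : ∀ i, (adj qA * D * Y) i 0 = ![(1 : W4), 0, 0] i := fun i => by rw [← h1]; rfl
      rw [h2, h2, h2]
      rfl
  have hYeq : Y = adj D * (qA * (adj qA * D * Y)) := by
    rw [← mul_assoc qA, ← mul_assoc qA, qA_unitary.2, one_mul, ← mul_assoc, hDu, one_mul]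
  rw [hYeq]
  exact hND.mul (hNq.mul hZ)

end CfsgLib.Aschbacher.TwoThree
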