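import Cfsg.Agent.Lib.Aschbacher.UnitaryTensor
import Cfsg.Agent.Lib.Aschbacher.UnitaryTwoThreeModel

/-!
# Tensor squares of the three-dimensional unitary space over four elements: a class six member
-/

set_option autoImplicit false

namespace CfsgLib.Aschbacher

open Matrix Module Cfsg
open scoped MatrixGroups Kronecker
open CfsgLib.Classical.SmallIso (W4)

variable {F : Type*} [Field F] [Fintype F] {σ : F ≃+* F} {n : ℕ}

namespace TwoThree

/-- The model data transported to the field. -/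
structure Model (σ : F ≃+* F) (φ : W4 →+* F) : Prop where
  bij : Function.Bijective φ
  sq : ∀ x, φ (W4.sq x) = σ (φ x)

omit [Fintype F] in
theorem Model.adj {φ : W4 →+* F} (hφ : Model σ φ) (Y : Matrix (Fin 3) (Fin 3) W4) :
    φ.mapMatrix (TwoThree.adj Y) = sadj σ (φ.mapMatrix Y) := by
  ext i j
  simp [TwoThree.adj, sadj, hφ.sq]

theorem exists_model (hσ : QAut 2 σ) : ∃ φ : W4 →+* F, Model σ φ := by
  have hF : Fintype.card F = 4 := hσ.card
  obtain ⟨φ, hinj, hsq⟩ := W4.exists_hom hF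
  refine ⟨φ, ⟨hinj, ?_⟩, fun x => by rw [hsq, hσ.apply]⟩
  exact ((Fintype.bijective_iff_injective_and_card φ).2 ⟨hinj, by rw [hF]; rfl⟩).2

variable {φ : W4 →+* F}

/-- Membership in the group of order 27. -/
def InR (φ : W4 →+* F) (M : Matrix (Fin 3) (Fin 3) F) : Prop := ∃ a, M = φ.mapMatrix (elt a)

theorem inR_mul {M M' : Matrix (Fin 3) (Fin 3) F} (h : InR φ M) (h' : InR φ M') : InR φ (M * M') := by
  obtain ⟨a, rfl⟩ := h
  obtain ⟨b, rfl⟩ := h'
  obtain ⟨c, hc⟩ := elt_mul a b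
  exact ⟨c, by rw [← map_mul, hc]⟩

theorem inR_pow {M : Matrix (Fin 3) (Fin 3) F} (h : InR φ M) : ∀ k : ℕ, InR φ (M ^ k)
  | 0 => ⟨0, by rw [pow_zero, elt_one, map_one]⟩
  | k + 1 => by rw [pow_succ]; exact inR_mul (inR_pow h k) h

/-- The group of order 27. -/
def R3 (φ : W4 →+* F) : Subgroup (GL (Fin 3) F) where
  carrier := {g | InR φ (g : Matrix (Fin 3) (Fin 3) F)}
  mul_mem' ha hb := inR_mul ha hb
  one_mem' := ⟨0, by rw [Units.val_one, elt_one, map_one]⟩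
  inv_mem' {g} hg := by
    obtain ⟨a, ha⟩ := hg
    have h1 : (g : Matrix (Fin 3) (Fin 3) F) * (g : Matrix (Fin 3) (Fin 3) F) ^ 2 = 1 := by
      rw [ha, ← map_pow, ← map_mul, pow_two, ← mul_assoc, elt_cube, map_one]
    have h2 : ((g⁻¹ : GL (Fin 3) F) : Matrix (Fin 3) (Fin 3) F) = (g : Matrix (Fin 3) (Fin 3) F) ^ 2 :=
      (g.eq_inv_of_mul_eq_one_right (mul_eq_one_comm.1 h1)).symm
    show InR φ ((g⁻¹ : GL (Fin 3) F) : Matrix (Fin 3) (Fin 3) F)
    rw [h2]
    exact inR_pow ⟨a, ha⟩ 2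

/-- The unit of an element. -/
def eltGL (φ : W4 →+* F) (a : ZMod 3 × ZMod 3 × ZMod 3) : GL (Fin 3) F :=
  ⟨φ.mapMatrix (elt a), φ.mapMatrix (elt a * elt a),
    by rw [← map_mul, ← mul_assoc, elt_cube, map_one], by rw [← map_mul, elt_cube, map_one]⟩

theorem eltGL_mem (φ : W4 →+* F) (a : ZMod 3 × ZMod 3 × ZMod 3) : eltGL φ a ∈ R3 φ := ⟨a, rfl⟩

theorem eq_eltGL {g : GL (Fin 3) F} (hg : g ∈ R3 φ) : ∃ a, g = eltGL φ a := by
  obtain ⟨a, ha⟩ := hg
  exact ⟨a, Units.ext ha⟩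

theorem R3_le_iso (hσ : QAut 2 σ) (hφ : Model σ φ) : R3 φ ≤ isoGroup σ := fun g hg => by
  obtain ⟨a, rfl⟩ := eq_eltGL hg
  refine mem_isoGroup_of_sadj ?_ hσ
  show sadj σ (φ.mapMatrix (elt a)) * φ.mapMatrix (elt a) = 1
  rw [← hφ.adj, ← map_mul, elt_unitary, map_one]

theorem R3_cube {g : GL (Fin 3) F} (hg : g ∈ R3 φ) : g ^ 3 = 1 := by
  obtain ⟨a, rfl⟩ := eq_eltGL hg
  refine Units.ext ?_
  rw [Units.val_pow_eq_pow_val, pow_succ, pow_two]
  show φ.mapMatrix (elt a) * φ.mapMatrix (elt a) * φ.mapMatrix (elt a) = 1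
  rw [← map_mul, ← map_mul, elt_cube, map_one]

theorem R3_full : Full (R3 φ) := by
  refine top_le_iff.1 fun X _ => ?_
  rw [Matrix.matrix_eq_sum_single X]
  refine Subalgebra.sum_mem _ fun i _ => Subalgebra.sum_mem _ fun j _ => ?_
  rw [show Matrix.single i j (X i j) = X i j • Matrix.single i j (1 : F) by rw [Matrix.smul_single, smul_eq_mul, mul_one]]
  refine Subalgebra.smul_mem _ ?_ _
  have h1 := congrArg φ.mapMatrix (elt_single i j)
  rw [RingHom.mapMatrix_apply, Matrix.map_single, map_one φ] at h1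
  rw [h1, map_mul, map_mul, map_add, map_add]
  have hm : ∀ a, φ.mapMatrix (elt a) ∈ alg (R3 φ) := fun a => coe_mem_alg (eltGL_mem φ a)
  exact mul_mem (mul_mem (hm _) (add_mem (add_mem (hm _) (hm _)) (hm _))) (hm _)

/-- The isometries normalise the group. -/
theorem iso_normalises (hσ : QAut 2 σ) (hφ : Model σ φ) {g : GL (Fin 3) F} (hg : g ∈ isoGroup σ) {x : GL (Fin 3) F}
    (hx : x ∈ R3 φ) : g * x * g⁻¹ ∈ R3 φ := by
  obtain ⟨Y, hY⟩ : ∃ Y : Matrix (Fin 3) (Fin 3) W4, φ.mapMatrix Y = (g : Matrix (Fin 3) (Fin 3) F) := by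
    choose inv hinv using hφ.bij.2
    exact ⟨(g : Matrix (Fin 3) (Fin 3) F).map inv, by ext i j; simp [hinv]⟩
  have hginv : ((g⁻¹ : GL (Fin 3) F) : Matrix (Fin 3) (Fin 3) F) = φ.mapMatrix (TwoThree.adj Y) := by
    rw [hφ.adj, hY, sadj_coe hσ hg]
  have hU : Yᵀ * Y.map W4.sq = 1 := by
    refine Matrix.map_injective hφ.bij.1 ?_
    show φ.mapMatrix (Yᵀ * Y.map W4.sq) = φ.mapMatrix 1
    rw [map_mul, map_one, ← mem_isoGroup.1 hg]
    congr 1
    · rw [← hY]; rfl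
    · rw [← hY]; ext i j; simp [hφ.sq]
  obtain ⟨a, rfl⟩ := eq_eltGL hx
  obtain ⟨c, hc⟩ := norm_of_unitary hU a
  refine ⟨c, ?_⟩
  rw [Units.val_mul, Units.val_mul, hginv, ← hY]
  show φ.mapMatrix Y * φ.mapMatrix (elt a) * φ.mapMatrix (TwoThree.adj Y) = _
  rw [← map_mul, ← map_mul, hc]

theorem kronecker_eq {a b : ℕ} {A A' : Matrix (Fin a) (Fin a) F} {B B' : Matrix (Fin b) (Fin b) F}
    (hA : A ≠ 0) (hB : B ≠ 0) (h : A ⊗ₖ B = A' ⊗ₖ B') : ∃ c : F, c ≠ 0 ∧ A' = c • A ∧ B = c • B' := by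
  obtain ⟨i, j, hij⟩ : ∃ i j, A i j ≠ 0 := by by_contra! hc; exact hA (Matrix.ext hc)
  obtain ⟨k, l, hkl⟩ : ∃ k l, B k l ≠ 0 := by by_contra! hc; exact hB (Matrix.ext hc)
  have he : ∀ i j k l, A i j * B k l = A' i j * B' k l := fun i j k l => congrFun (congrFun h (i, k)) (j, l)
  have h0 := he i j k l
  have hB' : B' k l ≠ 0 := fun h1 => by rw [h1, mul_zero] at h0; exact mul_ne_zero hij hkl h0
  have hA' : A' i j ≠ 0 := fun h1 => by rw [h1, zero_mul] at h0; exact mul_ne_zero hij hkl h0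
  refine ⟨B k l / B' k l, div_ne_zero hkl hB', Matrix.ext fun u v => ?_, Matrix.ext fun u v => ?_⟩
  · rw [Matrix.smul_apply, smul_eq_mul, div_mul_eq_mul_div, eq_div_iff hB']
    linear_combination -(he u v k l)
  · rw [Matrix.smul_apply, smul_eq_mul, div_mul_eq_mul_div, eq_div_iff hB']
    refine mul_left_cancel₀ hij ?_
    linear_combination (B' k l) * he i j u v - (B' u v) * h0

/-- The pair acting on the tensor product. -/
def kronHom (F : Type*) [Field F] : GL (Fin 3) F × GL (Fin 3) F →* GL (Fin 3 × Fin 3) F where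
  toFun p := ⟨(p.1 : Matrix (Fin 3) (Fin 3) F) ⊗ₖ (p.2 : Matrix (Fin 3) (Fin 3) F),
    ((p.1⁻¹ : GL (Fin 3) F) : Matrix (Fin 3) (Fin 3) F) ⊗ₖ ((p.2⁻¹ : GL (Fin 3) F) : Matrix (Fin 3) (Fin 3) F),
    by simp [← Matrix.mul_kronecker_mul], by simp [← Matrix.mul_kronecker_mul]⟩
  map_one' := Units.ext Matrix.one_kronecker_one
  map_mul' p q := Units.ext (Matrix.mul_kronecker_mul _ _ _ _)

/-- The pair acting in given coordinates. -/
def tensorHom (e : Fin n ≃ Fin 3 × Fin 3) (P : GL (Fin n) F) : GL (Fin 3) F × GL (Fin 3) F →* GL (Fin n) F :=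
  ((MulAut.conj P).toMonoidHom.comp (Geo.glReindex (F := F) e.symm).toMonoidHom).comp (kronHom F)

variable {e : Fin n ≃ Fin 3 × Fin 3} {P : GL (Fin n) F}

omit [Fintype F] in
theorem tensorHom_coe (p : GL (Fin 3) F × GL (Fin 3) F) : (tensorHom e P p : Matrix (Fin n) (Fin n) F) =
    cj P (Matrix.reindexAlgEquiv F F e.symm
      ((p.1 : Matrix (Fin 3) (Fin 3) F) ⊗ₖ (p.2 : Matrix (Fin 3) (Fin 3) F))) := rfl

theorem tensorHom_eq {p p' : GL (Fin 3) F × GL (Fin 3) F} (h : tensorHom e P p = tensorHom e P p') :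
    ∃ c : F, c ≠ 0 ∧ (p'.1 : Matrix (Fin 3) (Fin 3) F) = c • (p.1 : Matrix (Fin 3) (Fin 3) F) ∧
      (p.2 : Matrix (Fin 3) (Fin 3) F) = c • (p'.2 : Matrix (Fin 3) (Fin 3) F) := by
  have h1 := congrArg Units.val h
  rw [tensorHom_coe, tensorHom_coe] at h1
  exact kronecker_eq p.1.ne_zero p.2.ne_zero ((Matrix.reindexAlgEquiv F F e.symm).injective ((cj P).injective h1))

theorem tensorHom_iso (hσ : QAut 2 σ) (hP : P ∈ isoGroup σ) {p : GL (Fin 3) F × GL (Fin 3) F}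
    (h1 : p.1 ∈ isoGroup σ) (h2 : p.2 ∈ isoGroup σ) : tensorHom e P p ∈ isoGroup σ := by
  refine (isoGroup σ).mul_mem ((isoGroup σ).mul_mem hP (mem_isoGroup_of_sadj ?_ hσ)) ((isoGroup σ).inv_mem hP)
  show sadj σ (Matrix.reindexAlgEquiv F F e.symm (_ ⊗ₖ _)) * Matrix.reindexAlgEquiv F F e.symm (_ ⊗ₖ _) = 1
  rw [sadj_reindex, ← map_mul, sadj_kronecker, ← Matrix.mul_kronecker_mul, sadj_coe hσ h1, sadj_coe hσ h2,
    Units.inv_mul, Units.inv_mul, Matrix.one_kronecker_one, map_one]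

theorem exists_iso_factors (hσ : QAut 2 σ) (hP : P ∈ isoGroup σ) {g : GL (Fin n) F} (hg : g ∈ isoGroup σ)
    (hgt : g ∈ Geo.tensorProductSubgroup 3 3 e P) :
    ∃ p : GL (Fin 3) F × GL (Fin 3) F, p.1 ∈ isoGroup σ ∧ p.2 ∈ isoGroup σ ∧ g = tensorHom e P p := by
  obtain ⟨_, ⟨z, ⟨A, B, hz⟩, rfl⟩, rfl⟩ := hgt
  have hgd : (MulAut.conj P).toMonoidHom ((Geo.glReindex (F := F) e.symm).toMonoidHom z) = tensorHom e P (A, B) := by
    show _ = P * Geo.glReindex (F := F) e.symm (kronHom F (A, B)) * P⁻¹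
    rw [show kronHom F (A, B) = z from Units.ext hz.symm]
    rfl
  rw [hgd] at hg
  have h0 : Geo.glReindex (F := F) e.symm (kronHom F (A, B)) ∈ isoGroup σ := by
    have := (isoGroup σ).mul_mem ((isoGroup σ).mul_mem ((isoGroup σ).inv_mem hP) hg) hP
    simpa [tensorHom, mul_assoc] using this
  have hk : (sadj σ (A : Matrix (Fin 3) (Fin 3) F) * A.val) ⊗ₖ (sadj σ (B : Matrix (Fin 3) (Fin 3) F) * B.val) = 1 := by
    refine (Matrix.reindexAlgEquiv F F e.symm).injective ?_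
    rw [map_one, Matrix.mul_kronecker_mul, map_mul, ← sadj_kronecker, ← sadj_reindex]
    have h1 := sadj_coe hσ h0
    show sadj σ (Geo.glReindex (F := F) e.symm (kronHom F (A, B)) : Matrix (Fin n) (Fin n) F) *
      (Geo.glReindex (F := F) e.symm (kronHom F (A, B)) : Matrix (Fin n) (Fin n) F) = 1
    rw [h1, Units.inv_mul]
  have key : ∀ (X Y : Matrix (Fin 3) (Fin 3) F), X ⊗ₖ Y = 1 → sadj σ X = X → X = 1 := by
    intro X Y h hX
    have hY0 : Y ≠ 0 := fun h0 => by rw [h0, Matrix.kronecker_zero] at h; exact zero_ne_one h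
    have hX0 : X ≠ 0 := fun h0 => by rw [h0, Matrix.zero_kronecker] at h; exact zero_ne_one h
    obtain ⟨c, hc0, hc, -⟩ := kronecker_eq hX0 hY0 (h.trans Matrix.one_kronecker_one.symm)
    have hXc : X = c⁻¹ • (1 : Matrix (Fin 3) (Fin 3) F) := by rw [hc, smul_smul, inv_mul_cancel₀ hc0, one_smul]
    rw [hXc, sadj_smul, sadj_one] at hX
    have hfix : σ c⁻¹ = c⁻¹ := smul_left_injective F (one_ne_zero (α := Matrix (Fin 3) (Fin 3) F)) hX
    rw [hσ.apply, pow_two] at hfix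
    have h1 : c⁻¹ = 1 := mul_left_cancel₀ (inv_ne_zero hc0) (hfix.trans (mul_one _).symm)
    rw [hXc, h1, one_smul]
  have hherm : ∀ A : GL (Fin 3) F, sadj σ (sadj σ (A : Matrix (Fin 3) (Fin 3) F) * A.val) =
      sadj σ (A : Matrix (Fin 3) (Fin 3) F) * A.val := fun A => by rw [sadj_mul, sadj_sadj hσ]
  have hA := key _ _ hk (hherm A)
  rw [hA] at hk
  have hB : sadj σ (B : Matrix (Fin 3) (Fin 3) F) * B.val = 1 :=
    one_kronecker_injective (by norm_num : 0 < 3) (hk.trans Matrix.one_kronecker_one.symm)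
  exact ⟨(A, B), mem_isoGroup_of_sadj hA hσ, mem_isoGroup_of_sadj hB hσ, hgd⟩

/-- The class six group. -/
def R9 (φ : W4 →+* F) (e : Fin n ≃ Fin 3 × Fin 3) (P : GL (Fin n) F) : Subgroup (GL (Fin n) F) :=
  ((R3 φ).prod (R3 φ)).map (tensorHom e P)

theorem R9_full : Full (R9 φ e P) := by
  let L : Matrix (Fin 3) (Fin 3) F →ₐ[F] Matrix (Fin n) (Fin n) F :=
    ((cj P).toAlgHom.comp (Matrix.reindexAlgEquiv F F e.symm).toAlgHom).comp
      (AlgHom.ofLinearMap
        { toFun := fun X => X ⊗ₖ (1 : Matrix (Fin 3) (Fin 3) F)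
          map_add' := fun X Y => Matrix.add_kronecker X Y _
          map_smul' := fun c X => Matrix.smul_kronecker c X _ } Matrix.one_kronecker_one
        fun X Y => by
          show (X * Y) ⊗ₖ (1 : Matrix (Fin 3) (Fin 3) F) = (X ⊗ₖ (1 : Matrix (Fin 3) (Fin 3) F)) * (Y ⊗ₖ 1)
          rw [← Matrix.mul_kronecker_mul, one_mul])
  let R : Matrix (Fin 3) (Fin 3) F →ₐ[F] Matrix (Fin n) (Fin n) F :=
    ((cj P).toAlgHom.comp (Matrix.reindexAlgEquiv F F e.symm).toAlgHom).comp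
      (AlgHom.ofLinearMap
        { toFun := fun X => (1 : Matrix (Fin 3) (Fin 3) F) ⊗ₖ X
          map_add' := fun X Y => Matrix.kronecker_add _ X Y
          map_smul' := fun c X => Matrix.kronecker_smul c _ X } Matrix.one_kronecker_one
        fun X Y => by
          show (1 : Matrix (Fin 3) (Fin 3) F) ⊗ₖ (X * Y) = ((1 : Matrix (Fin 3) (Fin 3) F) ⊗ₖ X) * (1 ⊗ₖ Y)
          rw [← Matrix.mul_kronecker_mul, one_mul])
  have hL : ∀ X, L X ∈ alg (R9 φ e P) := by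
    intro X
    have h : X ∈ alg (R3 φ) := (R3_full : alg (R3 φ) = ⊤) ▸ Algebra.mem_top
    refine (Algebra.adjoin_le (S := (alg (R9 φ e P)).comap L) ?_) h
    rintro _ ⟨g, hg, rfl⟩
    exact coe_mem_alg (N := R9 φ e P) (x := tensorHom e P (g, 1)) ⟨(g, 1), ⟨hg, one_mem _⟩, rfl⟩
  have hR : ∀ X, R X ∈ alg (R9 φ e P) := by
    intro X
    have h : X ∈ alg (R3 φ) := (R3_full : alg (R3 φ) = ⊤) ▸ Algebra.mem_top
    refine (Algebra.adjoin_le (S := (alg (R9 φ e P)).comap R) ?_) h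
    rintro _ ⟨g, hg, rfl⟩
    exact coe_mem_alg (N := R9 φ e P) (x := tensorHom e P (1, g)) ⟨(1, g), ⟨one_mem _, hg⟩, rfl⟩
  refine top_le_iff.1 fun X _ => ?_
  obtain ⟨Y, rfl⟩ := ((Matrix.reindexAlgEquiv F F e.symm).trans (cj P)).surjective X
  rw [Matrix.matrix_eq_sum_single Y, map_sum]
  refine Subalgebra.sum_mem _ fun x _ => ?_
  rw [map_sum]
  refine Subalgebra.sum_mem _ fun y _ => ?_
  have h1 : Matrix.single x y (Y x y) =
      ((Y x y • Matrix.single x.1 y.1 1) ⊗ₖ (1 : Matrix (Fin 3) (Fin 3) F)) *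
        ((1 : Matrix (Fin 3) (Fin 3) F) ⊗ₖ Matrix.single x.2 y.2 1) := by
    rw [← Matrix.mul_kronecker_mul, mul_one, one_mul, Matrix.smul_single, Matrix.single_kronecker_single,
      smul_eq_mul, mul_one, mul_one]
  rw [h1, map_mul]
  exact mul_mem (hL _) (hR _)

theorem R9_card (hφ : Model σ φ) : Nat.card (R9 φ e P) = 3 ^ (1 + 2 * 2) := by
  classical
  let f : ZMod 3 × (ZMod 3 × ZMod 3) × (ZMod 3 × ZMod 3) → R9 φ e P := fun a =>
    ⟨tensorHom e P (eltGL φ (a.1, a.2.1), eltGL φ (0, a.2.2)), _, ⟨eltGL_mem φ _, eltGL_mem φ _⟩, rfl⟩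
  have hsc : ∀ k (x : ZMod 3 × ZMod 3), elt (k, x) = W4.w ^ k.val • elt (0, x) := fun k x => by
    simp [elt, CfsgLib.Classical.SmallIso.sc3, ← Matrix.smul_eq_diagonal_mul]
  have hsm : ∀ (r : W4) (M : Matrix (Fin 3) (Fin 3) W4), φ.mapMatrix (r • M) = φ r • φ.mapMatrix M := fun r M => by
    ext i j; simp
  have hf : Function.Bijective f := by
    constructor
    · rintro ⟨k, x, y⟩ ⟨k', x', y'⟩ h
      obtain ⟨c, hc0, hc1, hc2⟩ := tensorHom_eq (congrArg Subtype.val h)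
      obtain ⟨r, rfl⟩ := hφ.bij.2 c
      change φ.mapMatrix (elt (k', x')) = φ r • φ.mapMatrix (elt (k, x)) at hc1
      change φ.mapMatrix (elt (0, y)) = φ r • φ.mapMatrix (elt (0, y')) at hc2
      rw [← hsm] at hc1 hc2
      have e1 : elt (k', x') = r • elt (k, x) := Matrix.map_injective hφ.bij.1 hc1
      have e2 : elt (0, y) = r • elt (0, y') := Matrix.map_injective hφ.bij.1 hc2
      have hr : r = 1 ∨ r = W4.w ∨ r = W4.w * W4.w := by
        have : ∀ r : W4, r ≠ 0 → r = 1 ∨ r = W4.w ∨ r = W4.w * W4.w := by decide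
        exact this r fun h0 => hc0 (by rw [h0, map_zero])
      obtain ⟨l, rfl⟩ : ∃ l : ZMod 3, W4.w ^ l.val = r := by
        rcases hr with rfl | rfl | rfl
        exacts [⟨0, rfl⟩, ⟨1, by decide⟩, ⟨2, by decide⟩]
      have hh : ∀ x, elt (0, x) = CfsgLib.Classical.SmallIso.heis x := fun x => by
        rw [elt, show CfsgLib.Classical.SmallIso.sc3 0 = 1 by decide +kernel, one_mul]
      have e3 : CfsgLib.Classical.SmallIso.heis y = CfsgLib.Classical.SmallIso.sc3 l * CfsgLib.Classical.SmallIso.heis y' := by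
        rw [← hh, e2, ← hsc]; rfl
      obtain ⟨rfl, rfl⟩ := elt_sep _ _ _ e3
      rw [show W4.w ^ (0 : ZMod 3).val = 1 from rfl, one_smul] at e1
      rw [hsc k' x', hsc k x] at e1
      have hinv : ∀ (k k' : ZMod 3) (x x' : ZMod 3 × ZMod 3),
          CfsgLib.Classical.SmallIso.sc3 k' * CfsgLib.Classical.SmallIso.heis x' =
            CfsgLib.Classical.SmallIso.sc3 k * CfsgLib.Classical.SmallIso.heis x → k = k' ∧ x = x' := by decide +kernel
      obtain ⟨rfl, rfl⟩ := hinv k k' x x' (by rw [← hsc, ← hsc] at e1; exact e1)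
      rfl
    · rintro ⟨_, ⟨g, g'⟩, ⟨hg, hg'⟩, rfl⟩
      obtain ⟨⟨k, x⟩, rfl⟩ := eq_eltGL hg
      obtain ⟨⟨l, y⟩, rfl⟩ := eq_eltGL hg'
      refine ⟨(k + l, x, y), Subtype.ext (Units.ext ?_)⟩
      show (tensorHom e P (eltGL φ (k + l, x), eltGL φ (0, y)) : Matrix (Fin n) (Fin n) F) = _
      rw [tensorHom_coe, tensorHom_coe]
      refine congrArg (fun Z => cj P (Matrix.reindexAlgEquiv F F e.symm Z)) ?_
      show φ.mapMatrix (elt (k + l, x)) ⊗ₖ φ.mapMatrix (elt (0, y)) = φ.mapMatrix (elt (k, x)) ⊗ₖ φ.mapMatrix (elt (l, y))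
      rw [hsc (k + l) x, hsc k x, hsc l y, hsm, hsm, hsm, Matrix.smul_kronecker, Matrix.smul_kronecker,
        Matrix.kronecker_smul, smul_smul, ← map_mul, ← pow_add]
      congr 2
      have : ∀ k l : ZMod 3, W4.w ^ (k + l).val = W4.w ^ (k.val + l.val) := by decide +kernel
      exact this k l
  rw [← Nat.card_eq_of_bijective f hf, Nat.card_eq_fintype_card, Fintype.card_prod, Fintype.card_prod, Fintype.card_prod,
    ZMod.card]
  norm_num

theorem R9_center_card (hσ : QAut 2 σ) (hn : 0 < n) (hφ : Model σ φ) : Nat.card (Subgroup.center (R9 φ e P)) = 3 := by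
  classical
  haveI : Nonempty (Fin n) := ⟨⟨0, hn⟩⟩
  let S : Fˣ → GL (Fin n) F := Units.map (Matrix.scalar (Fin n) : F →+* Matrix (Fin n) (Fin n) F).toMonoidHom
  have hS : ∀ c : Fˣ, (S c : Matrix (Fin n) (Fin n) F) = (c : F) • 1 := fun c => by
    simp [S, Matrix.smul_one_eq_diagonal]
  have hmem : ∀ c : Fˣ, S c ∈ R9 φ e P := by
    intro c
    obtain ⟨r, hr⟩ := hφ.bij.2 (c : F)
    obtain ⟨l, hl⟩ : ∃ l : ZMod 3, W4.w ^ l.val = r := by
      have : ∀ r : W4, r ≠ 0 → ∃ l : ZMod 3, W4.w ^ l.val = r := by decide +kernel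
      exact this r fun h0 => c.ne_zero (by rw [← hr, h0, map_zero])
    refine ⟨(eltGL φ (l, 0), 1), ⟨eltGL_mem φ _, one_mem _⟩, Units.ext ?_⟩
    rw [tensorHom_coe, hS]
    show cj P (Matrix.reindexAlgEquiv F F e.symm (φ.mapMatrix (elt (l, 0)) ⊗ₖ (1 : Matrix (Fin 3) (Fin 3) F))) = _
    have h1 : φ.mapMatrix (elt (l, 0)) = (c : F) • (1 : Matrix (Fin 3) (Fin 3) F) := by
      rw [← hr, ← hl, elt, heis_zero, mul_one,
        CfsgLib.Classical.SmallIso.sc3]
      ext i j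
      simp [Matrix.one_apply, Matrix.diagonal, apply_ite φ]
    rw [h1, Matrix.smul_kronecker, Matrix.one_kronecker_one, map_smul, map_one, map_smul, map_one]
  let g : Fˣ → Subgroup.center (R9 φ e P) := fun c => ⟨⟨S c, hmem c⟩, Subgroup.mem_center_iff.2 fun x =>
    Subtype.ext (Units.ext (by
      show (x : GL (Fin n) F).val * (S c : Matrix (Fin n) (Fin n) F) = (S c : Matrix (Fin n) (Fin n) F) * _
      rw [hS, Matrix.mul_smul, mul_one, Matrix.smul_mul, one_mul]))⟩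
  have hg : Function.Bijective g := by
    refine ⟨fun c d h => Units.ext ?_, fun z => ?_⟩
    · have h1 : (S c : Matrix (Fin n) (Fin n) F) = S d := congrArg (fun z => z.1.1.val) h
      rw [hS, hS] at h1
      exact smul_left_injective F (one_ne_zero (α := Matrix (Fin n) (Fin n) F)) h1
    · obtain ⟨c, hc⟩ := (show Full (R9 φ e P) from R9_full).commute_scalar (X := z.1.1.val) fun x hx =>
        (congrArg (fun y : R9 φ e P => y.1.val) (Subgroup.mem_center_iff.1 z.2 ⟨x, hx⟩)).symm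
      have hc0 : c ≠ 0 := fun h0 => z.1.1.ne_zero (by rw [hc, h0, zero_smul])
      exact ⟨Units.mk0 c hc0, Subtype.ext (Subtype.ext (Units.ext ((hS _).trans hc.symm)))⟩
  rw [← Nat.card_eq_of_bijective g hg, Nat.card_units, Nat.card_eq_fintype_card, hσ.card]
  norm_num

theorem R9_symp (hσ : QAut 2 σ) (hn : 0 < n) (hφ : Model σ φ) : Geo.IsSymplecticTypeGroup 3 (R9 φ e P) := by
  have hcube : ∀ x : R9 φ e P, x ^ 3 = 1 := by
    rintro ⟨_, ⟨g, g'⟩, ⟨hg, hg'⟩, rfl⟩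
    refine Subtype.ext ?_
    show tensorHom e P (g, g') ^ 3 = 1
    rw [← map_pow, Prod.pow_mk, R3_cube hg, R3_cube hg', Prod.mk_one_one, map_one]
  have h3 : Fact (Nat.Prime 3) := ⟨by norm_num⟩
  have hp : IsPGroup 3 (R9 φ e P) := fun x => ⟨1, by rw [pow_one]; exact hcube x⟩
  haveI : Nontrivial (R9 φ e P) := by
    rw [← Finite.one_lt_card_iff_nontrivial, R9_card hφ]; norm_num
  refine ⟨by norm_num, hp, fun A hA hc => ?_, ?_⟩
  · haveI : IsCyclic (Subgroup.center (R9 φ e P)) := isCyclic_of_prime_card (p := 3) (R9_center_card hσ hn hφ)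
    suffices hle : A ≤ Subgroup.center (R9 φ e P) from
      isCyclic_of_injective (Subgroup.inclusion hle) (Subgroup.inclusion_injective hle)
    let u : GL (Fin 3) F := ⟨φ.mapMatrix CfsgLib.Classical.SmallIso.qA,
      φ.mapMatrix (TwoThree.adj CfsgLib.Classical.SmallIso.qA),
      by rw [← map_mul, qA_unitary.2, map_one], by rw [← map_mul, qA_unitary.1, map_one]⟩
    have hu : u ∈ isoGroup σ := mem_isoGroup_of_sadj (by
      show sadj σ (φ.mapMatrix _) * φ.mapMatrix _ = 1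
      rw [← hφ.adj, ← map_mul, qA_unitary.1, map_one]) hσ
    -- a pair whose automorphism moves a non-central element out of its centraliser
    have hconj : ∀ w : GL (Fin 3) F × GL (Fin 3) F, w.1 ∈ isoGroup σ → w.2 ∈ isoGroup σ →
        ∀ (p : GL (Fin 3) F × GL (Fin 3) F) (hp : p ∈ (R3 φ).prod (R3 φ)),
          (⟨tensorHom e P p, p, hp, rfl⟩ : R9 φ e P) ∈ A →
          tensorHom e P (w * p * w⁻¹ * p) = tensorHom e P (p * (w * p * w⁻¹)) := by
      intro w hw1 hw2 p hp hpA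
      have hmem : ∀ v : GL (Fin 3) F × GL (Fin 3) F, v.1 ∈ isoGroup σ → v.2 ∈ isoGroup σ → ∀ x ∈ R9 φ e P,
          tensorHom e P v * x * (tensorHom e P v)⁻¹ ∈ R9 φ e P := by
        rintro v hv1 hv2 _ ⟨r, hr, rfl⟩
        exact ⟨v * r * v⁻¹, ⟨iso_normalises hσ hφ hv1 hr.1, iso_normalises hσ hφ hv2 hr.2⟩,
          by rw [map_mul, map_mul, map_inv]⟩
      let α : R9 φ e P ≃* R9 φ e P :=
        { toFun := fun x => ⟨tensorHom e P w * x.1 * (tensorHom e P w)⁻¹, hmem w hw1 hw2 x x.2⟩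
          invFun := fun x => ⟨tensorHom e P w⁻¹ * x.1 * (tensorHom e P w⁻¹)⁻¹,
            hmem w⁻¹ ((isoGroup σ).inv_mem hw1) ((isoGroup σ).inv_mem hw2) x x.2⟩
          left_inv := fun x => Subtype.ext (by simp [mul_assoc])
          right_inv := fun x => Subtype.ext (by simp [mul_assoc])
          map_mul' := fun x y => Subtype.ext (by simp [mul_assoc]) }
      have h1 : α ⟨tensorHom e P p, p, hp, rfl⟩ ∈ A :=
        (Subgroup.characteristic_iff_map_eq.1 hA α) ▸ Subgroup.mem_map_of_mem α.toMonoidHom hpA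
      have h2 := congrArg (fun z : A => z.1.1) (hc.is_comm.comm ⟨_, h1⟩ ⟨_, hpA⟩)
      simpa [α, map_mul, map_inv] using h2
    rintro ⟨_, ⟨g, g'⟩, ⟨hg, hg'⟩, rfl⟩ hA'
    obtain ⟨⟨k, x⟩, rfl⟩ := eq_eltGL hg
    obtain ⟨⟨l, y⟩, rfl⟩ := eq_eltGL hg'
    have hkey : ∀ a : ZMod 3 × ZMod 3 × ZMod 3, ∀ v v' : GL (Fin 3) F,
        v = u * eltGL φ a * u⁻¹ * eltGL φ a → v' = eltGL φ a * (u * eltGL φ a * u⁻¹) → v = v' → a.2 = 0 := by
      intro a v v' hv hv' hvv
      by_contra hne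
      refine elt_noncomm a hne (Matrix.map_injective hφ.bij.1 ?_)
      have h := congrArg Units.val (hv.symm.trans (hvv.trans hv'))
      simp only [Units.val_mul] at h
      show φ.mapMatrix _ = φ.mapMatrix _
      rw [map_mul, map_mul, map_mul, map_mul, map_mul, map_mul]
      exact h
    have hcancel : ∀ {v v' : GL (Fin 3) F × GL (Fin 3) F}, tensorHom e P v = tensorHom e P v' →
        (v.2 = v'.2 → v.1 = v'.1) ∧ (v.1 = v'.1 → v.2 = v'.2) := by
      intro v v' h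
      obtain ⟨c, -, h1, h2⟩ := tensorHom_eq h
      refine ⟨fun h3 => ?_, fun h3 => ?_⟩
      · rw [h3] at h2
        have : c = 1 := (smul_left_injective F v'.2.ne_zero (by show (1 : F) • _ = c • _; rw [one_smul]; exact h2)).symm
        rw [this, one_smul] at h1
        exact (Units.ext h1).symm
      · rw [h3] at h1
        have : c = 1 := (smul_left_injective F v'.1.ne_zero (by show (1 : F) • _ = c • _; rw [one_smul]; exact h1)).symm
        rw [this, one_smul] at h2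
        exact Units.ext h2
    have hx : x = 0 := hkey (k, x) _ _ rfl rfl ((hcancel (hconj (u, 1) hu (one_mem _) (eltGL φ (k, x), eltGL φ (l, y))
      ⟨hg, hg'⟩ hA')).1 (by simp))
    have hy : y = 0 := hkey (l, y) _ _ rfl rfl ((hcancel (hconj (1, u) (one_mem _) hu (eltGL φ (k, x), eltGL φ (l, y))
      ⟨hg, hg'⟩ hA')).2 (by simp))
    subst hx hy
    refine Subgroup.mem_center_iff.2 fun z => Subtype.ext ?_
    obtain ⟨_, ⟨z1, z2⟩, -, rfl⟩ := z
    show tensorHom e P (z1, z2) * tensorHom e P (_, _) = tensorHom e P (_, _) * tensorHom e P (z1, z2)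
    have hcm : ∀ k : ZMod 3, ∀ z : GL (Fin 3) F, z * eltGL φ (k, 0) = eltGL φ (k, 0) * z := fun k z => by
      refine Units.ext ?_
      show z.val * φ.mapMatrix (elt (k, 0)) = φ.mapMatrix (elt (k, 0)) * z.val
      have h1 : φ.mapMatrix (elt (k, 0)) = φ (W4.w ^ k.val) • (1 : Matrix (Fin 3) (Fin 3) F) := by
        rw [elt, heis_zero, mul_one, CfsgLib.Classical.SmallIso.sc3]
        ext i j
        simp [Matrix.one_apply, Matrix.diagonal, apply_ite φ]
      rw [h1, Matrix.mul_smul, mul_one, Matrix.smul_mul, one_mul]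
    rw [← map_mul, ← map_mul, Prod.mk_mul_mk, Prod.mk_mul_mk, hcm, hcm]
  · rw [show Nat.gcd 2 3 = 1 from rfl, mul_one]
    refine ((Nat.dvd_prime (by norm_num)).1 (Monoid.exponent_dvd_of_forall_pow_eq_one hcube)).resolve_left fun h => ?_
    haveI := Monoid.exp_eq_one_iff.1 h
    exact false_of_nontrivial_of_subsingleton (R9 φ e P)

end TwoThree

open TwoThree in
/-- The tensor square of the three-dimensional unitary space over four elements lies in a class six member. -/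
theorem unitaryGeometric_of_tensorTwoThree (hσ : QAut 2 σ) (hn : 0 < n) {H : Subgroup (GL (Fin n) F)}
    (hH : H ≤ GU n F 2) {e : Fin n ≃ Fin 3 × Fin 3} {P : GL (Fin n) F} (hP : P ∈ isoGroup σ)
    (hle : H ≤ Geo.tensorProductSubgroup 3 3 e P) : UnitaryGeometric 2 H := by
  obtain ⟨φ, hφ⟩ := exists_model hσ
  have hiso : H ≤ isoGroup σ := gu_eq_isoGroup hσ ▸ hH
  have hnorm : H ≤ Geo.subgroupNormalizer (R9 φ e P) := by
    have hmem : ∀ h ∈ H, ∀ x ∈ R9 φ e P, h * x * h⁻¹ ∈ R9 φ e P := by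
      intro h hh x hx
      obtain ⟨v, hv1, hv2, rfl⟩ := exists_iso_factors hσ hP (hiso hh) (hle hh)
      obtain ⟨r, hr, rfl⟩ := hx
      exact ⟨v * r * v⁻¹, ⟨iso_normalises hσ hφ hv1 hr.1, iso_normalises hσ hφ hv2 hr.2⟩,
        by rw [map_mul, map_mul, map_inv]⟩
    exact fun g hg x => ⟨fun hx => hmem g hg x hx, fun hx => by simpa [mul_assoc] using hmem _ (H.inv_mem hg) _ hx⟩
  have hR : R9 φ e P ≤ isoGroup σ := by
    rintro _ ⟨r, hr, rfl⟩
    exact tensorHom_iso hσ hP (R3_le_iso hσ hφ hr.1) (R3_le_iso hσ hφ hr.2)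
  haveI : Nonempty (Fin n) := ⟨⟨0, hn⟩⟩
  haveI : Fact (Nat.Prime 2) := ⟨by norm_num⟩
  have hc2 : CharP F 2 := by
    refine ringChar.of_eq ((FiniteField.even_card_iff_char_two (F := F)).2 ?_)
    rw [hσ.card]; norm_num
  refine ⟨_, Or.inl (Or.inr (Or.inr (Or.inr (Or.inr (Or.inr (Or.inr (Or.inr ⟨3, R9 φ e P, 2, 2, 2,
    R9_symp hσ hn hφ, R9_full.actsAbsolutelyIrreducibly, le_similarity_hermForm hσ hR, by norm_num,
    ⟨by norm_num, hc2, hσ.card, ?_, ?_⟩, Or.inl ⟨by decide, R9_center_card hσ hn hφ, by norm_num, R9_card hφ⟩,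
    rfl⟩))))))), le_inf hnorm hH⟩
  · rw [R9_center_card hσ hn hφ]; norm_num
  · intro d hd0 hd2
    rw [R9_center_card hσ hn hφ]
    interval_cases d
    norm_num

end CfsgLib.Aschbacher
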